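import Cfsg.Agent.M24Nse.ModelData
import Cfsg.Agent.M23Nse.ModelSearch
import Cfsg.Agent.Nse.Basic
import Mathlib.GroupTheory.GroupAction.Quotient

/-!
# Bounds for centralisers and a test for conjugacy in the model

An element taking `X` to `Y` is an element moving `23` to some admissible point followed by one fixing
`23`, and these are listed by the search along the base.
-/

set_option autoImplicit false
set_option linter.style.haveILetI false
set_option maxHeartbeats 400000

namespace CfsgLib.M24Nse.Model

open Cfsg CfsgLib.Golay CfsgLib.Golay.Cert Subgroup MulAction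
open CfsgLib.M23Nse.Model (conjs code comp packL code_eq comp_code code_injective mem_conjs)

/-- The image of a position under an iterate. -/
def itr (L : List ℕ) : ℕ → ℕ → ℕ
  | 0, i => i
  | k + 1, i => L.getD (itr L k i) 0

/-- Whether `p` may be the image of `23` under an element taking `X` to `Y`. -/
def sigB (X Y : List ℕ) (p : ℕ) : Bool :=
  (List.range 13).all fun k => Nat.beq (itr X k 23) 23 == Nat.beq (itr Y k p) p

/-- The packed elements taking `X` to `Y`. -/
def conjsAll (X Y : List ℕ) : List ℕ :=
  (List.range 24).flatMap fun p =>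
    if sigB X Y p then
      (conjs X (compL (invL (baseMoves.getD p [])) (compL Y (baseMoves.getD p [])))).map
        (comp (packL (baseMoves.getD p [])))
    else []

/-- A bound from the point `23` and the elements fixing it. -/
def centBoundAt (X : List ℕ) : ℕ :=
  ((List.range 24).filter (sigB X X)).length * (conjs X X).length

theorem baseMoves_ok : ∀ p < 24, genOK (baseMoves.getD p []) = true ∧
    (baseMoves.getD p []).getD 23 0 = p := by decide +kernel

theorem itr_spec {σ : Equiv.Perm GolayPt} {L : List ℕ} (h : toList σ = L) :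
    ∀ k i, i < 24 → itr L k i = idx ((σ ^ k) (pt i))
  | 0, i, hi => by rw [itr, pow_zero, Equiv.Perm.one_apply, idx_pt i hi]
  | k + 1, i, hi => by
    rw [itr, itr_spec h k i hi, ← h, toList_getD _ (idx_lt _), pt_idx, pow_succ', Equiv.Perm.mul_apply]

section

variable {x y g : M24} {X Y : List ℕ} (hX : toList (x : Equiv.Perm GolayPt) = X)
  (hY : toList (y : Equiv.Perm GolayPt) = Y) (h : g * x = y * g)
include hX hY h

theorem sig_of_conj : sigB X Y (idx ((g : Equiv.Perm GolayPt) (pt 23))) = true := by
  simp only [sigB, List.all_eq_true, beq_iff_eq]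
  intro k _
  have hk : g * x ^ k = y ^ k * g := (show SemiconjBy g x y from h).pow_right k
  have hk' := congrArg (fun u : M24 => (u : Equiv.Perm GolayPt) (pt 23)) hk
  simp only [Subgroup.coe_mul, Equiv.Perm.mul_apply, SubmonoidClass.coe_pow] at hk'
  rw [Bool.eq_iff_iff, Nat.beq_eq, Nat.beq_eq, itr_spec hX k 23 (by norm_num),
    itr_spec hY k _ (idx_lt _), pt_idx, ← hk']
  constructor
  · intro e
    have e' : ((x : Equiv.Perm GolayPt) ^ k) (pt 23) = pt 23 :=
      idx_injective (by rw [e, idx_pt 23 (by norm_num)])
    rw [e']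
  · intro e
    rw [((g : Equiv.Perm GolayPt).injective (idx_injective e)), idx_pt 23 (by norm_num)]

attribute [local irreducible] conjs sigB comp packL code baseMoves compL invL in
theorem mem_conjsAll : code g ∈ conjsAll X Y := by
  set p := idx ((g : Equiv.Perm GolayPt) (pt 23)) with hp
  obtain ⟨ht, ht23⟩ := baseMoves_ok p (idx_lt _)
  obtain ⟨τ, hτ⟩ := genOK_spec ht
  refine List.mem_flatMap.2 ⟨p, List.mem_range.2 (idx_lt _), ?_⟩
  rw [if_pos (sig_of_conj hX hY h), List.mem_map]
  refine ⟨code (τ⁻¹ * g), mem_conjs (y := τ⁻¹ * y * τ) hX ?_ ?_ ?_, ?_⟩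
  · rw [Subgroup.coe_mul, Subgroup.coe_mul, Subgroup.coe_inv, mul_assoc, toList_mul, toList_mul,
      toList_inv, hτ, hY]
  · rw [toList_getD _ (by norm_num), Subgroup.coe_mul, Subgroup.coe_inv, Equiv.Perm.mul_apply]
    have e : (τ : Equiv.Perm GolayPt) (pt 23) = (g : Equiv.Perm GolayPt) (pt 23) :=
      idx_injective (by rw [← hp, ← ht23, ← hτ, toList_getD _ (by norm_num)])
    rw [← e, Equiv.Perm.inv_def, Equiv.symm_apply_apply, idx_pt 23 (by norm_num)]
  · rw [mul_assoc τ⁻¹ g, h]; group
  · rw [← code_eq hτ, comp_code, mul_inv_cancel_left]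

end

variable {x : M24} {X : List ℕ}

attribute [local irreducible] conjsAll code in
theorem card_centralizer_le_all (hX : toList (x : Equiv.Perm GolayPt) = X) {c : ℕ}
    (hc : (conjsAll X X).length = c) : Nat.card (centralizer ({x} : Set M24)) ≤ c := by
  have hmem : ∀ d : ↥(centralizer ({x} : Set M24)), code d.1 ∈ conjsAll X X :=
    fun d => mem_conjsAll hX hX (mem_centralizer_singleton_iff.1 d.2)
  revert hmem hc
  generalize conjsAll X X = l
  intro hc hmem
  refine (Nat.card_le_card_of_injective
    (fun d => (⟨code d.1, List.mem_toFinset.2 (hmem d)⟩ : l.toFinset))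
    fun a b e => Subtype.ext (code_injective (congrArg Subtype.val e))).trans ?_
  rw [Nat.card_eq_finsetCard, ← hc]
  exact List.toFinset_card_le _

attribute [local irreducible] conjs sigB code in
theorem card_centralizer_le_at (hX : toList (x : Equiv.Perm GolayPt) = X) {c : ℕ}
    (hc : centBoundAt X = c) : Nat.card (centralizer ({x} : Set M24)) ≤ c := by
  classical
  set C := centralizer ({x} : Set M24) with hC
  have horb : Nat.card (orbit C (pt 23)) ≤ ((List.range 24).filter (sigB X X)).length := by
    let F := (((List.range 24).filter (sigB X X)).map pt).toFinset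
    have hsub : orbit C (pt 23) ⊆ (F : Set GolayPt) := by
      rintro _ ⟨d, rfl⟩
      simp only [F, List.coe_toFinset, Set.mem_ofPred_eq, List.mem_map, List.mem_filter, List.mem_range]
      refine ⟨idx ((d.1 : Equiv.Perm GolayPt) (pt 23)), ⟨idx_lt _, ?_⟩, pt_idx _⟩
      exact sig_of_conj hX hX (mem_centralizer_singleton_iff.1 d.2)
    calc Nat.card (orbit C (pt 23)) ≤ F.card := by
          rw [Nat.card_coe_set_eq, ← Set.ncard_coe_finset]
          exact Set.ncard_le_ncard hsub F.finite_toSet
      _ ≤ _ := (List.toFinset_card_le _).trans (by rw [List.length_map])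
  have hstab : Nat.card (stabilizer C (pt 23)) ≤ (conjs X X).length := by
    have hmem : ∀ d : stabilizer C (pt 23), code d.1.1 ∈ conjs X X := by
      rintro ⟨⟨d, hd⟩, hfix⟩
      refine mem_conjs hX hX ?_ (mem_centralizer_singleton_iff.1 hd)
      rw [toList_getD _ (by norm_num), show (d : Equiv.Perm GolayPt) (pt 23) = pt 23 from hfix,
        idx_pt 23 (by norm_num)]
    revert hmem
    generalize conjs X X = l
    intro hmem
    refine (Nat.card_le_card_of_injective
      (fun d => (⟨code d.1.1, List.mem_toFinset.2 (hmem d)⟩ : l.toFinset))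
      fun a b e => Subtype.ext (Subtype.ext (code_injective (congrArg Subtype.val e)))).trans ?_
    rw [Nat.card_eq_finsetCard]
    exact List.toFinset_card_le _
  calc Nat.card C = Nat.card (stabilizer C (pt 23)) * Nat.card (orbit C (pt 23)) := by
        rw [Nat.card_congr (orbitEquivQuotientStabilizer C (pt 23)), mul_comm,
          ← Subgroup.card_eq_card_quotient_mul_card_subgroup]
    _ ≤ c := by rw [← hc, centBoundAt, mul_comm]; exact Nat.mul_le_mul horb hstab

attribute [local irreducible] conjsAll code in
theorem not_isConj {y : M24} {Y : List ℕ} (hX : toList (x : Equiv.Perm GolayPt) = X)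
    (hY : toList (y : Equiv.Perm GolayPt) = Y) (h : (conjsAll X Y).length = 0) : ¬ IsConj x y :=
  fun ⟨g, hg⟩ => by
    have := mem_conjsAll (g := (g : M24)) hX hY hg.eq
    rw [List.eq_nil_of_length_eq_zero h] at this
    exact List.not_mem_nil this

end CfsgLib.M24Nse.Model
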