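import Cfsg.Agent.Monster.ExtraBasics
import Cfsg.Agent.M12Nse.Basic

/-!
A normal subgroup of order 128 with a Frobenius group of order 21 acting, fixed points `⟨k⟩` of the
element of order seven, centre `⟨k⟩` and non-abelian fixed points of order eight of the element of
order three, is extraspecial.
-/

set_option autoImplicit false
set_option linter.style.haveILetI false
set_option linter.unusedSectionVars false

namespace CfsgLib.M24Nse.Extra

open Subgroup CfsgLib.M12Nse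

universe u

variable {H : Type u} [Group H] [Finite H]

/-- The commutator used here. -/
def cm (a b : H) : H := a * b * a⁻¹ * b⁻¹

/-- The data. -/
structure Data (M : Subgroup H) (k y r : H) : Prop where
  normal : M.Normal
  card : Nat.card M = 128
  k_mem : k ∈ M
  k_order : orderOf k = 2
  k_cent : ∀ g : H, g * k = k * g
  y_pow : y ^ 7 = 1
  rel : r * y * r⁻¹ = y * y
  r_pow : r ^ 3 = 1
  fix : ∀ m ∈ M, m * y = y * m → m = 1 ∨ m = k
  center : ∀ m ∈ M, (∀ a ∈ M, a * m = m * a) → m = 1 ∨ m = k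
  card_r : Nat.card ↥(M ⊓ cz r) = 8
  nonab : ∃ a ∈ M ⊓ cz r, ∃ b ∈ M ⊓ cz r, a * b ≠ b * a

theorem cm_mul_left (a b c : H) : cm (a * b) c = a * cm b c * a⁻¹ * cm a c := by
  simp only [cm]; group

theorem cm_mul_right (a b c : H) : cm a (b * c) = cm a b * (b * cm a c * b⁻¹) := by
  simp only [cm]; group

theorem cm_conj (g a b : H) : g * cm a b * g⁻¹ = cm (g * a * g⁻¹) (g * b * g⁻¹) := by
  simp only [cm]; group

theorem cm_eq_one {a b : H} : cm a b = 1 ↔ a * b = b * a := by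
  rw [cm, mul_inv_eq_one, mul_inv_eq_iff_eq_mul]

theorem cm_inv (a b : H) : (cm a b)⁻¹ = cm b a := by
  simp only [cm]; group

namespace Data

variable {M : Subgroup H} {k y r : H} (D : Data M k y r)
include D

theorem k_sq : k * k = 1 := by rw [← sq, ← D.k_order, pow_orderOf_eq_one]

theorem k_ne : k ≠ 1 := fun e => by have := D.k_order; rw [e, orderOf_one] at this; norm_num at this

theorem isK_mul {a b : H} (ha : a = 1 ∨ a = k) (hb : b = 1 ∨ b = k) : a * b = 1 ∨ a * b = k := by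
  rcases ha with rfl | rfl <;> rcases hb with rfl | rfl <;> simp [D.k_sq]

theorem isK_inv {a : H} (ha : a = 1 ∨ a = k) : a⁻¹ = 1 ∨ a⁻¹ = k := by
  rcases ha with rfl | rfl
  · simp
  · exact Or.inr (inv_eq_of_mul_eq_one_left D.k_sq)

theorem isK_conj (g : H) {a : H} (ha : a = 1 ∨ a = k) : g * a * g⁻¹ = a := by
  rcases ha with rfl | rfl
  · simp
  · rw [D.k_cent, mul_inv_cancel_right]

/-- Elements whose commutators with the subgroup lie in the central subgroup. -/
def W : Subgroup H where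
  carrier := {u | u ∈ M ∧ ∀ b ∈ M, cm u b = 1 ∨ cm u b = k}
  one_mem' := ⟨M.one_mem, fun b _ => Or.inl (by simp [cm])⟩
  mul_mem' := fun {a b} ha hb => ⟨M.mul_mem ha.1 hb.1, fun c hc => by
    rw [cm_mul_left, D.isK_conj a (hb.2 c hc)]
    exact D.isK_mul (hb.2 c hc) (ha.2 c hc)⟩
  inv_mem' := fun {a} ha => ⟨M.inv_mem ha.1, fun c hc => by
    have e : cm a⁻¹ c = a⁻¹ * (cm a c)⁻¹ * a⁻¹⁻¹ := by simp only [cm]; group
    rw [e, D.isK_conj a⁻¹ (D.isK_inv (ha.2 c hc))]
    exact D.isK_inv (ha.2 c hc)⟩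

theorem mem_W {u : H} : u ∈ D.W ↔ u ∈ M ∧ ∀ b ∈ M, cm u b = 1 ∨ cm u b = k := Iff.rfl

theorem W_conj {u : H} (g : H) (hu : u ∈ D.W) : g * u * g⁻¹ ∈ D.W := by
  refine ⟨D.normal.conj_mem u hu.1 g, fun b hb => ?_⟩
  have e : cm (g * u * g⁻¹) b = g * cm u (g⁻¹ * b * g) * g⁻¹ := by simp only [cm]; group
  have hb' : g⁻¹ * b * g ∈ M := by simpa using D.normal.conj_mem b hb g⁻¹
  rw [e, D.isK_conj g (hu.2 _ hb')]
  exact hu.2 _ hb'

theorem isK_W {a : H} (ha : a = 1 ∨ a = k) : a ∈ D.W := by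
  refine ⟨?_, fun b _ => Or.inl (cm_eq_one.2 ?_)⟩
  · rcases ha with rfl | rfl
    · exact M.one_mem
    · exact D.k_mem
  · rcases ha with rfl | rfl
    · simp
    · exact (D.k_cent b).symm

theorem fixed_card : Nat.card {g : H // g = 1 ∨ g = k} = 2 := by
  rw [show Nat.card {g : H // g = 1 ∨ g = k} = ({1, k} : Set H).ncard from (Nat.card_coe_set_eq _)]
  exact Set.ncard_pair D.k_ne.symm

/-- An invariant subgroup of the subgroup, containing the central involution, has order two modulo seven. -/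
theorem card_mod_seven (S : Subgroup H) (hS : S ≤ M) (hk : k ∈ S) (hy : ∀ g ∈ S, y * g * y⁻¹ ∈ S) :
    Nat.card S % 7 = 2 := by
  haveI : Fact (Nat.Prime 7) := ⟨by norm_num⟩
  have hpow : ∀ (n : ℕ) (g : H), g ∈ S → y ^ n * g * (y ^ n)⁻¹ ∈ S := by
    intro n
    induction n with
    | zero => intro g hg; simpa using hg
    | succ n ih =>
      intro g hg
      have := hy _ (ih g hg)
      rwa [show y * (y ^ n * g * (y ^ n)⁻¹) * y⁻¹ = y ^ (n + 1) * g * (y ^ (n + 1))⁻¹ by
        rw [pow_succ']; group] at this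
  have hmod := card_modEq_fixed (p := 7) (n := 1) (x := y) (by rw [pow_one]; exact D.y_pow) (fun g => g ∈ S)
    (fun g => ⟨hy g, fun hg => by
      have e := hpow 6 _ hg
      rwa [show y ^ 6 * (y * g * y⁻¹) * (y ^ 6)⁻¹ = y ^ 7 * g * (y ^ 7)⁻¹ by group, D.y_pow, one_mul,
        inv_one, mul_one] at e⟩)
  have e2 : Nat.card {g : H // g ∈ S ∧ g * y = y * g} = 2 := by
    refine (Nat.card_congr (Equiv.subtypeEquivRight fun g => ?_)).trans D.fixed_card
    constructor
    · exact fun hg => D.fix g (hS hg.1) hg.2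
    · rintro (rfl | rfl)
      · exact ⟨S.one_mem, by simp⟩
      · exact ⟨hk, (D.k_cent y).symm⟩
  rw [e2] at hmod
  exact hmod

theorem card_cases (S : Subgroup H) (hS : S ≤ M) (hk : k ∈ S) (hy : ∀ g ∈ S, y * g * y⁻¹ ∈ S)
    (h : ∃ g ∈ S, g ≠ 1 ∧ g ≠ k) : Nat.card S = 16 ∨ S = M := by
  have hd : Nat.card S ∣ 128 := D.card ▸ card_dvd_of_le hS
  have h7 := D.card_mod_seven S hS hk hy
  have h2 : 3 ≤ Nat.card S := by
    obtain ⟨g, hg, g1, g2⟩ := h
    have hinj : Function.Injective (![⟨1, S.one_mem⟩, ⟨k, hk⟩, ⟨g, hg⟩] : Fin 3 → S) := by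
      intro i j e
      have e' := congrArg Subtype.val e
      fin_cases i <;> fin_cases j <;> first
        | rfl
        | exact absurd e' D.k_ne
        | exact absurd (Eq.symm e') D.k_ne
        | exact absurd e' g1
        | exact absurd (Eq.symm e') g1
        | exact absurd e' g2
        | exact absurd (Eq.symm e') g2
    have := Nat.card_le_card_of_injective _ hinj
    rwa [Nat.card_fin] at this
  have key : ∀ n ∈ Nat.divisors 128, n % 7 = 2 → 3 ≤ n → n = 16 ∨ n = 128 := by decide +kernel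
  rcases key _ (Nat.mem_divisors.2 ⟨hd, by norm_num⟩) h7 h2 with e | e
  · exact Or.inl e
  · exact Or.inr (Subgroup.eq_of_le_of_card_ge hS (by rw [e, D.card]))

/-- The element of order seven moves every coset of an invariant subgroup other than itself. -/
theorem orbit (S : Subgroup H) (hS : S ≤ M) (hk : k ∈ S) (hy : ∀ g ∈ S, y * g * y⁻¹ ∈ S) {a : H}
    (ha : a ∈ M) (haS : a ∉ S) {d : ℕ} (hd : ¬ 7 ∣ d) : a⁻¹ * (y ^ d * a * (y ^ d)⁻¹) ∉ S := by
  haveI : Fact (Nat.Prime 7) := ⟨by norm_num⟩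
  intro hmem
  have hpow : ∀ (n : ℕ) (g : H), g ∈ S → y ^ n * g * (y ^ n)⁻¹ ∈ S := by
    intro n
    induction n with
    | zero => intro g hg; simpa using hg
    | succ n ih =>
      intro g hg
      have := hy _ (ih g hg)
      rwa [show y * (y ^ n * g * (y ^ n)⁻¹) * y⁻¹ = y ^ (n + 1) * g * (y ^ (n + 1))⁻¹ by
        rw [pow_succ']; group] at this
  have hmul : ∀ n, a⁻¹ * (y ^ (d * n) * a * (y ^ (d * n))⁻¹) ∈ S := by
    intro n
    induction n with
    | zero => simp
    | succ n ih =>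
      have e := S.mul_mem hmem (hpow d _ ih)
      rwa [show a⁻¹ * (y ^ d * a * (y ^ d)⁻¹) * (y ^ d * (a⁻¹ * (y ^ (d * n) * a * (y ^ (d * n))⁻¹)) * (y ^ d)⁻¹)
        = a⁻¹ * (y ^ (d * (n + 1)) * a * (y ^ (d * (n + 1)))⁻¹) by
          rw [mul_add, mul_one, add_comm (d * n) d, pow_add]; group] at e
  obtain ⟨n, hn⟩ : ∃ n, d * n % 7 = 1 := by
    have key : ∀ e < 7, e ≠ 0 → ∃ n < 7, e * n % 7 = 1 := by decide
    obtain ⟨n, -, hn⟩ := key (d % 7) (Nat.mod_lt _ (by norm_num)) (by omega)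
    exact ⟨n, by rw [Nat.mul_mod, Nat.mod_mul_mod] at *; simpa [Nat.mul_mod] using hn⟩
  have h1 : a⁻¹ * (y * a * y⁻¹) ∈ S := by
    have e := hmul n
    rwa [pow_eq_pow_mod (d * n) D.y_pow, hn, pow_one] at e
  have hy1 : ∀ g, y ^ 6 * g * (y ^ 6)⁻¹ = y⁻¹ * g * y := fun g => by
    rw [show y ^ 6 = y⁻¹ from eq_inv_of_mul_eq_one_left (by rw [← pow_succ]; exact D.y_pow), inv_inv]
  have hmod := card_modEq_fixed (p := 7) (n := 1) (x := y) (by rw [pow_one]; exact D.y_pow) (fun g => a⁻¹ * g ∈ S)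
    (fun g => ⟨fun hg => by
      have e := S.mul_mem h1 (hy _ hg)
      rwa [show a⁻¹ * (y * a * y⁻¹) * (y * (a⁻¹ * g) * y⁻¹) = a⁻¹ * (y * g * y⁻¹) by group] at e,
      fun hg => by
      have e := hpow 6 _ (S.mul_mem (S.inv_mem h1) hg)
      rwa [hy1, show y⁻¹ * ((a⁻¹ * (y * a * y⁻¹))⁻¹ * (a⁻¹ * (y * g * y⁻¹))) * y = a⁻¹ * g by group] at e⟩)
  have hc : Nat.card {g : H // a⁻¹ * g ∈ S} = Nat.card S :=
    Nat.card_congr (Equiv.subtypeEquiv (Equiv.mulLeft a⁻¹) fun g => Iff.rfl)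
  rw [hc] at hmod
  have h7 := D.card_mod_seven S hS hk hy
  obtain ⟨⟨g, hg, hgy⟩⟩ := (Nat.card_ne_zero.1 (show Nat.card {g : H // a⁻¹ * g ∈ S ∧ g * y = y * g} ≠ 0 by
    unfold Nat.ModEq at hmod; omega)).1
  have hgM : g ∈ M := by
    have := M.mul_mem ha (hS hg)
    rwa [mul_inv_cancel_left] at this
  have hgS : g ∈ S := by
    rcases D.fix g hgM hgy with rfl | rfl
    · exact S.one_mem
    · exact hk
  exact haS (by simpa using S.mul_mem hgS (S.inv_mem hg))

theorem comm_mem_K : ∀ a ∈ M, ∀ b ∈ M, cm a b = 1 ∨ cm a b = k := by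
  classical
  haveI := D.normal
  haveI : Fact (Nat.Prime 2) := ⟨Nat.prime_two⟩
  haveI : Fact (Nat.Prime 3) := ⟨Nat.prime_three⟩
  suffices hWM : D.W = M by
    intro a ha b hb
    exact (D.mem_W.1 (hWM.symm ▸ ha)).2 b hb
  have hWle : D.W ≤ M := fun u hu => hu.1
  have hWk : k ∈ D.W := D.isK_W (Or.inr rfl)
  have hWy : ∀ g ∈ D.W, y * g * y⁻¹ ∈ D.W := fun g hg => D.W_conj y hg
  -- an element outside the central subgroup
  have hex : ∃ g ∈ D.W, g ≠ 1 ∧ g ≠ k := by
    let k' : M := ⟨k, D.k_mem⟩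
    haveI : (zpowers k').Normal := ⟨fun n hn g => by
      obtain ⟨i, rfl⟩ := mem_zpowers_iff.1 hn
      have e : g * k' = k' * g := Subtype.ext (D.k_cent g)
      rw [((show Commute g k' from e).zpow_right i).eq, mul_inv_cancel_right]
      exact zpow_mem (mem_zpowers k') i⟩
    have hk2 : Nat.card (zpowers k') = 2 := by
      rw [Nat.card_zpowers, ← Subgroup.orderOf_coe]; exact D.k_order
    have hQ : Nat.card (M ⧸ zpowers k') = 2 ^ 6 := by
      have := Subgroup.card_eq_card_quotient_mul_card_subgroup (zpowers k')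
      rw [D.card, hk2] at this
      omega
    haveI : Nontrivial (M ⧸ zpowers k') := Finite.one_lt_card_iff_nontrivial.1 (by rw [hQ]; norm_num)
    haveI := (IsPGroup.of_card hQ).center_nontrivial
    obtain ⟨⟨q, hq⟩, hq1⟩ := exists_ne (1 : Subgroup.center (M ⧸ zpowers k'))
    obtain ⟨u, rfl⟩ := QuotientGroup.mk_surjective q
    have hu1 : u ∉ zpowers k' := fun e => hq1 (Subtype.ext ((QuotientGroup.eq_one_iff u).2 e))
    refine ⟨u, ⟨u.2, fun b hb => ?_⟩, fun e => hu1 ?_, fun e => hu1 ?_⟩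
    · have h1 : (u * ⟨b, hb⟩ * u⁻¹ * (⟨b, hb⟩ : M)⁻¹ : M) ∈ zpowers k' := by
        rw [← QuotientGroup.eq_one_iff]
        simp only [QuotientGroup.mk_mul, QuotientGroup.mk_inv]
        rw [← mem_center_iff.1 hq ((⟨b, hb⟩ : M) : M ⧸ zpowers k')]
        group
      obtain ⟨i, hi⟩ := mem_zpowers_iff.1 h1
      have hc : cm (u : H) b = k ^ i := by
        have := congrArg Subtype.val hi
        rw [SubgroupClass.coe_zpow] at this
        exact this.symm
      rw [hc, ← zpow_mod_orderOf, D.k_order]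
      rcases Int.emod_two_eq_zero_or_one i with e | e <;> simp [e]
    · rw [show u = 1 from Subtype.ext e]; exact one_mem _
    · rw [show u = k' from Subtype.ext e]; exact mem_zpowers _
  rcases D.card_cases D.W hWle hWk hWy hex with hW16 | e
  swap
  · exact e
  exfalso
  -- an element fixed by the element of order three
  have hr3 : r ^ 3 ^ 1 = 1 := by rw [pow_one]; exact D.r_pow
  have hP : ∀ g, (g ∈ D.W ∧ ¬ (g = 1 ∨ g = k)) ↔ (r * g * r⁻¹ ∈ D.W ∧ ¬ (r * g * r⁻¹ = 1 ∨ r * g * r⁻¹ = k)) := by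
    intro g
    refine and_congr ⟨fun hg => D.W_conj r hg, fun hg => ?_⟩ (not_congr ⟨fun hg => ?_, fun hg => ?_⟩)
    · simpa [mul_assoc] using D.W_conj r⁻¹ hg
    · rwa [D.isK_conj r hg]
    · have e := D.isK_conj r⁻¹ hg
      rw [show r⁻¹ * (r * g * r⁻¹) * r⁻¹⁻¹ = g by group] at e
      rwa [← e] at hg
  have h14 : Nat.card {g : H // g ∈ D.W ∧ ¬ (g = 1 ∨ g = k)} = 14 := by
    have h := Nat.card_congr ((Equiv.sumCompl fun g : D.W => ((g : H) = 1 ∨ (g : H) = k)).symm.trans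
      (Equiv.sumCongr (Equiv.subtypeSubtypeEquivSubtype fun {g} (hg : g = 1 ∨ g = k) => D.isK_W hg)
        (Equiv.subtypeSubtypeEquivSubtypeInter (fun g : H => g ∈ D.W) fun g => ¬ (g = 1 ∨ g = k))))
    rw [Nat.card_sum, D.fixed_card, hW16] at h
    omega
  have hmod := card_modEq_fixed (p := 3) hr3 (fun g => g ∈ D.W ∧ ¬ (g = 1 ∨ g = k)) hP
  rw [h14] at hmod
  obtain ⟨⟨w, ⟨hwW, hwK⟩, hwr⟩⟩ := (Nat.card_ne_zero.1
    (show Nat.card {g : H // (g ∈ D.W ∧ ¬ (g = 1 ∨ g = k)) ∧ g * r = r * g} ≠ 0 by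
      unfold Nat.ModEq at hmod; omega)).1
  -- the orbit of the element covers the subgroup
  let U : ℕ → H := fun i => y ^ i * w * (y ^ i)⁻¹
  have hUW : ∀ i, U i ∈ D.W := fun i => D.W_conj _ hwW
  have hUmod : ∀ i, U i = U (i % 7) := fun i => by simp only [U]; rw [← pow_eq_pow_mod i D.y_pow]
  have hK2 : ∀ {g}, g ∈ D.W → ¬ (g = 1 ∨ g = k) → ∀ (c : H), (c = 1 ∨ c = k) → ¬ (g * c = 1 ∨ g * c = k) := by
    intro g _ hg c hc e
    refine hg ?_
    have := D.isK_mul e hc
    rcases hc with rfl | rfl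
    · simpa using this
    · rwa [mul_assoc, D.k_sq, mul_one] at this
  let Kz : Subgroup H :=
    { carrier := {g | g = 1 ∨ g = k}
      one_mem' := Or.inl rfl
      mul_mem' := fun ha hb => D.isK_mul ha hb
      inv_mem' := fun ha => D.isK_inv ha }
  have hKle : Kz ≤ M := fun g hg => hWle (D.isK_W hg)
  have hKy : ∀ g ∈ Kz, y * g * y⁻¹ ∈ Kz := fun g hg => by rw [D.isK_conj y hg]; exact hg
  have hwKz : w ∉ Kz := hwK
  have hdist : ∀ i j, i < 7 → j < 7 → i ≠ j → ¬ ((U i)⁻¹ * U j = 1 ∨ (U i)⁻¹ * U j = k) := by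
    intro i j hi hj hne e
    wlog hij : i < j generalizing i j
    · refine this j i hj hi hne.symm ?_ (by omega)
      have := D.isK_inv e
      rwa [mul_inv_rev, inv_inv] at this
    refine D.orbit Kz hKle (Or.inr rfl) hKy (hWle hwW) hwKz (d := j - i) (by omega) ?_
    have e' : (U i)⁻¹ * U j = y ^ i * (w⁻¹ * (y ^ (j - i) * w * (y ^ (j - i))⁻¹)) * (y ^ i)⁻¹ := by
      simp only [U]
      conv_lhs => rw [show j = i + (j - i) by omega, pow_add]
      group
    have e2 := D.isK_conj (y ^ i)⁻¹ e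
    rw [inv_inv, e', show (y ^ i)⁻¹ * (y ^ i * (w⁻¹ * (y ^ (j - i) * w * (y ^ (j - i))⁻¹)) * (y ^ i)⁻¹) * y ^ i
      = w⁻¹ * (y ^ (j - i) * w * (y ^ (j - i))⁻¹) by group] at e2
    show w⁻¹ * (y ^ (j - i) * w * (y ^ (j - i))⁻¹) = 1 ∨ _
    rw [e2, ← e']
    exact e
  have hUK : ∀ i, ¬ (U i = 1 ∨ U i = k) := fun i e => hwK (by
    have := D.isK_conj (y ^ i)⁻¹ e
    rw [show (y ^ i)⁻¹ * U i * (y ^ i)⁻¹⁻¹ = w by simp only [U]; group] at this
    rw [this]; exact e)
  have hcover : ∀ g ∈ D.W, ¬ (g = 1 ∨ g = k) → ∃ i < 7, ∃ c, (c = 1 ∨ c = k) ∧ g = U i * c := by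
    intro g hg hgK
    let f : Fin 7 × {c : H // c = 1 ∨ c = k} → {g : H // g ∈ D.W ∧ ¬ (g = 1 ∨ g = k)} := fun p =>
      ⟨U p.1 * p.2.1, mul_mem (hUW _) (D.isK_W p.2.2), hK2 (hUW _) (hUK _) _ p.2.2⟩
    have hf : Function.Injective f := by
      rintro ⟨i, c⟩ ⟨j, c'⟩ e
      have e' : U i * c.1 = U j * c'.1 := congrArg Subtype.val e
      by_cases hij : (i : ℕ) = j
      · rw [hij] at e'
        exact Prod.ext (Fin.ext hij) (Subtype.ext (mul_left_cancel e'))
      · refine absurd ?_ (hdist i j i.isLt j.isLt hij)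
        rw [show (U i)⁻¹ * U j = c.1 * c'.1⁻¹ by
          calc (U i)⁻¹ * U j = (U i)⁻¹ * (U j * c'.1) * c'.1⁻¹ := by group
            _ = _ := by rw [← e']; group]
        exact D.isK_mul c.2 (D.isK_inv c'.2)
    haveI : Finite {c : H // c = 1 ∨ c = k} := inferInstance
    obtain ⟨⟨i, c⟩, hp⟩ := ((Nat.bijective_iff_injective_and_card f).2 ⟨hf, by
      rw [Nat.card_prod, Nat.card_fin, D.fixed_card, h14]⟩).2 ⟨g, hg, hgK⟩
    exact ⟨i, i.isLt, c.1, c.2, (congrArg Subtype.val hp).symm⟩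
  have hrU : ∀ i, r * U i * r⁻¹ = U (2 * i) := by
    intro i
    have hw' : r * w * r⁻¹ = w := mul_inv_eq_iff_eq_mul.2 hwr.symm
    calc r * U i * r⁻¹ = (r * y * r⁻¹) ^ i * (r * w * r⁻¹) * ((r * y * r⁻¹) ^ i)⁻¹ := by
          simp only [U, conj_pow]; group
      _ = _ := by simp only [U]; rw [D.rel, hw', two_mul, pow_add, ← (Commute.refl y).mul_pow]
  -- pairwise commuting
  have hf : ∀ d, cm w (U d) = 1 ∨ cm w (U d) = k := fun d => (D.mem_W.1 hwW).2 _ (hWle (hUW d))
  have hdouble : ∀ d, cm w (U d) = cm w (U (2 * d)) := fun d => by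
    rw [← hrU, show r * U d * r⁻¹ = r * U d * r⁻¹ from rfl]
    conv_rhs => rw [show w = r * w * r⁻¹ from (mul_inv_eq_iff_eq_mul.2 hwr.symm).symm]
    rw [← cm_conj, D.isK_conj r (hf d)]
  have hneg : ∀ d, d ≤ 7 → cm w (U d) = cm w (U (7 - d)) := fun d hd => by
    have e1 : cm (U d) w = cm w (U (7 - d)) := by
      rw [← D.isK_conj (y ^ d) (hf (7 - d)), cm_conj]
      congr 1
      simp only [U]
      rw [show y ^ d * (y ^ (7 - d) * w * (y ^ (7 - d))⁻¹) * (y ^ d)⁻¹ = (y ^ d * y ^ (7 - d)) * w * (y ^ d * y ^ (7 - d))⁻¹ by group,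
        ← pow_add, show d + (7 - d) = 7 by omega, D.y_pow]
      simp
    rw [← e1, ← cm_inv w (U d)]
    rcases hf d with e | e <;> rw [e]
    · simp
    · exact (inv_eq_of_mul_eq_one_left D.k_sq).symm
  have hall : ∀ d, d % 7 ≠ 0 → cm w (U d) = cm w (U 1) := by
    intro d hd
    rw [hUmod d]
    have e2 : cm w (U 2) = cm w (U 1) := (hdouble 1).symm
    have e4 : cm w (U 4) = cm w (U 1) := ((hdouble 2).symm).trans e2
    have : d % 7 = 1 ∨ d % 7 = 2 ∨ d % 7 = 3 ∨ d % 7 = 4 ∨ d % 7 = 5 ∨ d % 7 = 6 := by omega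
    rcases this with e | e | e | e | e | e <;> rw [e]
    · exact e2
    · rw [hneg 3 (by norm_num)]; exact e4
    · exact e4
    · rw [hneg 5 (by norm_num)]; exact e2
    · rw [hneg 6 (by norm_num)]
  have hprod : ∀ {i j}, i < 7 → j < 7 → i ≠ j → ∃ l < 7, ∃ c, (c = 1 ∨ c = k) ∧ U i * U j = U l * c := by
    intro i j hi hj hne
    refine hcover _ (mul_mem (hUW i) (hUW j)) fun e => hdist i j hi hj hne ?_
    -- a product in the central subgroup with a square there
    have hs : U i * U i = 1 ∨ U i * U i = k := by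
      by_contra hns
      obtain ⟨l, hl, c, hc, e'⟩ := hcover _ (mul_mem (hUW i) (hUW i)) hns
      -- move back to the fixed element
      obtain ⟨m, hm7, c', hc', e0⟩ := hcover (w * w) (mul_mem hwW hwW) fun e0 => hns (by
        have := D.isK_conj (y ^ i) e0
        rw [show y ^ i * (w * w) * (y ^ i)⁻¹ = U i * U i by simp only [U]; group] at this
        rw [this]; exact e0)
      have hfix : r * (w * w) * r⁻¹ = w * w := mul_inv_eq_iff_eq_mul.2
        ((show Commute r w from hwr.symm).mul_right (show Commute r w from hwr.symm)).eq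
      rw [e0, show r * (U m * c') * r⁻¹ = (r * U m * r⁻¹) * (r * c' * r⁻¹) by group, hrU, D.isK_conj r hc',
        hUmod (2 * m)] at hfix
      rcases eq_or_ne m 0 with rfl | hm
      · rw [show U 0 = w by simp [U]] at e0
        exact hwK (by rw [mul_left_cancel e0]; exact hc')
      · refine hdist (2 * m % 7) m (Nat.mod_lt _ (by norm_num)) hm7 (by omega) ?_
        rw [mul_right_cancel hfix]; simp
    rw [show (U i)⁻¹ * U j = (U i * U i)⁻¹ * (U i * U j) by group]
    exact D.isK_mul (D.isK_inv hs) e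
  have hc0 : cm w (U 1) = 1 := by
    have hsum : ∀ a b, a % 7 ≠ 0 → b % 7 ≠ 0 → cm w (U a * U b) = 1 := fun a b ha hb => by
      rw [cm_mul_right, D.isK_conj _ (hf b), hall a ha, hall b hb]
      rcases hf 1 with e | e <;> rw [e] <;> simp [D.k_sq]
    have use1 : ∀ a b l c, a % 7 ≠ 0 → b % 7 ≠ 0 → l % 7 ≠ 0 → (c = 1 ∨ c = k) → U a * U b = U l * c →
        cm w (U 1) = 1 := fun a b l c ha hb hl hc e => by
      have h := hsum a b ha hb
      rw [e, cm_mul_right, cm_eq_one.2 (show w * c = c * w by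
        rcases hc with rfl | rfl
        · simp
        · exact D.k_cent w), mul_one, mul_inv_cancel, mul_one, hall l hl] at h
      exact h
    obtain ⟨l, hl, c, hc, e⟩ := hprod (i := 1) (j := 2) (by norm_num) (by norm_num) (by norm_num)
    rcases eq_or_ne l 0 with rfl | hl0
    · obtain ⟨l', hl', c', hc', e'⟩ := hprod (i := 1) (j := 3) (by norm_num) (by norm_num) (by norm_num)
      rcases eq_or_ne l' 0 with rfl | hl0'
      · exfalso
        refine hdist 2 3 (by norm_num) (by norm_num) (by norm_num) ?_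
        have h : (U 2)⁻¹ * U 3 = c⁻¹ * c' := by
          calc (U 2)⁻¹ * U 3 = (U 1 * U 2)⁻¹ * (U 1 * U 3) := by group
            _ = _ := by rw [e, e']; group
        rw [h]
        exact D.isK_mul (D.isK_inv hc) hc'
      · exact use1 1 3 l' c' (by norm_num) (by norm_num) (by omega) hc' e'
    · exact use1 1 2 l c (by norm_num) (by norm_num) (by omega) hc e
  have hcomm0 : ∀ d, w * U d = U d * w := fun d => by
    rcases eq_or_ne (d % 7) 0 with e | e
    · rw [hUmod d, e]; simp [U]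
    · exact cm_eq_one.1 (by rw [hall d e, hc0])
  have hcU : ∀ i j, i < 7 → U i * U j = U j * U i := fun i j hi => by
    have e := hcomm0 (j + (7 - i))
    have hc : Commute w (U (j + (7 - i))) := e
    have := (hc.map (MulAut.conj (y ^ i)).toMonoidHom).eq
    simp only [MulEquiv.coe_toMonoidHom, MulAut.conj_apply, U] at this
    rwa [show y ^ i * (y ^ (j + (7 - i)) * w * (y ^ (j + (7 - i)))⁻¹) * (y ^ i)⁻¹ =
      (y ^ i * y ^ (j + (7 - i))) * w * (y ^ i * y ^ (j + (7 - i)))⁻¹ by group, ← pow_add,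
      show i + (j + (7 - i)) = j + 7 by omega, pow_add, D.y_pow, mul_one] at this
  have habel : ∀ a ∈ D.W, ∀ b ∈ D.W, a * b = b * a := by
    intro a ha b hb
    by_cases haK : a = 1 ∨ a = k
    · rcases haK with rfl | rfl
      · simp
      · exact (D.k_cent b).symm
    by_cases hbK : b = 1 ∨ b = k
    · rcases hbK with rfl | rfl
      · simp
      · exact D.k_cent a
    obtain ⟨i, hi, c, hc, rfl⟩ := hcover a ha haK
    obtain ⟨j, -, c', hc', rfl⟩ := hcover b hb hbK
    have cc : ∀ {c : H}, (c = 1 ∨ c = k) → ∀ g, Commute c g := by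
      rintro c (rfl | rfl) g
      · exact Commute.one_left g
      · exact (D.k_cent g).symm
    exact (((show Commute (U i) (U j) from hcU i j hi).mul_right (cc hc' (U i)).symm).mul_left (cc hc _)).eq
  have hsq : ∀ a ∈ D.W, a * a = 1 := by
    have hσ : ∀ i, U i * U i = w * w := by
      intro i
      have hww : w * w = 1 ∨ w * w = k := by
        by_contra hns
        obtain ⟨m, hm7, c', hc', e0⟩ := hcover (w * w) (mul_mem hwW hwW) hns
        have hfix : r * (w * w) * r⁻¹ = w * w := mul_inv_eq_iff_eq_mul.2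
          ((show Commute r w from hwr.symm).mul_right (show Commute r w from hwr.symm)).eq
        rw [e0, show r * (U m * c') * r⁻¹ = (r * U m * r⁻¹) * (r * c' * r⁻¹) by group, hrU, D.isK_conj r hc',
          hUmod (2 * m)] at hfix
        rcases eq_or_ne m 0 with rfl | hm
        · rw [show U 0 = w by simp [U]] at e0
          exact hwK (by rw [mul_left_cancel e0]; exact hc')
        · refine hdist (2 * m % 7) m (Nat.mod_lt _ (by norm_num)) hm7 (by omega) ?_
          rw [mul_right_cancel hfix]; simp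
      rw [show U i * U i = y ^ i * (w * w) * (y ^ i)⁻¹ by simp only [U]; group, D.isK_conj _ hww]
    have hmain : ∀ l c, (c = 1 ∨ c = k) → U l * c * (U l * c) = w * w := by
      intro l c hc
      have e : c * U l = U l * c := by
        rcases hc with rfl | rfl
        · simp
        · exact (D.k_cent _).symm
      rw [mul_assoc, ← mul_assoc c, e, mul_assoc (U l) c c, ← mul_assoc, hσ]
      rcases hc with rfl | rfl <;> simp [D.k_sq]
    obtain ⟨l, -, c, hc, e⟩ := hprod (i := 1) (j := 2) (by norm_num) (by norm_num) (by norm_num)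
    have h1 : w * w = (w * w) * (w * w) := by
      conv_lhs => rw [← hmain l c hc, ← e]
      rw [mul_assoc (U 1), ← mul_assoc (U 2), hcU 2 1 (by norm_num), mul_assoc (U 1) (U 2), ← mul_assoc (U 1) (U 1), hσ, hσ]
    have hw1 : w * w = 1 := right_eq_mul.1 h1
    intro a ha
    by_cases haK : a = 1 ∨ a = k
    · rcases haK with rfl | rfl
      · simp
      · exact D.k_sq
    obtain ⟨i, -, c, hc, rfl⟩ := hcover a ha haK
    rw [hmain i c hc, hw1]
  -- the centraliser in the subgroup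
  have hcent : ∀ m ∈ M, (∀ u ∈ D.W, m * u = u * m) → m ∈ D.W := by
    let C : Subgroup H := M ⊓ centralizer (D.W : Set H)
    have hWC : D.W ≤ C := fun u hu => ⟨hWle hu, mem_centralizer_iff.2 fun v hv => habel v hv u hu⟩
    have hCy : ∀ g ∈ C, y * g * y⁻¹ ∈ C := fun g hg => ⟨D.normal.conj_mem g hg.1 y, mem_centralizer_iff.2 fun v hv => by
      have hv' : y⁻¹ * v * y ∈ D.W := by simpa using D.W_conj y⁻¹ hv
      have := mem_centralizer_iff.1 hg.2 _ hv'
      calc v * (y * g * y⁻¹) = y * (y⁻¹ * v * y * g) * y⁻¹ := by group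
        _ = _ := by rw [this]; group⟩
    rcases D.card_cases C inf_le_left (hWC hWk) hCy ⟨w, hWC hwW, fun e => hwK (Or.inl e), fun e => hwK (Or.inr e)⟩ with e | e
    · intro m hm hmc
      have : C = D.W := (Subgroup.eq_of_le_of_card_ge hWC (by rw [e, hW16])).symm
      rw [← this]
      exact ⟨hm, mem_centralizer_iff.2 fun v hv => (hmc v hv).symm⟩
    · exfalso
      refine hwK (D.center w (hWle hwW) fun a ha => ?_)
      exact (mem_centralizer_iff.1 (show a ∈ C from e.symm ▸ ha).2 w hwW).symm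
  have hcmW : ∀ a ∈ M, ∀ b ∈ M, cm a b ∈ D.W := by
    intro a ha b hb
    refine hcent _ (M.mul_mem (M.mul_mem (M.mul_mem ha hb) (M.inv_mem ha)) (M.inv_mem hb)) fun u hu => ?_
    have hx := (D.mem_W.1 hu).2
    have conjf : ∀ g ∈ M, g * u * g⁻¹ = cm g u * u := fun g _ => by simp only [cm]; group
    have kc : ∀ g ∈ M, cm g u = 1 ∨ cm g u = k := fun g hg => by
      rw [← cm_inv u g]; exact D.isK_inv (hx g hg)
    refine mul_inv_eq_iff_eq_mul.1 ?_
    have two : ∀ g ∈ M, ∀ h ∈ M, g * h * u * (g * h)⁻¹ = cm g u * cm h u * u := fun g hg h hh => by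
      calc g * h * u * (g * h)⁻¹ = g * (h * u * h⁻¹) * g⁻¹ := by group
        _ = (g * cm h u * g⁻¹) * (g * u * g⁻¹) := by rw [conjf h hh]; group
        _ = cm h u * (cm g u * u) := by rw [D.isK_conj g (kc h hh), conjf g hg]
        _ = _ := by
          rw [← mul_assoc]
          rcases kc h hh with e | e <;> rw [e]
          · simp
          · rw [D.k_cent (cm g u)]
    have two' : b⁻¹ * a⁻¹ * u * (b⁻¹ * a⁻¹)⁻¹ = a⁻¹ * b⁻¹ * u * (a⁻¹ * b⁻¹)⁻¹ := by
      rw [two _ (M.inv_mem hb) _ (M.inv_mem ha), two _ (M.inv_mem ha) _ (M.inv_mem hb)]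
      rcases kc _ (M.inv_mem ha) with e | e <;> rw [e]
      · simp
      · rw [D.k_cent]
    calc cm a b * u * (cm a b)⁻¹
        = (b⁻¹ * a⁻¹)⁻¹ * (a⁻¹ * b⁻¹ * u * (a⁻¹ * b⁻¹)⁻¹) * (b⁻¹ * a⁻¹) := by simp only [cm]; group
      _ = (b⁻¹ * a⁻¹)⁻¹ * (b⁻¹ * a⁻¹ * u * (b⁻¹ * a⁻¹)⁻¹) * (b⁻¹ * a⁻¹) := by rw [two']
      _ = u := by group
  -- an element of order three fixed outside
  obtain ⟨a, ⟨haM, har⟩, haW⟩ : ∃ a, a ∈ M ⊓ cz r ∧ a ∉ D.W := by
    by_contra hcon
    push Not at hcon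
    obtain ⟨p, hp, q, hq, hne⟩ := D.nonab
    exact hne (habel p (hcon p hp) q (hcon q hq))
  have ha2W : a * a ∈ D.W := hcent _ (M.mul_mem haM haM) fun u hu => by
    have hx := (D.mem_W.1 hu).2 a haM
    refine (cm_eq_one.1 ?_).symm
    rw [cm_mul_right, D.isK_conj a hx]
    rcases hx with e | e <;> rw [e] <;> simp [D.k_sq]
  have hnw : a * w ≠ w * a := by
    intro haw
    -- the fixed points would be abelian
    let D8 := M ⊓ cz r
    have hwD : w ∈ D8 := ⟨hWle hwW, mem_cz.2 hwr⟩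
    have hkD : k ∈ D8 := ⟨D.k_mem, mem_cz.2 (D.k_cent r).symm⟩
    have haD : a ∈ D8 := ⟨haM, har⟩
    let A : Subgroup H := D8 ⊓ centralizer ({a, w} : Set H)
    have mA : ∀ g, g ∈ D8 → a * g = g * a → w * g = g * w → g ∈ A := fun g hg e1 e2 =>
      ⟨hg, mem_centralizer_iff.2 fun v hv => by
        rcases hv with rfl | rfl
        · exact e1
        · exact e2⟩
    let f : Fin 2 × Fin 2 × Fin 2 → A := fun p =>
      ⟨a ^ (p.1 : ℕ) * (w ^ (p.2.1 : ℕ) * k ^ (p.2.2 : ℕ)), mul_mem (pow_mem (mA a haD rfl haw.symm) _)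
        (mul_mem (pow_mem (mA w hwD haw rfl) _) (pow_mem (mA k hkD (D.k_cent a) (D.k_cent w)) _))⟩
    have hf8 : Function.Injective f := by
      rintro ⟨i, j, l⟩ ⟨i', j', l'⟩ e
      have e' : a ^ (i : ℕ) * (w ^ (j : ℕ) * k ^ (l : ℕ)) = a ^ (i' : ℕ) * (w ^ (j' : ℕ) * k ^ (l' : ℕ)) :=
        congrArg Subtype.val e
      have hwk : ∀ j l : ℕ, w ^ j * k ^ l ∈ D.W := fun j l => mul_mem (pow_mem hwW _) (pow_mem hWk _)
      have hw1 : w ≠ 1 := fun e => hwK (Or.inl e)
      have hwk' : w * k ≠ 1 := fun e => hwK (Or.inr ((eq_inv_of_mul_eq_one_left e).trans (inv_eq_of_mul_eq_one_left D.k_sq)))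
      have hwne : w ≠ k := fun e => hwK (Or.inr e)
      fin_cases i <;> fin_cases i'
      · simp only [pow_zero, one_mul] at e'
        fin_cases j <;> fin_cases l <;> fin_cases j' <;> fin_cases l' <;> first | rfl | exfalso <;>
          simp [D.k_ne, D.k_ne.symm, hw1, hw1.symm, hwk', hwk'.symm, hwne, hwne.symm] at e'
      · refine absurd ?_ haW
        simp only [pow_zero, one_mul, pow_one] at e'
        rw [show a = (w ^ (j : ℕ) * k ^ (l : ℕ)) * (w ^ (j' : ℕ) * k ^ (l' : ℕ))⁻¹ by rw [e']; group]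
        exact mul_mem (hwk _ _) (inv_mem (hwk _ _))
      · refine absurd ?_ haW
        simp only [pow_zero, one_mul, pow_one] at e'
        rw [show a = (w ^ (j' : ℕ) * k ^ (l' : ℕ)) * (w ^ (j : ℕ) * k ^ (l : ℕ))⁻¹ by rw [← e']; group]
        exact mul_mem (hwk _ _) (inv_mem (hwk _ _))
      · simp only [pow_one, mul_right_inj] at e'
        fin_cases j <;> fin_cases l <;> fin_cases j' <;> fin_cases l' <;> first | rfl | exfalso <;>
          simp [D.k_ne, D.k_ne.symm, hw1, hw1.symm, hwk', hwk'.symm, hwne, hwne.symm] at e'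
    have hA : A = D8 := Subgroup.eq_of_le_of_card_ge inf_le_left (by
      rw [D.card_r]
      have := Nat.card_le_card_of_injective f hf8
      rwa [Nat.card_prod, Nat.card_prod, Nat.card_fin] at this)
    obtain ⟨p, hp, q, hq, hne⟩ := D.nonab
    refine hne ?_
    obtain ⟨⟨i, j, l⟩, hp'⟩ := ((Nat.bijective_iff_injective_and_card f).2 ⟨hf8, by
      rw [Nat.card_prod, Nat.card_prod, Nat.card_fin, hA]; exact D.card_r.symm⟩).2 ⟨p, hA.symm ▸ hp⟩
    have hp'' : a ^ (i : ℕ) * (w ^ (j : ℕ) * k ^ (l : ℕ)) = p := congrArg Subtype.val hp'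
    have hqA := mem_centralizer_iff.1 (show q ∈ A from hA.symm ▸ hq).2
    rw [← hp'']
    exact (((show Commute a q from hqA a (by simp)).pow_left _).mul_left (((show Commute w q from hqA w (by simp)).pow_left _).mul_left
      ((show Commute k q from (D.k_cent q).symm).pow_left _))).eq
  have haa : a * a = 1 ∨ a * a = k := by
    by_contra hns
    obtain ⟨m, hm7, c', hc', e0⟩ := hcover _ ha2W hns
    have hfix : r * (a * a) * r⁻¹ = a * a := mul_inv_eq_iff_eq_mul.2
      ((show Commute r a from (mem_cz.1 har).symm).mul_right (show Commute r a from (mem_cz.1 har).symm)).eq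
    rw [e0, show r * (U m * c') * r⁻¹ = (r * U m * r⁻¹) * (r * c' * r⁻¹) by group, hrU, D.isK_conj r hc',
      hUmod (2 * m)] at hfix
    rcases eq_or_ne m 0 with rfl | hm
    · rw [show U 0 = w by simp [U]] at e0
      refine hnw ?_
      have hwe : w = a * a * c'⁻¹ := by rw [e0]; group
      rw [hwe]
      exact (((Commute.refl a).mul_right (Commute.refl a)).mul_right (show Commute a c'⁻¹ by
        rcases D.isK_inv hc' with e | e <;> rw [e]
        · exact Commute.one_right a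
        · exact D.k_cent a)).eq
    · refine hdist (2 * m % 7) m (Nat.mod_lt _ (by norm_num)) hm7 (by omega) ?_
      rw [mul_right_cancel hfix]; simp
  -- the three conjugates
  let E : ℕ → H := fun i => y ^ i * a * (y ^ i)⁻¹
  have hEM : ∀ i, E i ∈ M := fun i => D.normal.conj_mem a haM _
  have hEdist : ∀ i j, i < 7 → j < 7 → i ≠ j → (E i)⁻¹ * E j ∉ D.W := by
    intro i j hi hj hne e
    wlog hij : i < j generalizing i j
    · refine this j i hj hi hne.symm ?_ (by omega)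
      simpa [mul_inv_rev] using D.W.inv_mem e
    refine D.orbit D.W hWle hWk hWy haM haW (d := j - i) (by omega) ?_
    have e' : (E i)⁻¹ * E j = y ^ i * (a⁻¹ * (y ^ (j - i) * a * (y ^ (j - i))⁻¹)) * (y ^ i)⁻¹ := by
      simp only [E]
      conv_lhs => rw [show j = i + (j - i) by omega, pow_add]
      group
    have := D.W_conj (y ^ i)⁻¹ (e' ▸ e)
    rwa [inv_inv, show (y ^ i)⁻¹ * (y ^ i * (a⁻¹ * (y ^ (j - i) * a * (y ^ (j - i))⁻¹)) * (y ^ i)⁻¹) * y ^ i
      = a⁻¹ * (y ^ (j - i) * a * (y ^ (j - i))⁻¹) by group] at this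
  have hEsq : ∀ i, E i * E i = 1 ∨ E i * E i = k := fun i => by
    rw [show E i * E i = y ^ i * (a * a) * (y ^ i)⁻¹ by simp only [E]; group, D.isK_conj _ haa]
    exact haa
  have hcmmul : ∀ i x, x ∈ M → Commute (E i) (cm (E i) x) := by
    intro i x hx
    have h0 : cm (E i * E i) x = 1 := cm_eq_one.2 (by
      rcases hEsq i with e | e <;> rw [e]
      · simp
      · exact (D.k_cent x).symm)
    rw [cm_mul_left] at h0
    refine mul_inv_eq_iff_eq_mul.1 ?_
    calc E i * cm (E i) x * (E i)⁻¹ = E i * cm (E i) x * (E i)⁻¹ * (cm (E i) x * cm (E i) x) := by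
          rw [hsq _ (hcmW _ (hEM i) _ hx), mul_one]
      _ = cm (E i) x := by rw [← mul_assoc, h0, one_mul]
  set e0 := E 0 with he0
  set e1 := E 1 with he1
  set e2 := E 2 with he2
  have ne01 := hEdist 0 1 (by norm_num) (by norm_num) (by norm_num)
  have hgen : ∀ T : Subgroup H, (∀ u ∈ D.W, u ∈ T) → e0 ∈ T → e1 ∈ T → e2 ∈ T → M ≤ T := by
    intro T hT t0 t1 t2
    let S := T ⊓ M
    let el : Fin 5 → H := ![1, e0, e1, e0 * e1, e2]
    have hel : ∀ i, el i ∈ S := by
      intro i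
      fin_cases i
      · exact one_mem _
      · exact ⟨t0, hEM 0⟩
      · exact ⟨t1, hEM 1⟩
      · exact ⟨mul_mem t0 t1, mul_mem (hEM 0) (hEM 1)⟩
      · exact ⟨t2, hEM 2⟩
    have hEW : ∀ i, E i ∉ D.W := fun i e => haW (by
      simpa [E, mul_assoc] using D.W_conj (y ^ i)⁻¹ e)
    have h012 : (e0 * e1)⁻¹ * e2 ∉ D.W := by
      intro e
      -- modulo the invariant subgroup the group is commutative of exponent two
      haveI hWn : D.W.Normal := ⟨fun n hn g => D.W_conj g hn⟩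
      let π := QuotientGroup.mk' D.W
      have hπ : ∀ g, π g = 1 ↔ g ∈ D.W := fun g => QuotientGroup.eq_one_iff g
      have q01 : π e0 * π e1 = π e2 := by
        have h := (hπ _).2 e
        rwa [map_mul, map_inv, map_mul, inv_mul_eq_one] at h
      have h1 : (E 1 * E 2)⁻¹ * E 3 ∈ D.W := by
        have := D.W_conj y e
        have hy : ∀ i, y * E i * y⁻¹ = E (i + 1) := fun i => by simp only [E, pow_succ']; group
        rwa [show y * ((e0 * e1)⁻¹ * e2) * y⁻¹ = (E 1 * E 2)⁻¹ * E 3 by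
          calc y * ((e0 * e1)⁻¹ * e2) * y⁻¹
              = ((y * e0 * y⁻¹) * (y * e1 * y⁻¹))⁻¹ * (y * e2 * y⁻¹) := by group
            _ = _ := by rw [he0, he1, he2, hy 0, hy 1, hy 2]] at this
      have q13 : π e1 * π e2 = π (E 3) := by
        have h := (hπ _).2 h1
        rwa [map_mul, map_inv, map_mul, inv_mul_eq_one] at h
      have s1 : π e1 * π e1 = 1 := by
        rw [← map_mul, hπ]; exact D.isK_W (hEsq 1)
      have cc : π e0 * π e1 = π e1 * π e0 := by
        have h := (hπ _).2 (hcmW _ (hEM 0) _ (hEM 1))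
        simp only [cm, map_mul, map_inv, ← he0, ← he1] at h
        rwa [mul_inv_eq_one, mul_inv_eq_iff_eq_mul] at h
      refine hEdist 3 0 (by norm_num) (by norm_num) (by norm_num) ((hπ _).1 ?_)
      rw [map_mul, map_inv, ← he0, inv_mul_eq_one, ← q13, ← q01, cc, ← mul_assoc, s1, one_mul]
    let f : Fin 5 × D.W → S := fun p => ⟨el p.1 * p.2.1, mul_mem (hel p.1) ⟨hT _ p.2.2, hWle p.2.2⟩⟩
    have hd : ∀ i j, i ≠ j → (el i)⁻¹ * el j ∉ D.W := by
      have inv_case : ∀ p q : H, p⁻¹ * q ∉ D.W → q⁻¹ * p ∉ D.W := fun p q h e => h (by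
        simpa [mul_inv_rev] using D.W.inv_mem e)
      have a1 : (1 : H)⁻¹ * e0 ∉ D.W := by simpa using hEW 0
      have a2 : (1 : H)⁻¹ * e1 ∉ D.W := by simpa using hEW 1
      have a3 : (1 : H)⁻¹ * (e0 * e1) ∉ D.W := by
        rw [inv_one, one_mul]
        intro e
        refine ne01 ?_
        rw [show e0⁻¹ * e1 = (e0 * e0)⁻¹ * (e0 * e1) by group]
        exact mul_mem (D.W.inv_mem (D.isK_W (hEsq 0))) e
      have a4 : (1 : H)⁻¹ * e2 ∉ D.W := by simpa using hEW 2
      have b3 : e0⁻¹ * (e0 * e1) ∉ D.W := by simpa using hEW 1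
      have b4 := hEdist 0 2 (by norm_num) (by norm_num) (by norm_num)
      have c3 : e1⁻¹ * (e0 * e1) ∉ D.W := fun e => hEW 0 (by
        simpa [mul_assoc, ← he1] using D.W_conj e1 e)
      have c4 := hEdist 1 2 (by norm_num) (by norm_num) (by norm_num)
      intro i j hij
      fin_cases i <;> fin_cases j <;>
        first
          | exact absurd rfl hij
          | exact a1 | exact a2 | exact a3 | exact a4 | exact ne01 | exact b3 | exact b4 | exact c3 | exact c4
          | exact h012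
          | exact inv_case _ _ a1 | exact inv_case _ _ a2 | exact inv_case _ _ a3 | exact inv_case _ _ a4
          | exact inv_case _ _ ne01 | exact inv_case _ _ b3 | exact inv_case _ _ b4 | exact inv_case _ _ c3
          | exact inv_case _ _ c4 | exact inv_case _ _ h012
    have hf : Function.Injective f := by
      rintro ⟨i, u⟩ ⟨j, v⟩ e
      have e' : el i * u.1 = el j * v.1 := congrArg Subtype.val e
      by_cases hij : i = j
      · subst hij
        exact Prod.ext rfl (Subtype.ext (mul_left_cancel e'))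
      · refine absurd ?_ (hd i j hij)
        rw [show (el i)⁻¹ * el j = u.1 * v.1⁻¹ by
          calc (el i)⁻¹ * el j = (el i)⁻¹ * (el j * v.1) * v.1⁻¹ := by group
            _ = _ := by rw [← e']; group]
        exact mul_mem u.2 (inv_mem v.2)
    have h80 := Nat.card_le_card_of_injective f hf
    rw [Nat.card_prod, Nat.card_fin, hW16] at h80
    have hd' : Nat.card S ∣ 128 := D.card ▸ card_dvd_of_le inf_le_right
    have key : ∀ n ∈ Nat.divisors 128, 80 ≤ n → n = 128 := by decide +kernel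
    have := key _ (Nat.mem_divisors.2 ⟨hd', by norm_num⟩) h80
    have hSM : S = M := Subgroup.eq_of_le_of_card_ge (inf_le_right : S ≤ M) (by rw [this, D.card])
    exact fun m hm => (hSM.symm ▸ hm : m ∈ S).1
  set w01 := cm e0 e1 with hw01
  set w02 := cm e0 e2 with hw02
  set w12 := cm e1 e2 with hw12
  have rE : r * e1 * r⁻¹ = e2 := by
    have hra : r * a * r⁻¹ = a := mul_inv_eq_iff_eq_mul.2 (mem_cz.1 har).symm
    calc r * e1 * r⁻¹ = (r * y * r⁻¹) * (r * a * r⁻¹) * (r * y * r⁻¹)⁻¹ := by simp only [he1, E, pow_one]; group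
      _ = _ := by rw [hra, D.rel, he2]; simp only [E, pow_two]
  have rE0 : r * e0 * r⁻¹ = e0 := by
    simp only [he0, E, pow_zero, one_mul, inv_one, mul_one]
    exact mul_inv_eq_iff_eq_mul.2 (mem_cz.1 har).symm
  have h02 : r * w01 * r⁻¹ = w02 := by rw [hw01, cm_conj, rE0, rE, ← hw02]
  have h12 : y * w01 * y⁻¹ = w12 := by
    rw [hw01, cm_conj, hw12]
    congr 1 <;> simp only [he0, he1, he2, E, pow_succ', pow_zero] <;> group
  have hne : ¬ (w01 = 1 ∨ w01 = k) := by
    intro h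
    refine haW ⟨haM, fun b hb => ?_⟩
    let T : Subgroup H :=
      { carrier := {b | cm e0 b = 1 ∨ cm e0 b = k}
        one_mem' := Or.inl (by simp [cm])
        mul_mem' := fun {p q} hp hq => by
          show _ ∨ _
          rw [cm_mul_right, D.isK_conj p hq]
          exact D.isK_mul hp hq
        inv_mem' := fun {p} hp => by
          show _ ∨ _
          rw [show cm e0 p⁻¹ = p⁻¹ * (cm e0 p)⁻¹ * p⁻¹⁻¹ by simp only [cm]; group, D.isK_conj _ (D.isK_inv hp)]
          exact D.isK_inv hp }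
    have h' : cm e0 e2 = 1 ∨ cm e0 e2 = k := by
      rw [← hw02, ← h02, D.isK_conj r h]; exact h
    have : cm e0 b = 1 ∨ cm e0 b = k := hgen T (fun u hu => by
      show _ ∨ _
      rw [← cm_inv u e0]; exact D.isK_inv ((D.mem_W.1 hu).2 _ (hEM 0)))
      (Or.inl (by simp [cm])) h h' hb
    rwa [show e0 = a by simp [he0, E]] at this
  have nc : ∀ v, v ∈ D.W → ¬ (v = 1 ∨ v = k) → ∀ p q s : H,
      (∀ T : Subgroup H, (∀ u ∈ D.W, u ∈ T) → p ∈ T → q ∈ T → s ∈ T → M ≤ T) →
      Commute p v → Commute q v → cm v s = 1 → False := by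
    intro v hv hvK p q s hg hp hq hs
    refine hvK (D.center v (hWle hv) fun m hm => ?_)
    exact mem_cz.1 (hg (cz v) (fun u hu => mem_cz.2 (habel u hu v hv)) (mem_cz.2 hp.eq) (mem_cz.2 hq.eq)
      (mem_cz.2 (cm_eq_one.1 hs).symm) hm)
  have nK12 : ¬ (w12 = 1 ∨ w12 = k) := fun e => hne (by
    have := D.isK_conj y⁻¹ e
    rw [← h12, show y⁻¹ * (y * w01 * y⁻¹) * y⁻¹⁻¹ = w01 by group, h12] at this
    rw [this]; exact e)
  have nK02 : ¬ (w02 = 1 ∨ w02 = k) := fun e => hne (by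
    have := D.isK_conj r⁻¹ e
    rw [← h02, show r⁻¹ * (r * w01 * r⁻¹) * r⁻¹⁻¹ = w01 by group, h02] at this
    rw [this]; exact e)
  have swap : ∀ {p q : H}, cm p q ∈ D.W → cm q p = cm p q := fun {p q} h => by
    rw [← cm_inv p q]; exact inv_eq_of_mul_eq_one_left (hsq _ h)
  have c01 : Commute e0 w01 := hcmmul 0 e1 (hEM 1)
  have c11 : Commute e1 w01 := by
    have := hcmmul 1 e0 (hEM 0)
    rwa [← he1, swap (hcmW _ (hEM 0) _ (hEM 1))] at this
  have c02 : Commute e0 w02 := hcmmul 0 e2 (hEM 2)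
  have c22 : Commute e2 w02 := by
    have := hcmmul 2 e0 (hEM 0)
    rwa [← he2, swap (hcmW _ (hEM 0) _ (hEM 2))] at this
  have c12 : Commute e1 w12 := hcmmul 1 e2 (hEM 2)
  have c212 : Commute e2 w12 := by
    have := hcmmul 2 e1 (hEM 1)
    rwa [← he2, swap (hcmW _ (hEM 1) _ (hEM 2))] at this
  have hW01 : w01 ∈ D.W := hcmW _ (hEM 0) _ (hEM 1)
  have hW02 : w02 ∈ D.W := hcmW _ (hEM 0) _ (hEM 2)
  have hW12 : w12 ∈ D.W := hcmW _ (hEM 1) _ (hEM 2)
  have k01 : cm w01 e2 = k := ((D.mem_W.1 hW01).2 _ (hEM 2)).resolve_left fun e =>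
    nc w01 hW01 hne e0 e1 e2 hgen c01 c11 e
  have k02 : cm w02 e1 = k := ((D.mem_W.1 hW02).2 _ (hEM 1)).resolve_left fun e =>
    nc w02 hW02 nK02 e0 e2 e1 (fun T h a b c => hgen T h a c b) c02 c22 e
  have k12 : cm w12 e0 = k := ((D.mem_W.1 hW12).2 _ (hEM 0)).resolve_left fun e =>
    nc w12 hW12 nK12 e1 e2 e0 (fun T h a b c => hgen T h c a b) c12 c212 e
  have kinv : k⁻¹ = k := inv_eq_of_mul_eq_one_left D.k_sq
  have conj0 : e0 * w12 * e0⁻¹ = k * w12 := by
    rw [show e0 * w12 * e0⁻¹ = (cm w12 e0)⁻¹ * w12 by simp only [cm]; group, k12, kinv]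
  have conj1 : e1 * w02 * e1⁻¹ = k * w02 := by
    rw [show e1 * w02 * e1⁻¹ = (cm w02 e1)⁻¹ * w02 by simp only [cm]; group, k02, kinv]
  have hx : e0 * e1 * (e0 * e1) = w01 * (e0 * e0) * (e1 * e1) := by
    have h10 : e1 * e0 = w01 * (e0 * e1) := by
      rw [hw01, ← swap (show cm e0 e1 ∈ D.W from hcmW _ (hEM 0) _ (hEM 1))]; simp only [cm]; group
    calc e0 * e1 * (e0 * e1) = e0 * (e1 * e0) * e1 := by simp only [mul_assoc]
      _ = (e0 * w01) * (e0 * e1) * e1 := by rw [h10]; simp only [mul_assoc]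
      _ = _ := by rw [c01.eq]; simp only [mul_assoc]
  have lhs : cm (e0 * e1 * (e0 * e1)) e2 = k := by
    have z1 : cm (e1 * e1) e2 = 1 := cm_eq_one.2 (by
      rcases hEsq 1 with e | e <;> rw [← he1] at e <;> rw [e]
      · simp
      · exact (D.k_cent e2).symm)
    have z0 : cm (e0 * e0) e2 = 1 := cm_eq_one.2 (by
      rcases hEsq 0 with e | e <;> rw [← he0] at e <;> rw [e]
      · simp
      · exact (D.k_cent e2).symm)
    rw [hx, cm_mul_left (w01 * (e0 * e0)) (e1 * e1), z1, cm_mul_left w01 (e0 * e0), z0, k01]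
    group
  have cx : cm (e0 * e1) e2 = k * (w12 * w02) := by
    rw [cm_mul_left, ← hw12, ← hw02, conj0, mul_assoc]
  have hxc : e0 * e1 * cm (e0 * e1) e2 * (e0 * e1)⁻¹ = cm (e0 * e1) e2 := by
    rw [cx]
    calc e0 * e1 * (k * (w12 * w02)) * (e0 * e1)⁻¹
        = (e0 * e1 * k * (e0 * e1)⁻¹) * ((e0 * (e1 * w12 * e1⁻¹) * e0⁻¹) * (e0 * (e1 * w02 * e1⁻¹) * e0⁻¹)) := by group
      _ = k * ((k * w12) * (e0 * (k * w02) * e0⁻¹)) := by
        rw [D.isK_conj _ (Or.inr rfl), mul_inv_eq_iff_eq_mul.2 c12.eq, conj0, conj1]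
      _ = k * ((k * w12) * (k * w02)) := by
        rw [show e0 * (k * w02) * e0⁻¹ = (e0 * k * e0⁻¹) * (e0 * w02 * e0⁻¹) by group, D.isK_conj _ (Or.inr rfl),
          mul_inv_eq_iff_eq_mul.2 c02.eq]
      _ = k * (w12 * w02) := by
        rw [mul_assoc k w12, ← mul_assoc w12, D.k_cent w12, mul_assoc k w12, ← mul_assoc k k, D.k_sq, one_mul]
  have rhs : cm (e0 * e1 * (e0 * e1)) e2 = 1 := by
    rw [cm_mul_left, hxc]
    exact hsq _ (hcmW _ (mul_mem (hEM 0) (hEM 1)) _ (hEM 2))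
  exact D.k_ne (lhs.symm.trans rhs)

/-- The subgroup is extraspecial. -/
theorem isExtraspecial : Cfsg.IsExtraspecial 2 M := by
  haveI := D.normal
  have hcen : ∀ m : M, m ∈ Subgroup.center M ↔ ((m : H) = 1 ∨ (m : H) = k) := fun m => by
    rw [mem_center_iff]
    constructor
    · exact fun h => D.center m m.2 fun a ha => congrArg Subtype.val (h ⟨a, ha⟩)
    · rintro (e | e) g <;> apply Subtype.ext <;> show (g : H) * m = m * g <;> rw [e]
      · simp
      · exact D.k_cent g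
  refine CfsgLib.Monster.isExtraspecial_of (IsPGroup.of_card (n := 7) D.card) ?_ ?_ ?_ ?_
  · rw [← D.fixed_card]
    exact Nat.card_congr
      { toFun := fun m => ⟨(m.1 : H), (hcen m.1).1 m.2⟩
        invFun := fun m => ⟨⟨m.1, (D.mem_W.1 (D.isK_W m.2)).1⟩, (hcen _).2 m.2⟩
        left_inv := fun _ => rfl
        right_inv := fun _ => rfl }
  · exact fun a b => (hcen _).2 (D.comm_mem_K a a.2 b b.2)
  · intro a
    rw [hcen]
    refine D.center _ (mul_mem a.2 a.2) fun b hb => ((cm_eq_one.1 ?_) : (a : H) * a * b = b * ((a : H) * a)).symm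
    have h := D.comm_mem_K a a.2 b hb
    rw [cm_mul_left, D.isK_conj _ h]
    rcases h with e | e <;> rw [e] <;> simp [D.k_sq]
  · obtain ⟨a, ha, b, hb, hne⟩ := D.nonab
    exact ⟨⟨a, ha.1⟩, ⟨b, hb.1⟩, fun e => hne (congrArg Subtype.val e)⟩

end Data

end CfsgLib.M24Nse.Extra
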