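import Cfsg.Agent.M24Nse.CentThree
import Cfsg.Agent.M24Nse.Extra
import Cfsg.Agent.HeldU.Module.Setup
import Cfsg.Agent.S0255
import Cfsg.Agent.S0997
import Cfsg.Agent.S1006

/-!
The centraliser of the central involution.
-/

set_option autoImplicit false
set_option linter.style.haveILetI false
set_option linter.unusedSectionVars false
set_option maxHeartbeats 600000

namespace CfsgLib.M24Nse

open Subgroup CfsgLib.ThreeCounts CfsgLib.M12Nse

universe u

/-- A central subgroup of prime order that is a Sylow subgroup. -/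
theorem mem_of_central {D : Type*} [Group D] [Finite D] {p n : ℕ} [hp : Fact p.Prime] {c x : D}
    (hc : orderOf c = p) (hcen : ∀ g : D, g * c = c * g) (hf : (Nat.card D).factorization p = 1)
    (hx : x ^ p ^ n = 1) : x ∈ zpowers c := by
  haveI hn : (zpowers c).Normal := ⟨fun a ha g => by
    obtain ⟨i, rfl⟩ := mem_zpowers_iff.1 ha
    rw [((show Commute g c from hcen g).zpow_right i).eq, mul_inv_cancel_right]
    exact zpow_mem (mem_zpowers c) i⟩
  let P : Sylow p D := Sylow.ofCard (zpowers c) (by rw [Nat.card_zpowers, hc, hf, pow_one])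
  haveI : Subsingleton (Sylow p D) := by
    haveI := P.unique_of_normal hn
    infer_instance
  obtain ⟨m, -, hm⟩ := (Nat.dvd_prime_pow hp.out).1 (orderOf_dvd_of_pow_eq_one hx)
  have h2 : IsPGroup p (zpowers x) := IsPGroup.of_card (n := m) (by rw [Nat.card_zpowers, hm])
  obtain ⟨Q, hQ⟩ := h2.exists_le_sylow
  rw [Subsingleton.elim Q P] at hQ
  exact hQ (mem_zpowers x)

theorem center_sl3_two : Subgroup.center (Matrix.SpecialLinearGroup (Fin 3) (ZMod 2)) = ⊥ := by
  refine eq_bot_iff.2 fun A hA => Subgroup.mem_bot.2 ?_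
  obtain ⟨r, hr, hA'⟩ := Matrix.SpecialLinearGroup.mem_center_iff.1 hA
  have hr1 : r = 1 := by
    have key : ∀ a : ZMod 2, a ^ 3 = 1 → a = 1 := by decide
    exact key r (by simpa using hr)
  exact Subtype.ext (by rw [← hA', hr1, map_one]; rfl)

namespace Local

variable {G : Type u} [Group G] [Finite G] (h : Local G) (hK : Small G)
include h hK

variable {k y : G} (hk : orderOf k = 2) (hy : orderOf y = 7) (hc : k * y = y * k)
include hk hy hc

theorem cnt_seven_cz : cnt ↥(cz k) 7 = 3072 := by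
  have hcp := class_pairs (p := 7) hk h.seven_two fun t' y' ht' hy' hc' => h.isConj_seven hk ht' hy hy' hc hc'
  have hi := index_eq_div (g := k) (hK k y hk hy hc)
  rw [h.card] at hi
  rw [h.cnt7, show (cz k).index = 11385 by omega] at hcp
  omega

theorem card_pair : Nat.card ↥(cz k ⊓ cz y) = 14 := by
  haveI : Fact (Nat.Prime 3) := ⟨Nat.prime_three⟩
  have hd : Nat.card ↥(cz k ⊓ cz y) ∣ 42 := h.seven y hy ▸ card_dvd_of_le inf_le_right
  have h14 : 14 ∣ Nat.card ↥(cz k ⊓ cz y) := by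
    refine (show Nat.Coprime 2 7 by norm_num).mul_dvd_of_dvd_of_dvd ?_ ?_
    · exact hk ▸ Subgroup.orderOf_dvd_natCard _ ⟨self_mem_cz k, mem_cz.2 hc⟩
    · exact hy ▸ Subgroup.orderOf_dvd_natCard _ ⟨mem_cz.2 hc.symm, self_mem_cz y⟩
  have h3 : ¬ 3 ∣ Nat.card ↥(cz k ⊓ cz y) := fun h3 => by
    obtain ⟨g, hg⟩ := exists_prime_orderOf_dvd_card' (G := ↥(cz k ⊓ cz y)) 3 h3
    have := h.inf_eq hK hk ((Subgroup.orderOf_coe g).trans hg) (mem_cz.1 g.2.1)
    have h7 : 7 ∣ Nat.card ↥(cz k ⊓ cz (g : G)) :=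
      hy ▸ Subgroup.orderOf_dvd_natCard _ ⟨mem_cz.2 hc.symm, mem_cz.2 (mem_cz.1 g.2.2).symm⟩
    rw [this] at h7
    norm_num at h7
  have key : ∀ n ∈ Nat.divisors 42, 14 ∣ n → ¬ 3 ∣ n → n = 14 := by decide +kernel
  exact key _ (Nat.mem_divisors.2 ⟨hd, by norm_num⟩) h14 h3

/-- The only two-elements centralised by the element of order seven. -/
theorem fix_two {m : cz k} {n : ℕ} (hm : m ^ 2 ^ n = 1) (hmy : (m : G) * y = y * m) :
    m = 1 ∨ m = ⟨k, self_mem_cz k⟩ := by
  haveI : Fact (Nat.Prime 2) := ⟨Nat.prime_two⟩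
  let D : Subgroup G := cz k ⊓ cz y
  let k' : D := ⟨k, self_mem_cz k, mem_cz.2 hc⟩
  have hmem : (⟨m, m.2, mem_cz.2 hmy⟩ : D) ∈ zpowers k' := mem_of_central (p := 2) (n := n)
    (by rw [← Subgroup.orderOf_coe]; exact hk) (fun g => Subtype.ext (mem_cz.1 g.2.1))
    (by rw [h.card_pair hK hk hy hc]; exact factorization_one Nat.prime_two (show 2 * 7 = 14 by norm_num) (by norm_num))
    (Subtype.ext (by have := congrArg Subtype.val hm; simpa using this))
  obtain ⟨i, hi⟩ := mem_zpowers_iff.1 hmem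
  have hi' : (m : G) = k ^ i := by simpa [k'] using (congrArg Subtype.val hi).symm
  rw [← zpow_mod_orderOf, hk] at hi'
  rcases Int.emod_two_eq_zero_or_one i with e | e <;>
    rw [show i % ((2 : ℕ) : ℤ) = _ from e] at hi'
  · exact Or.inl (Subtype.ext (by rw [hi', zpow_zero]; rfl))
  · exact Or.inr (Subtype.ext (by rw [hi', zpow_one]))

/-- The normaliser of the subgroup of order seven in the centraliser. -/
theorem card_norm_pair : Nat.card (normalizer (zpowers (⟨y, mem_cz.2 hc.symm⟩ : cz k) : Set (cz k))) = 42 := by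
  haveI : Fact (Nat.Prime 7) := ⟨by norm_num⟩
  set y' : cz k := ⟨y, mem_cz.2 hc.symm⟩
  have hy' : orderOf y' = 7 := by rw [← Subgroup.orderOf_coe]; exact hy
  have hf : (Nat.card (cz k)).factorization 7 = 1 :=
    factorization_one (by norm_num) (show 7 * 3072 = _ by rw [hK k y hk hy hc]) (by norm_num)
  let P : Sylow 7 (cz k) := Sylow.ofCard (zpowers y') (by rw [Nat.card_zpowers, hy', hf, pow_one])
  have h2 : Nat.card (Sylow 7 (cz k)) = (normalizer (zpowers y' : Set (cz k))).index := P.card_eq_index_normalizer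
  have h3 := (normalizer (zpowers y' : Set (cz k))).card_mul_index
  have h4 := CfsgLib.Nse.card_sylow_prime hf
  rw [h.cnt_seven_cz hK hk hy hc] at h4
  rw [← h2, hK k y hk hy hc, show Nat.card (Sylow 7 (cz k)) = 512 by omega] at h3
  omega

/-- An element of order three acting on the subgroup of order seven. -/
theorem exists_rotor : ∃ r : cz k, orderOf r = 3 ∧
    r * (⟨y, mem_cz.2 hc.symm⟩ : cz k) * r⁻¹ = ⟨y, mem_cz.2 hc.symm⟩ * ⟨y, mem_cz.2 hc.symm⟩ := by
  classical
  haveI : Fact (Nat.Prime 3) := ⟨Nat.prime_three⟩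
  set y' : cz k := ⟨y, mem_cz.2 hc.symm⟩ with hy'def
  have hy' : orderOf y' = 7 := by rw [← Subgroup.orderOf_coe]; exact hy
  obtain ⟨⟨r, hrN⟩, hr⟩ := exists_prime_orderOf_dvd_card' (G := ↥(normalizer (zpowers y' : Set (cz k)))) 3
    (by rw [h.card_norm_pair hK hk hy hc]; norm_num)
  rw [Subgroup.orderOf_mk] at hr
  obtain ⟨i, hi7, hi⟩ : ∃ i < 7, y' ^ i = r * y' * r⁻¹ := by
    have := (mem_zpowers_iff_mem_range_orderOf (x := y')).1 ((mem_normalizer_iff.1 hrN y').1 (mem_zpowers y'))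
    rw [Finset.mem_image] at this
    obtain ⟨i, hi, e⟩ := this
    exact ⟨i, hy' ▸ Finset.mem_range.1 hi, e⟩
  have hconj : ∀ j : ℕ, r * y' ^ j * r⁻¹ = y' ^ (i * j) := fun j => by rw [← conj_pow, ← hi, pow_mul]
  have hr3 : r * r * r = 1 := by rw [← pow_three', ← hr, pow_orderOf_eq_one]
  have hcube : y' ^ (i * (i * i)) = y' ^ 1 := by
    rw [← hconj, ← hconj, hi, pow_one,
      show r * (r * (r * y' * r⁻¹) * r⁻¹) * r⁻¹ = (r * r * r) * y' * (r * r * r)⁻¹ by group, hr3]
    simp
  have hi1 : i ≠ 1 := fun e => by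
    rw [e, pow_one] at hi
    have hcomm : (r : G) * y = y * r := congrArg Subtype.val (mul_inv_eq_iff_eq_mul.1 hi.symm)
    have h3 : orderOf (r : G) ∣ Nat.card ↥(cz k ⊓ cz y) :=
      Subgroup.orderOf_dvd_natCard _ ⟨r.2, mem_cz.2 hcomm⟩
    rw [h.card_pair hK hk hy hc, Subgroup.orderOf_coe, hr] at h3
    norm_num at h3
  have hmod : i * (i * i) % 7 = 1 := by
    have := pow_eq_pow_iff_modEq.1 hcube
    rw [hy'] at this
    exact this
  have key : ∀ j < 7, j * (j * j) % 7 = 1 → j ≠ 1 → j = 2 ∨ j = 4 := by decide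
  rcases key i hi7 hmod hi1 with rfl | rfl
  · exact ⟨r, hr, by rw [← hi, pow_two]⟩
  · refine ⟨r⁻¹, by rw [orderOf_inv]; exact hr, ?_⟩
    have hinv : r⁻¹ = r * r := inv_eq_of_mul_eq_one_left hr3
    rw [inv_inv]
    calc r⁻¹ * y' * r = (r * r) * y' * (r * r)⁻¹ := by rw [← hinv, inv_inv]
      _ = r * (r * y' * r⁻¹) * r⁻¹ := by group
      _ = y' ^ (4 * 4) := by rw [← hi, hconj]
      _ = _ := by rw [pow_eq_pow_mod (4 * 4) (hy' ▸ pow_orderOf_eq_one y' : y' ^ 7 = 1),
          show 4 * 4 % 7 = 2 from rfl, pow_two]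

/-- The largest normal subgroup of order prime to seven. -/
theorem exists_max : ∃ M : Subgroup (cz k), M.Normal ∧ ¬ 7 ∣ Nat.card M ∧
    ∀ L : Subgroup (cz k), L.Normal → ¬ 7 ∣ Nat.card L → M ≤ L → L = M := by
  obtain ⟨M, ⟨hM1, hM2⟩, hmax⟩ := (Set.toFinite {L : Subgroup (cz k) | L.Normal ∧ ¬ 7 ∣ Nat.card L}).exists_maximal
    ⟨⊥, inferInstance, by rw [Subgroup.card_bot]; norm_num⟩
  exact ⟨M, hM1, hM2, fun L h1 h2 hle => le_antisymm (hmax ⟨h1, h2⟩ hle) hle⟩

/-- The quotient by the largest normal subgroup of order prime to seven. -/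
theorem exists_quot : ∃ (M : Subgroup (cz k)) (_ : M.Normal), (∃ e, Nat.card M = 2 ^ e) ∧
    (⟨k, self_mem_cz k⟩ : cz k) ∈ M ∧ IsSimpleGroup (cz k ⧸ M) := by
  haveI : Fact (Nat.Prime 2) := ⟨Nat.prime_two⟩
  haveI : Fact (Nat.Prime 3) := ⟨Nat.prime_three⟩
  haveI : Fact (Nat.Prime 7) := ⟨by norm_num⟩
  obtain ⟨M, hMn, hM7, hmax⟩ := h.exists_max hK hk hy hc
  haveI := hMn
  set y' : cz k := ⟨y, mem_cz.2 hc.symm⟩ with hy'def
  set k' : cz k := ⟨k, self_mem_cz k⟩ with hk'def
  have hy' : orderOf y' = 7 := by rw [← Subgroup.orderOf_coe]; exact hy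
  have hk' : orderOf k' = 2 := by rw [← Subgroup.orderOf_coe]; exact hk
  have hcard := hK k y hk hy hc
  have hkcen : ∀ g : cz k, g * k' = k' * g := fun g => Subtype.ext (mem_cz.1 g.2)
  have hdM : Nat.card M ∣ 21504 := hcard ▸ card_subgroup_dvd_card M
  have hf3 : (Nat.card (cz k)).factorization 3 = 1 :=
    factorization_one Nat.prime_three (show 3 * 7168 = _ by rw [hcard]) (by norm_num)
  have hf7 : (Nat.card (cz k)).factorization 7 = 1 :=
    factorization_one (by norm_num) (show 7 * 3072 = _ by rw [hcard]) (by norm_num)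
  -- a two-group
  have hM3 : ¬ 3 ∣ Nat.card M := fun h3 => by
    obtain ⟨Q, -, hQc, hQy⟩ := exists_sylow_normalized (p := 7) (q := 3) (x := y') (by rw [← hy', pow_orderOf_eq_one])
      M hM7 fun g => ⟨fun hg => hMn.conj_mem g hg y', fun hg => by simpa [mul_assoc] using hMn.conj_mem _ hg y'⁻¹⟩
    have hQ3 : Nat.card Q = 3 := by
      rw [hQc, le_antisymm (hf3 ▸ (Nat.factorization_le_iff_dvd Nat.card_pos.ne' Nat.card_pos.ne').2
        (card_subgroup_dvd_card M) 3) ((Nat.prime_three.dvd_iff_one_le_factorization Nat.card_pos.ne').1 h3), pow_one]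
    have hm := card_modEq_fixed (p := 7) (n := 1) (x := y') (by rw [pow_one, ← hy', pow_orderOf_eq_one])
      (fun g => g ∈ Q) hQy
    rw [show Nat.card {g : cz k // g ∈ Q} = 3 from hQ3] at hm
    let fi : {g : cz k // g ∈ Q ∧ g * y' = y' * g} → Q := fun g => ⟨g.1, g.2.1⟩
    have hfi : Function.Injective fi := fun a b e => Subtype.ext (congrArg (fun z : Q => (z : cz k)) e)
    have hle : Nat.card {g : cz k // g ∈ Q ∧ g * y' = y' * g} ≤ 3 :=
      (Nat.card_le_card_of_injective fi hfi).trans hQ3.le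
    have h3' : Nat.card {g : cz k // g ∈ Q ∧ g * y' = y' * g} = 3 := by unfold Nat.ModEq at hm; omega
    obtain ⟨g, hg⟩ := exists_prime_orderOf_dvd_card' (G := Q) 3 (by rw [hQ3])
    obtain ⟨⟨g', hg'Q, hg'y⟩, hg'⟩ := ((Nat.bijective_iff_injective_and_card fi).2 ⟨hfi, h3'.trans hQ3.symm⟩).2 g
    have hgy : ((g : cz k) : G) * y = y * ((g : cz k) : G) := by
      rw [← hg']; exact congrArg Subtype.val hg'y
    have h3 : orderOf ((g : cz k) : G) ∣ Nat.card ↥(cz k ⊓ cz y) :=
      Subgroup.orderOf_dvd_natCard _ ⟨(g : cz k).2, mem_cz.2 hgy⟩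
    rw [h.card_pair hK hk hy hc, Subgroup.orderOf_coe, Subgroup.orderOf_coe, hg] at h3
    norm_num at h3
  obtain ⟨e, he10, hMe⟩ : ∃ e ≤ 10, Nat.card M = 2 ^ e := by
    have hcop : (Nat.card M).Coprime 21 := Nat.Coprime.mul_right (m := 3) (n := 7)
      ((Nat.Prime.coprime_iff_not_dvd (by norm_num)).2 hM3).symm
      ((Nat.Prime.coprime_iff_not_dvd (by norm_num)).2 hM7).symm
    exact (Nat.dvd_prime_pow Nat.prime_two).1 (hcop.dvd_of_dvd_mul_right (show Nat.card M ∣ 2 ^ 10 * 21 from hdM))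
  have hMp : IsPGroup 2 M := IsPGroup.of_card hMe
  -- it contains the central involution
  have hkM : k' ∈ M := by
    haveI : (zpowers k').Normal := ⟨fun a ha g => by
      obtain ⟨i, rfl⟩ := mem_zpowers_iff.1 ha
      rw [((show Commute g k' from hkcen g).zpow_right i).eq, mul_inv_cancel_right]
      exact zpow_mem (mem_zpowers k') i⟩
    have hp : IsPGroup 2 (M ⊔ zpowers k' : Subgroup (cz k)) :=
      hMp.to_sup_of_normal_left (IsPGroup.of_card (n := 1) (by rw [Nat.card_zpowers, hk', pow_one]))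
    obtain ⟨j, hj⟩ := IsPGroup.iff_card.1 hp
    have := hmax (M ⊔ zpowers k') inferInstance (fun h7 => by
      rw [hj] at h7
      exact absurd ((Nat.prime_dvd_prime_iff_eq (by norm_num) Nat.prime_two).1
        ((show Nat.Prime 7 by norm_num).dvd_of_dvd_pow h7)) (by norm_num)) le_sup_left
    exact this ▸ mem_sup_right (mem_zpowers k')
  refine ⟨M, hMn, ⟨e, hMe⟩, hkM, ?_⟩
  -- simplicity
  haveI : Nontrivial (cz k ⧸ M) := Finite.one_lt_card_iff_nontrivial.1 (by
    have hq := Subgroup.card_eq_card_quotient_mul_card_subgroup M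
    rw [hcard] at hq
    rcases Nat.lt_or_ge 1 (Nat.card (cz k ⧸ M)) with h1 | h1
    · exact h1
    · exfalso
      have hq1 : Nat.card (cz k ⧸ M) = 1 := le_antisymm h1 Nat.card_pos
      rw [hq1, one_mul] at hq
      exact hM7 (hq ▸ by norm_num))
  refine ⟨fun X hX => ?_⟩
  by_contra hne
  push Not at hne
  let L : Subgroup (cz k) := X.comap (QuotientGroup.mk' M)
  haveI hLn : L.Normal := hX.comap _
  have hML : M ≤ L := fun g hg => by
    show (g : cz k ⧸ M) ∈ X
    rw [(QuotientGroup.eq_one_iff g).2 hg]; exact one_mem X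
  have hinj := Subgroup.comap_injective (f := QuotientGroup.mk' M) (QuotientGroup.mk'_surjective M)
  have hLM : L ≠ M := fun e' => hne.1 (hinj (by
    show L = _
    rw [e', MonoidHom.comap_bot, QuotientGroup.ker_mk']))
  have hLt : L ≠ ⊤ := fun e' => hne.2 (hinj (by show L = _; rw [e', Subgroup.comap_top]))
  have hL7 : 7 ∣ Nat.card L := by
    by_contra h7
    exact hLM (hmax L hLn h7 hML)
  obtain ⟨⟨x, hxL⟩, hx⟩ := exists_prime_orderOf_dvd_card' (G := L) 7 hL7
  rw [Subgroup.orderOf_mk] at hx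
  have hallL : ∀ a : cz k, orderOf a = 7 → a ∈ L := by
    intro a ha
    obtain ⟨g, hg⟩ := exists_conj_mem hf7 hx ha
    have hg1 : g * x * g⁻¹ ≠ 1 := fun e' => by
      rw [conj_eq_one_iff] at e'
      rw [e', orderOf_one] at hx
      norm_num at hx
    have hz : zpowers (g * x * g⁻¹) = zpowers a := by
      refine Subgroup.eq_of_le_of_card_ge (zpowers_le.2 hg) ?_
      rw [Nat.card_zpowers, Nat.card_zpowers, ha,
        show orderOf (g * x * g⁻¹) = orderOf x from (MulAut.conj g).orderOf_eq x, hx]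
    exact zpowers_le.2 (hLn.conj_mem x hxL g) (hz.symm ▸ mem_zpowers a)
  have hcntL : cnt L 7 = 3072 := by
    rw [← h.cnt_seven_cz hK hk hy hc]
    exact Nat.card_congr
      { toFun := fun g => ⟨g.1.1, by rw [Subgroup.orderOf_coe]; exact g.2⟩
        invFun := fun g => ⟨⟨g.1, hallL g.1 g.2⟩, by rw [← Subgroup.orderOf_coe]; exact g.2⟩
        left_inv := fun _ => rfl
        right_inv := fun _ => rfl }
  have hkL : k' ∈ L := hML hkM
  have hyL : y' ∈ L := hallL y' hy'
  have hLd : Nat.card L ∣ 21504 := hcard ▸ card_subgroup_dvd_card L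
  have hL : Nat.card L = 7168 := by
    let yL : L := ⟨y', hyL⟩
    have hfL : (Nat.card L).factorization 7 = 1 :=
      le_antisymm (hf7 ▸ (Nat.factorization_le_iff_dvd Nat.card_pos.ne' Nat.card_pos.ne').2 (card_subgroup_dvd_card L) 7)
        (((show Nat.Prime 7 by norm_num).dvd_iff_one_le_factorization Nat.card_pos.ne').1 hL7)
    let P : Sylow 7 L := Sylow.ofCard (zpowers yL) (by
      rw [Nat.card_zpowers, ← Subgroup.orderOf_coe, hfL, pow_one]; exact hy')
    have h2 : Nat.card (Sylow 7 L) = (normalizer (zpowers yL : Set L)).index := P.card_eq_index_normalizer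
    have h3 := (normalizer (zpowers yL : Set L)).card_mul_index
    have h4 := CfsgLib.Nse.card_sylow_prime hfL
    rw [hcntL] at h4
    rw [← h2, show Nat.card (Sylow 7 L) = 512 by omega] at h3
    have hmapz : ∀ a : L, a ∈ zpowers yL ↔ (a : cz k) ∈ zpowers y' := fun a => by
      rw [mem_zpowers_iff, mem_zpowers_iff]
      exact exists_congr fun j => by rw [Subtype.ext_iff, SubgroupClass.coe_zpow]
    have hd42 : Nat.card (normalizer (zpowers yL : Set L)) ∣ 42 := by
      rw [← h.card_norm_pair hK hk hy hc, ← card_map_of_injective L.subtype_injective]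
      refine card_dvd_of_le ?_
      rintro _ ⟨n, hn, rfl⟩
      refine mem_normalizer_iff.2 fun a => ⟨fun ha => ?_, fun ha => ?_⟩
      · have haL : a ∈ L := zpowers_le.2 hyL ha
        exact (hmapz _).1 ((mem_normalizer_iff.1 hn ⟨a, haL⟩).1 ((hmapz ⟨a, haL⟩).2 ha))
      · have haL : a ∈ L := by
          have := mul_mem (mul_mem (inv_mem n.2) (zpowers_le.2 hyL ha)) n.2
          simpa [mul_assoc] using this
        exact (hmapz ⟨a, haL⟩).1 ((mem_normalizer_iff.1 hn ⟨a, haL⟩).2 ((hmapz _).2 ha))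
    have h14 : 14 ∣ Nat.card (normalizer (zpowers yL : Set L)) := by
      refine (show Nat.Coprime 2 7 by norm_num).mul_dvd_of_dvd_of_dvd ?_ ?_
      · have hmem : (⟨k', hkL⟩ : L) ∈ normalizer (zpowers yL : Set L) := mem_normalizer_iff.2 fun a => by
          rw [show (⟨k', hkL⟩ : L) * a * (⟨k', hkL⟩ : L)⁻¹ = a from
            Subtype.ext (mul_inv_eq_iff_eq_mul.2 (hkcen a).symm)]
        have := Subgroup.orderOf_dvd_natCard _ hmem
        rwa [← Subgroup.orderOf_coe, hk'] at this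
      · have := Subgroup.orderOf_dvd_natCard _ ((le_normalizer : zpowers yL ≤ _) (mem_zpowers yL))
        rwa [← Subgroup.orderOf_coe, hy'] at this
    have key : ∀ n ∈ Nat.divisors 42, 14 ∣ n → n = 14 ∨ n = 42 := by decide +kernel
    rcases key _ (Nat.mem_divisors.2 ⟨hd42, by norm_num⟩) h14 with e14 | e42
    · omega
    · exact absurd (Subgroup.eq_top_of_le_card _ (by rw [hcard]; omega)) hLt
  -- the two-elements form a subgroup
  let T : Set (cz k) := {g | g ∈ L ∧ g ^ 1024 = 1}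
  have hT : T.ncard ≤ 1024 := by
    let E : Set (cz k) := {g | orderOf g = 7}
    have hE : E.ncard = 3072 := by
      rw [← Nat.card_coe_set_eq]; exact h.cnt_seven_cz hK hk hy hc
    have hEk : ((k' * ·) '' E).ncard = 3072 := by
      rw [Set.ncard_image_of_injective _ (mul_right_injective k'), hE]
    have hEsub : E ⊆ (L : Set (cz k)) := hallL
    have hk1 : k' * k' = 1 := by rw [← sq, ← hk', pow_orderOf_eq_one]
    have hne7 : ∀ g : cz k, orderOf g = 7 → g ^ 1024 ≠ 1 ∧ (k' * g) ^ 1024 ≠ 1 := by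
      intro g hg
      have h1 : g ^ 1024 ≠ 1 := fun e' => by
        have := orderOf_dvd_of_pow_eq_one e'
        rw [hg] at this; norm_num at this
      refine ⟨h1, ?_⟩
      rw [(show Commute k' g from (hkcen g).symm).mul_pow,
        show k' ^ 1024 = 1 from orderOf_dvd_iff_pow_eq_one.1 (by rw [hk']; norm_num), one_mul]
      exact h1
    have hd1 : Disjoint E ((k' * ·) '' E) := Set.disjoint_left.2 fun g hg hg' => by
      obtain ⟨f, hf, rfl⟩ := hg'
      have e1 : f ^ 7 = 1 := by rw [← (show orderOf f = 7 from hf), pow_orderOf_eq_one]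
      have e2 : (k' * f) ^ 7 = 1 := by rw [← (show orderOf (k' * f) = 7 from hg), pow_orderOf_eq_one]
      rw [(show Commute k' f from (hkcen f).symm).mul_pow, e1, mul_one] at e2
      have := orderOf_dvd_of_pow_eq_one e2
      rw [hk'] at this; norm_num at this
    have hd2 : Disjoint (E ∪ (k' * ·) '' E) T := Set.disjoint_left.2 fun g hg hg' => by
      rcases hg with hg | ⟨f, hf, rfl⟩
      · exact (hne7 g hg).1 hg'.2
      · exact (hne7 f hf).2 hg'.2
    have hsum := Set.ncard_le_ncard (s := (E ∪ (k' * ·) '' E) ∪ T) (t := (L : Set (cz k))) (by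
      refine Set.union_subset (Set.union_subset hEsub ?_) fun g hg => hg.1
      rintro _ ⟨f, hf, rfl⟩
      exact mul_mem hkL (hEsub hf))
    rw [Set.ncard_union_eq hd2, Set.ncard_union_eq hd1, hE, hEk, ← Nat.card_coe_set_eq (L : Set (cz k))] at hsum
    rw [show Nat.card ↥(L : Set (cz k)) = 7168 from hL] at hsum
    omega
  obtain ⟨P, hP⟩ := Sylow.exists_subgroup_card_pow_prime (G := L) 2 (n := 10) (by rw [hL]; norm_num)
  let P' : Subgroup (cz k) := P.map L.subtype
  have hP'c : Nat.card P' = 1024 := by rw [card_map_of_injective L.subtype_injective, hP]; norm_num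
  have hP'T : (P' : Set (cz k)) = T := by
    refine Set.eq_of_subset_of_ncard_le ?_ ?_
    · intro g hg
      refine ⟨map_subtype_le P hg, ?_⟩
      have := pow_card_eq_one' (x := (⟨g, hg⟩ : P'))
      rw [hP'c] at this
      exact congrArg Subtype.val this
    · rw [← Nat.card_coe_set_eq (P' : Set (cz k))]
      exact hT.trans hP'c.ge
  have hP'n : P'.Normal := ⟨fun a ha g => by
    have ha' : a ∈ T := hP'T ▸ ha
    show g * a * g⁻¹ ∈ (P' : Set (cz k))
    rw [hP'T]
    exact ⟨hLn.conj_mem a ha'.1 g, by rw [conj_pow, ha'.2, mul_one, mul_inv_cancel]⟩⟩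
  have hMP : M ≤ P' := fun m hm => by
    show m ∈ (P' : Set (cz k))
    rw [hP'T]
    refine ⟨hML hm, orderOf_dvd_iff_pow_eq_one.1 ?_⟩
    exact (Subgroup.orderOf_dvd_natCard M hm).trans (hMe ▸ (pow_dvd_pow 2 he10 : 2 ^ e ∣ 2 ^ 10))
  have hPM : P' = M := hmax P' hP'n (by rw [hP'c]; norm_num) hMP
  have hM10 : Nat.card M = 1024 := hPM ▸ hP'c
  -- fixed points of an element of order three
  obtain ⟨r, hr⟩ := exists_prime_orderOf_dvd_card' (G := cz k) 3 (by rw [hcard]; norm_num)
  have hC24 : Nat.card (cz r) = 24 := by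
    rw [card_cz_sub]; exact h.inf_eq hK hk ((Subgroup.orderOf_coe r).trans hr) (mem_cz.1 r.2)
  obtain ⟨S, hS⟩ := Sylow.exists_subgroup_card_pow_prime (G := cz r) 2 (n := 3) (by rw [hC24]; norm_num)
  have hle : S.map (cz r).subtype ≤ M ⊓ cz r := by
    rintro _ ⟨s, hs, rfl⟩
    refine ⟨?_, s.2⟩
    have hs8 : (s : cz k) ^ 2 ^ 3 = 1 := by
      have := pow_card_eq_one' (x := (⟨s, hs⟩ : S))
      rw [hS] at this
      exact congrArg (fun z : S => ((z : cz r) : cz k)) this
    obtain ⟨j, -, hj⟩ := (Nat.dvd_prime_pow Nat.prime_two).1 (orderOf_dvd_of_pow_eq_one hs8)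
    have hp : IsPGroup 2 (M ⊔ zpowers (s : cz k) : Subgroup (cz k)) :=
      hMp.to_sup_of_normal_left (IsPGroup.of_card (n := j) (by rw [Nat.card_zpowers, hj]))
    obtain ⟨l, hl⟩ := IsPGroup.iff_card.1 hp
    have hld : 2 ^ l ∣ 1024 * 21 := by
      rw [← hl, show 1024 * 21 = Nat.card (cz k) from hcard.symm]
      exact card_subgroup_dvd_card _
    have hl10 : 2 ^ l ∣ 1024 := (Nat.Coprime.pow_left l (show Nat.Coprime 2 21 by norm_num)).dvd_of_dvd_mul_right hld
    have := Subgroup.eq_of_le_of_card_ge (le_sup_left : M ≤ M ⊔ zpowers (s : cz k))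
      (by rw [hl, hM10]; exact Nat.le_of_dvd (by norm_num) hl10)
    show (s : cz k) ∈ M
    rw [this]; exact mem_sup_right (mem_zpowers _)
  have h8 : Nat.card ↥(M ⊓ cz r) = 8 := by
    refine Nat.dvd_antisymm ?_ ?_
    · exact Nat.dvd_gcd (show Nat.card ↥(M ⊓ cz r) ∣ 1024 from hM10 ▸ card_dvd_of_le inf_le_left)
        (show Nat.card ↥(M ⊓ cz r) ∣ 24 from hC24 ▸ card_dvd_of_le inf_le_right)
    · have := card_dvd_of_le hle
      rwa [card_map_of_injective (cz r).subtype_injective, hS] at this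
  have hm := card_modEq_fixed (p := 3) (n := 1) (x := r) (by rw [pow_one, ← hr, pow_orderOf_eq_one])
    (fun g => g ∈ M) fun g => ⟨fun hg => hMn.conj_mem g hg r, fun hg => by
      simpa [mul_assoc] using hMn.conj_mem _ hg r⁻¹⟩
  rw [show Nat.card {g : cz k // g ∈ M} = 1024 from hM10,
    show Nat.card {g : cz k // g ∈ M ∧ g * r = r * g} = 8 from
      (Nat.card_congr (Equiv.subtypeEquivRight fun g => by simp only [Subgroup.mem_inf, mem_cz])).trans h8] at hm
  exact absurd hm (by decide)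

end Local

end CfsgLib.M24Nse
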