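import Cfsg.Agent.M24Nse.ThreeClasses

/-!
The centraliser of an element of order three has no abelian Sylow two-subgroup.
-/

set_option autoImplicit false
set_option linter.style.haveILetI false
set_option linter.unusedSectionVars false
set_option maxHeartbeats 400000

namespace CfsgLib.M24Nse

open Subgroup CfsgLib.ThreeCounts CfsgLib.M12Nse

universe u

variable {G : Type u} [Group G] [Finite G]

/-- A subgroup of prime index part, with a unique Sylow subgroup. -/
theorem sylow_unique {K : Type*} [Group K] [Finite K] {q m : ℕ} [hq : Fact q.Prime] (hc : Nat.card K = q * m)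
    (hm : ¬ q ∣ m) (key : ∀ d ∈ Nat.divisors m, d % q = 1 → d = 1) : Subsingleton (Sylow q K) := by
  obtain ⟨P⟩ : Nonempty (Sylow q K) := inferInstance
  have hcP : Nat.card (P : Subgroup K) = q := by
    rw [P.card_eq_multiplicity, factorization_one hq.out hc.symm hm, pow_one]
  have hi : (P : Subgroup K).index = m := by
    have := (P : Subgroup K).card_mul_index
    rw [hcP, hc] at this
    exact Nat.eq_of_mul_eq_mul_left hq.out.pos this
  have h1 : Nat.card (Sylow q K) = 1 := key _ (Nat.mem_divisors.2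
    ⟨hi ▸ P.card_dvd_index, fun e => hm (e ▸ dvd_zero q)⟩)
    ((show _ % q = 1 % q from card_sylow_modEq_one q K).trans (Nat.one_mod_eq_one.2 hq.out.ne_one))
  exact (Nat.card_eq_one_iff_unique.1 h1).1

namespace Local

variable (h : Local G) (hK : Small G)
include h hK

/-- The only elements of three-power order centralising a commuting pair of orders two and three. -/
theorem three_mem {u r x : G} {n : ℕ} (hu : orderOf u = 2) (hr : orderOf r = 3) (hc : r * u = u * r)
    (hxu : x * u = u * x) (hxr : x * r = r * x) (hx : x ^ 3 ^ n = 1) : x ∈ zpowers r := by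
  haveI : Fact (Nat.Prime 3) := ⟨Nat.prime_three⟩
  let D : Subgroup G := cz u ⊓ cz r
  let r' : D := ⟨r, mem_cz.2 hc, self_mem_cz r⟩
  let x' : D := ⟨x, mem_cz.2 hxu, mem_cz.2 hxr⟩
  haveI hn : (zpowers r').Normal := ⟨fun a ha g => by
    obtain ⟨i, rfl⟩ := mem_zpowers_iff.1 ha
    rw [((show Commute g r' from Subtype.ext (mem_cz.1 g.2.2)).zpow_right i).eq, mul_inv_cancel_right]
    exact zpow_mem (mem_zpowers r') i⟩
  let P : Sylow 3 D := Sylow.ofCard (zpowers r') (by
    rw [Nat.card_zpowers, ← Subgroup.orderOf_coe, show Nat.card D = 24 from h.inf_eq hK hu hr hc,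
      factorization_one (n := 24) Nat.prime_three (show 3 * 8 = 24 by norm_num) (by norm_num), pow_one]
    exact hr)
  haveI : Subsingleton (Sylow 3 D) := by
    haveI : (P : Subgroup D).Normal := hn
    haveI := P.unique_of_normal hn
    infer_instance
  obtain ⟨m, -, hm⟩ := (Nat.dvd_prime_pow Nat.prime_three).1 (orderOf_dvd_of_pow_eq_one hx)
  have hp : IsPGroup 3 (zpowers x') := IsPGroup.of_card (n := m) (by
    rw [Nat.card_zpowers, ← Subgroup.orderOf_coe]; exact hm)
  obtain ⟨Q, hQ⟩ := hp.exists_le_sylow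
  rw [Subsingleton.elim Q P] at hQ
  obtain ⟨i, hi⟩ := mem_zpowers_iff.1 (show x' ∈ zpowers r' from hQ (mem_zpowers x'))
  exact mem_zpowers_iff.2 ⟨i, by simpa [x', r'] using congrArg Subtype.val hi⟩

/-- The centraliser of an element of order three has no abelian subgroup of order eight. -/
theorem not_comm_three {r : G} (hr : orderOf r = 3) (S : Subgroup G) (hSC : S ≤ cz r) (hc : Nat.card S = 8)
    (hab : ∀ a ∈ S, ∀ b ∈ S, a * b = b * a) : False := by
  classical
  haveI : Fact (Nat.Prime 2) := ⟨Nat.prime_two⟩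
  haveI : Fact (Nat.Prime 3) := ⟨Nat.prime_three⟩
  haveI : Fact (Nat.Prime 5) := ⟨by norm_num⟩
  haveI : Fact (Nat.Prime 7) := ⟨by norm_num⟩
  obtain ⟨hreal, hcases⟩ := h.three_cases hK hr
  let S' : Subgroup (cz r) := S.subgroupOf (cz r)
  have hS' : Nat.card S' = 8 := by rw [Nat.card_congr (subgroupOfEquivOfLe hSC).toEquiv, hc]
  have hfac : (Nat.card (cz r)).factorization 2 = 3 := by
    rcases hcases with e | e <;> rw [e]
    · rw [show 1080 = 2 ^ 3 * 135 by norm_num, Nat.factorization_mul (by norm_num) (by norm_num), Finsupp.add_apply,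
        Nat.prime_two.factorization_pow, Finsupp.single_eq_same, Nat.factorization_eq_zero_of_not_dvd (by norm_num)]
    · rw [show 504 = 2 ^ 3 * 63 by norm_num, Nat.factorization_mul (by norm_num) (by norm_num), Finsupp.add_apply,
        Nat.prime_two.factorization_pow, Finsupp.single_eq_same, Nat.factorization_eq_zero_of_not_dvd (by norm_num)]
  let P : Sylow 2 (cz r) := Sylow.ofCard S' (by rw [hS', hfac]; norm_num)
  have hP : (P : Subgroup (cz r)) = S' := rfl
  -- the normaliser induces an automorphism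
  by_cases hN : normalizer (P : Set (cz r)) ≤ centralizer (P : Set (cz r))
  · let K := (MonoidHom.transferSylow P hN).ker
    have hcard : Nat.card K * 8 = Nat.card (cz r) := by
      rw [← hS']; exact (MonoidHom.ker_transferSylow_isComplement' P hN).card_mul_card
    have hi : K.index = 8 := by
      have := K.card_mul_index
      rw [← hcard] at this
      exact Nat.eq_of_mul_eq_mul_left Nat.card_pos this
    have kill : ∀ {q m N : ℕ} [Fact q.Prime], Nat.card K = q * m → ¬ q ∣ m → ¬ q ∣ 8 →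
        (∀ d ∈ Nat.divisors m, d % q = 1 → d = 1) →
        (∀ y : G, orderOf y = q → Nat.card (normalizer (zpowers y : Set G)) = N) → N < Nat.card (cz r) → False := by
      intro q m N hq hqm hm h8 key hnorm hlt
      haveI := sylow_unique hqm hm key
      have hin : ∀ v : cz r, orderOf v = q → v ∈ K := by
        intro v hv
        rw [← QuotientGroup.eq_one_iff, ← orderOf_eq_one_iff]
        have d1 : orderOf (v : cz r ⧸ K) ∣ q := hv ▸ orderOf_map_dvd (QuotientGroup.mk' K) v
        have d2 : orderOf (v : cz r ⧸ K) ∣ 8 := hi ▸ (index_eq_card K) ▸ _root_.orderOf_dvd_natCard _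
        exact Nat.eq_one_of_dvd_coprimes ((Nat.Prime.coprime_iff_not_dvd hq.out).2 h8) d1 d2
      obtain ⟨v, hv⟩ := exists_prime_orderOf_dvd_card' (G := cz r) q (by rw [← hcard, hqm, mul_assoc]; exact dvd_mul_right _ _)
      let vK : K := ⟨v, hin v hv⟩
      have hfq := factorization_one hq.out hqm.symm hm
      let Q : Sylow q K := Sylow.ofCard (zpowers vK) (by
        rw [Nat.card_zpowers, ← Subgroup.orderOf_coe, hfq, pow_one]; exact hv)
      have hall : ∀ w : cz r, orderOf w = q → (w : G) ∈ zpowers (v : G) := by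
        intro w hw
        have hp : IsPGroup q (zpowers (⟨w, hin w hw⟩ : K)) := IsPGroup.of_card (n := 1) (by
          rw [Nat.card_zpowers, ← Subgroup.orderOf_coe, pow_one]; exact hw)
        obtain ⟨Q', hQ'⟩ := hp.exists_le_sylow
        rw [Subsingleton.elim Q' Q] at hQ'
        obtain ⟨i, hi'⟩ := mem_zpowers_iff.1
          (show (⟨w, hin w hw⟩ : K) ∈ zpowers vK from hQ' (mem_zpowers _))
        exact mem_zpowers_iff.2 ⟨i, by simpa [vK] using congrArg (fun z : K => ((z : cz r) : G)) hi'⟩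
      have hle : cz r ≤ normalizer (zpowers (v : G) : Set G) := by
        have hone : ∀ c : cz r, ∀ g ∈ zpowers (v : G), (c : G) * g * (c : G)⁻¹ ∈ zpowers (v : G) := by
          intro c g hg
          obtain ⟨i, rfl⟩ := mem_zpowers_iff.1 hg
          rw [← conj_zpow]
          exact zpow_mem (hall (c * v * c⁻¹)
            (by rw [show orderOf (c * v * c⁻¹) = orderOf v from (MulAut.conj c).orderOf_eq v]; exact hv)) i
        intro c hcC
        refine mem_normalizer_iff.2 fun g => ⟨fun hg => hone ⟨c, hcC⟩ g hg, fun hg => ?_⟩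
        simpa [mul_assoc] using hone ⟨c⁻¹, inv_mem hcC⟩ _ hg
      have := Subgroup.card_le_of_le hle
      rw [hnorm _ (by rw [Subgroup.orderOf_coe]; exact hv)] at this
      omega
    rcases hcases with e | e
    · exact kill (q := 5) (m := 27) (N := 240) (by omega) (by norm_num) (by norm_num) (by decide +kernel) h.five_norm (by omega)
    · exact kill (q := 7) (m := 9) (N := 126) (by omega) (by norm_num) (by norm_num) (by decide +kernel) h.seven_norm (by omega)
  · set N := normalizer (P : Set (cz r))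
    obtain ⟨p, k, hp, Q, hQ, hQK⟩ : ∃ (p k : ℕ), p.Prime ∧ ∃ Q : Subgroup N, Nat.card Q = p ^ k ∧
        ¬ Q ≤ (centralizer (P : Set (cz r))).subgroupOf N := by
      by_contra hcon
      push Not at hcon
      refine hN ?_
      have hd : Nat.card N ∣ Nat.card ((centralizer (P : Set (cz r))).subgroupOf N) := by
        refine (Nat.dvd_iff_prime_pow_dvd_dvd _ _).2 fun p k hp hd => ?_
        haveI := Fact.mk hp
        obtain ⟨Q, hQ⟩ := Sylow.exists_subgroup_card_pow_prime (G := N) p hd
        exact hQ ▸ card_dvd_of_le (hcon p k hp Q hQ)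
      have htop := Subgroup.eq_top_of_le_card _ (Nat.le_of_dvd Nat.card_pos hd)
      exact fun g hg => (mem_subgroupOf.1 (htop.symm ▸ mem_top (⟨g, hg⟩ : N)))
    obtain ⟨⟨g, hgN⟩, hgQ, hgK⟩ := Set.not_subset.1 hQK
    have hgK' : g ∉ centralizer (P : Set (cz r)) := hgK
    have hgk : g ^ p ^ k = 1 := by
      have : (⟨⟨g, hgN⟩, hgQ⟩ : Q) ^ Nat.card Q = 1 := pow_card_eq_one'
      rw [hQ] at this
      exact congrArg (fun z : Q => ((z : N) : cz r)) this
    have hmemP : ∀ x : cz r, x ∈ N → ∀ j : ℕ, x ^ 2 ^ j = 1 → x ∈ S' := by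
      intro x hx j hj
      obtain ⟨i, -, hi⟩ := (Nat.dvd_prime_pow Nat.prime_two).1 (orderOf_dvd_of_pow_eq_one hj)
      have h2 : IsPGroup 2 (zpowers x) := IsPGroup.of_card (n := i) (by rw [Nat.card_zpowers, hi])
      have : x ∈ zpowers x ⊓ (P : Subgroup (cz r)) := by
        rw [← h2.inf_normalizer_sylow P]; exact ⟨mem_zpowers x, hx⟩
      exact this.2
    have hnotcent : ∃ s ∈ S, s * (g : G) ≠ (g : G) * s := by
      by_contra hcon
      push Not at hcon
      refine hgK' (mem_centralizer_iff.2 fun s hs => ?_)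
      exact Subtype.ext (hcon (s : G) hs)
    have hnorm : ∀ x : cz r, x ∈ N → ∀ s, s ∈ S ↔ (x : G) * s * (x : G)⁻¹ ∈ S := by
      intro x hx s
      constructor
      · intro hs
        exact (mem_normalizer_iff.1 hx ⟨s, hSC hs⟩).1 hs
      · intro hs
        have hsC : s ∈ cz r := by
          have := mul_mem (mul_mem (inv_mem x.2) (hSC hs)) x.2
          simpa [mul_assoc] using this
        exact (mem_normalizer_iff.1 hx ⟨s, hsC⟩).2 hs
    have hfix : ∀ (q n : ℕ) [Fact q.Prime] (x : cz r), x ∈ N → x ^ q ^ n = 1 →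
        8 % q = Nat.card ↥(S ⊓ cz (x : G)) % q := by
      intro q n _ x hx hxn
      have hm := card_modEq_fixed (p := q) (n := n) (x := (x : G)) (by exact_mod_cast congrArg Subtype.val hxn)
        (fun s => s ∈ S) (hnorm x hx)
      rw [show Nat.card {s : G // s ∈ S} = 8 from hc] at hm
      rw [show Nat.card ↥(S ⊓ cz (x : G)) = Nat.card {s : G // s ∈ S ∧ s * (x : G) = (x : G) * s} from
        Nat.card_congr (Equiv.subtypeEquivRight fun s => by simp only [Subgroup.mem_inf, mem_cz])]
      exact hm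
    have h3 : ∀ (n : ℕ) (x : cz r), x ∈ N → x ^ 3 ^ n = 1 → (x : G) ∈ zpowers r := by
      intro n x hx hxn
      have hm := hfix 3 n x hx hxn
      have hd : Nat.card ↥(S ⊓ cz (x : G)) ∣ 8 := hc ▸ card_dvd_of_le inf_le_left
      have h2 : 2 ∣ Nat.card ↥(S ⊓ cz (x : G)) := by
        have key : ∀ d ∈ Nat.divisors 8, 8 % 3 = d % 3 → 2 ∣ d := by decide +kernel
        exact key _ (Nat.mem_divisors.2 ⟨hd, by norm_num⟩) hm
      obtain ⟨u, hu⟩ := exists_prime_orderOf_dvd_card' (G := ↥(S ⊓ cz (x : G))) 2 h2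
      refine h.three_mem hK (u := u) (n := n) (by rw [Subgroup.orderOf_coe]; exact hu) hr
        (mem_cz.1 (hSC u.2.1)).symm (mem_cz.1 u.2.2).symm (mem_cz.1 x.2) ?_
      exact_mod_cast congrArg Subtype.val hxn
    haveI := Fact.mk hp
    have hdp : p ∣ Nat.card (cz r) := by
      have hg1 : orderOf g ≠ 1 := fun e => hgK' (by rw [orderOf_eq_one_iff.1 e]; exact one_mem _)
      obtain ⟨j, -, hj⟩ := (Nat.dvd_prime_pow hp).1 (orderOf_dvd_of_pow_eq_one hgk)
      refine dvd_trans ?_ (_root_.orderOf_dvd_natCard g)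
      rw [hj]
      exact dvd_pow_self p (fun e => hg1 (by rw [hj, e, pow_zero]))
    have hp4 : p = 2 ∨ p = 3 ∨ p = 5 ∨ p = 7 := by
      have hd : p ∣ 2 ^ 3 * 3 ^ 3 * 5 * 7 := hdp.trans (by rcases hcases with e | e <;> rw [e] <;> norm_num)
      rcases (Nat.Prime.dvd_mul hp).1 hd with hd | hd
      · rcases (Nat.Prime.dvd_mul hp).1 hd with hd | hd
        · rcases (Nat.Prime.dvd_mul hp).1 hd with hd | hd
          · exact Or.inl ((Nat.prime_dvd_prime_iff_eq hp Nat.prime_two).1 (hp.dvd_of_dvd_pow hd))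
          · exact Or.inr (Or.inl ((Nat.prime_dvd_prime_iff_eq hp Nat.prime_three).1 (hp.dvd_of_dvd_pow hd)))
        · exact Or.inr (Or.inr (Or.inl ((Nat.prime_dvd_prime_iff_eq hp (by norm_num)).1 hd)))
      · exact Or.inr (Or.inr (Or.inr ((Nat.prime_dvd_prime_iff_eq hp (by norm_num)).1 hd)))
    have hlt : Nat.card ↥(S ⊓ cz (g : G)) ≠ 8 := fun e => by
      obtain ⟨s, hs, hne⟩ := hnotcent
      have hE : S ⊓ cz (g : G) = S := Subgroup.eq_of_le_of_card_ge inf_le_left (by rw [e, hc])
      exact hne (mem_cz.1 (show s ∈ S ⊓ cz (g : G) from hE.symm ▸ hs).2)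
    have hdd : Nat.card ↥(S ⊓ cz (g : G)) ∈ Nat.divisors 8 :=
      Nat.mem_divisors.2 ⟨hc ▸ card_dvd_of_le inf_le_left, by norm_num⟩
    rcases hp4 with rfl | rfl | rfl | rfl
    · obtain ⟨s, hs, hne⟩ := hnotcent
      exact hne (hab s hs _ (mem_subgroupOf.1 (hmemP g hgN k hgk)))
    · obtain ⟨s, hs, hne⟩ := hnotcent
      obtain ⟨i, hi⟩ := mem_zpowers_iff.1 (h3 k g hgN hgk)
      exact hne (by rw [← hi]; exact ((show Commute s r from mem_cz.1 (hSC hs)).zpow_right i).eq)
    · have key : ∀ d ∈ Nat.divisors 8, 8 % 5 = d % 5 → d = 8 := by decide +kernel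
      exact hlt (key _ hdd (hfix 5 k g hgN hgk))
    -- order seven
    have hf1 : Nat.card ↥(S ⊓ cz (g : G)) = 1 := by
      have key : ∀ d ∈ Nat.divisors 8, 8 % 7 = d % 7 → d = 1 ∨ d = 8 := by decide +kernel
      exact (key _ hdd (hfix 7 k g hgN hgk)).resolve_right hlt
    have hfree : ∀ s ∈ S, s * (g : G) = (g : G) * s → s = 1 := fun s hs e =>
      Subgroup.mem_bot.1 (Subgroup.eq_bot_of_card_eq _ hf1 ▸ (show s ∈ S ⊓ cz (g : G) from ⟨hs, mem_cz.2 e⟩))
    have hC : Nat.card (cz r) = 504 := by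
      rcases hcases with e | e
      · rw [e] at hdp; norm_num at hdp
      · exact e
    have hg7 : orderOf (g : G) = 7 := by
      obtain ⟨j, -, hj⟩ := (Nat.dvd_prime_pow (by norm_num)).1 (orderOf_dvd_of_pow_eq_one hgk)
      have hd : orderOf g ∣ 504 := hC ▸ _root_.orderOf_dvd_natCard g
      rw [Subgroup.orderOf_coe, hj]
      rw [hj] at hd
      have : j < 2 := by
        by_contra hj2
        have := (pow_dvd_pow 7 (show 2 ≤ j by omega)).trans hd
        norm_num at this
      interval_cases j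
      · exact absurd (by rw [orderOf_eq_one_iff.1 hj]; exact one_mem _) hgK'
      · norm_num
    let T : Type u := {x : G // orderOf x = 7 ∧ x * r = r * x}
    have hT : Nat.card T = 48 := by
      have hcp := h.class_pairs_three hK hr hg7 (mem_cz.1 g.2).symm hreal
      have := index_eq_div (g := r) hC
      rw [h.card] at this
      rw [← cnt_cz r 7]
      rw [show (cz r).index = 485760 by omega] at hcp
      omega
    have hNG : ∀ s ∈ S, ∀ t, t ∈ S ↔ s * t * s⁻¹ ∈ S := fun s hs t =>
      ⟨fun ht => mul_mem (mul_mem hs ht) (inv_mem hs), fun ht => by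
        simpa [mul_assoc] using mul_mem (mul_mem (inv_mem hs) ht) hs⟩
    let NS : Subgroup G := normalizer (S : Set G)
    have hgNS : (g : G) ∈ NS := mem_normalizer_iff.2 (hnorm g hgN)
    have hSNS : S ≤ NS := fun s hs => mem_normalizer_iff.2 (hNG s hs)
    have hpne : ∀ i : Fin 6, (g : G) ^ ((i : ℕ) + 1) ≠ 1 := fun i e => by
      have := orderOf_dvd_of_pow_eq_one e
      rw [hg7] at this
      have := Nat.le_of_dvd (by omega) this
      omega
    let f : S × Fin 6 → T := fun a => ⟨(a.1 : G) * (g : G) ^ ((a.2 : ℕ) + 1) * (a.1 : G)⁻¹, by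
      rw [show orderOf ((a.1 : G) * (g : G) ^ ((a.2 : ℕ) + 1) * (a.1 : G)⁻¹) = orderOf ((g : G) ^ ((a.2 : ℕ) + 1)) from
        (MulAut.conj (a.1 : G)).orderOf_eq _]
      refine orderOf_eq_prime ?_ (hpne a.2)
      rw [← pow_mul, mul_comm, pow_mul, ← hg7, pow_orderOf_eq_one, one_pow], by
      exact mem_cz.1 (mul_mem (mul_mem (hSC a.1.2) (pow_mem g.2 _)) (inv_mem (hSC a.1.2)))⟩
    have hinj : Function.Injective f := by
      rintro ⟨s, i⟩ ⟨t, j⟩ e
      have e' : (s : G) * (g : G) ^ ((i : ℕ) + 1) * (s : G)⁻¹ = (t : G) * (g : G) ^ ((j : ℕ) + 1) * (t : G)⁻¹ :=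
        congrArg Subtype.val e
      set a : G := (g : G) ^ ((i : ℕ) + 1) with ha
      set b : G := (g : G) ^ ((j : ℕ) + 1) with hb
      set w : G := (t : G)⁻¹ * s with hw
      have hwS : w ∈ S := mul_mem (inv_mem t.2) s.2
      have e2 : w * a * w⁻¹ = b := by
        calc w * a * w⁻¹ = (t : G)⁻¹ * ((s : G) * a * (s : G)⁻¹) * t := by rw [hw]; group
          _ = b := by rw [e']; group
      have hq : b * a⁻¹ ∈ S := by
        rw [← e2, show w * a * w⁻¹ * a⁻¹ = w * (a * w⁻¹ * a⁻¹) by group]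
        exact mul_mem hwS ((mem_normalizer_iff.1 (pow_mem hgNS _) w⁻¹).1 (inv_mem hwS))
      have hq1 : b * a⁻¹ = 1 := by
        have d1 : orderOf (b * a⁻¹) ∣ 8 := hc ▸ Subgroup.orderOf_dvd_natCard _ hq
        have d2 : orderOf (b * a⁻¹) ∣ 7 := by
          rw [← hg7, ← Nat.card_zpowers (g : G)]
          exact Subgroup.orderOf_dvd_natCard (zpowers (g : G))
            (mul_mem (pow_mem (mem_zpowers _) _) (inv_mem (pow_mem (mem_zpowers _) _)))
        exact orderOf_eq_one_iff.1 (Nat.eq_one_of_dvd_coprimes (by norm_num) d1 d2)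
      have hab' : b = a := mul_inv_eq_one.1 hq1
      have hij : i = j := by
        refine Fin.ext (Nat.succ_injective ?_)
        exact pow_injOn_Iio_orderOf (x := (g : G)) (Set.mem_Iio.2 (by rw [hg7]; omega)) (Set.mem_Iio.2 (by rw [hg7]; omega))
          hab'.symm
      have hw1 : w = 1 := hfree w hwS (commute_of_mem_zpowers hg7 (pow_mem (mem_zpowers _) _) (hpne i)
        (mul_inv_eq_iff_eq_mul.1 (e2.trans hab')))
      exact Prod.ext (Subtype.ext (inv_mul_eq_one.1 hw1).symm) hij
    have hbij := (Nat.bijective_iff_injective_and_card f).2 ⟨hinj, by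
      rw [Nat.card_prod, Nat.card_fin, hc, hT]⟩
    let L : Subgroup G := closure {x : G | orderOf x = 7 ∧ x * r = r * x}
    have hLN : L ≤ NS := (closure_le _).2 fun x hx => by
      obtain ⟨⟨s, i⟩, hsi⟩ := hbij.2 ⟨x, hx⟩
      rw [← show (s : G) * (g : G) ^ ((i : ℕ) + 1) * (s : G)⁻¹ = x from congrArg Subtype.val hsi]
      exact mul_mem (mul_mem (hSNS s.2) (pow_mem hgNS _)) (inv_mem (hSNS s.2))
    have hLC : ∀ c : G, c * r = r * c → ∀ x ∈ L, c * x * c⁻¹ ∈ L := by
      intro c hc' x hx
      induction hx using closure_induction with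
      | mem x hx =>
        refine subset_closure ⟨by rw [show orderOf (c * x * c⁻¹) = orderOf x from (MulAut.conj c).orderOf_eq x]; exact hx.1, ?_⟩
        exact mem_cz.1 (mul_mem (mul_mem (mem_cz.2 hc') (mem_cz.2 hx.2)) (inv_mem (mem_cz.2 hc')))
      | one => simp
      | mul a b _ _ ha hb => rw [show c * (a * b) * c⁻¹ = (c * a * c⁻¹) * (c * b * c⁻¹) by group]; exact mul_mem ha hb
      | inv a _ ha => rw [show c * a⁻¹ * c⁻¹ = (c * a * c⁻¹)⁻¹ by group]; exact inv_mem ha
    have hgL : (g : G) ∈ L := subset_closure ⟨hg7, mem_cz.1 g.2⟩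
    have hSL : S ≤ L := by
      have hI : Nat.card ↥(S ⊓ L) = 8 := by
        have hm := card_modEq_fixed (p := 7) (n := k) (x := (g : G)) (by exact_mod_cast congrArg Subtype.val hgk)
          (fun s => s ∈ S ⊓ L) (fun s => by
            refine and_congr (hnorm g hgN s) (show s ∈ L ↔ (g : G) * s * (g : G)⁻¹ ∈ L from
              ⟨fun hs => mul_mem (mul_mem hgL hs) (inv_mem hgL), fun hs => ?_⟩)
            simpa [mul_assoc] using mul_mem (mul_mem (inv_mem hgL) hs) hgL)
        have hle1 : Nat.card {s : G // s ∈ S ⊓ L ∧ s * (g : G) = (g : G) * s} = 1 :=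
          Nat.card_eq_one_iff_unique.2 ⟨⟨fun a b => Subtype.ext
            ((hfree _ a.2.1.1 a.2.2).trans (hfree _ b.2.1.1 b.2.2).symm)⟩, ⟨⟨1, one_mem _, by simp⟩⟩⟩
        rw [hle1] at hm
        obtain ⟨s, hs, hne⟩ := hnotcent
        have hne1 : Nat.card ↥(S ⊓ L) ≠ 1 := fun e => hne (by
          refine mul_inv_eq_iff_eq_mul.1 (mul_inv_eq_one.1 (Subgroup.mem_bot.1
            (Subgroup.eq_bot_of_card_eq _ e ▸ (⟨?_, ?_⟩ : s * (g : G) * s⁻¹ * (g : G)⁻¹ ∈ S ⊓ L))))
          · rw [show s * (g : G) * s⁻¹ * (g : G)⁻¹ = s * ((g : G) * s⁻¹ * (g : G)⁻¹) by group]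
            exact mul_mem hs ((hnorm g hgN s⁻¹).1 (inv_mem hs))
          · show _ ∈ L
            exact mul_mem (hLC s (mem_cz.1 (hSC hs)) _ hgL) (inv_mem hgL))
        have key : ∀ d ∈ Nat.divisors 8, d % 7 = 1 % 7 → d ≠ 1 → d = 8 := by decide +kernel
        exact key _ (Nat.mem_divisors.2 ⟨hc ▸ card_dvd_of_le inf_le_left, by norm_num⟩) hm hne1
      have hE : S ⊓ L = S := Subgroup.eq_of_le_of_card_ge inf_le_left (by rw [hI, hc])
      exact hE ▸ inf_le_right
    -- the subgroup is normal in the centraliser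
    have htop : ∀ c : cz r, c ∈ N := by
      have hone : ∀ c : cz r, ∀ s : cz r, s ∈ S' → c * s * c⁻¹ ∈ S' := by
        intro c s hs
        have hin : ((c * s * c⁻¹ : cz r) : G) ∈ NS := hLN (hLC _ (mem_cz.1 c.2) _ (hSL hs))
        refine hmemP _ (mem_normalizer_iff.2 fun x => mem_normalizer_iff.1 hin (x : G)) 3 ?_
        rw [conj_pow]
        have h8 : (⟨s, hs⟩ : S') ^ 8 = 1 := hS' ▸ pow_card_eq_one'
        rw [show s ^ 2 ^ 3 = 1 from congrArg Subtype.val h8, mul_one, mul_inv_cancel]
      refine fun c => mem_normalizer_iff.2 fun s => ⟨fun hs => hone c s hs, fun hs => ?_⟩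
      have hX : s ∈ S' := by simpa [mul_assoc] using hone c⁻¹ _ hs
      exact hX
    obtain ⟨R, hR⟩ := Sylow.exists_subgroup_card_pow_prime (G := cz r) 3 (n := 2) (by rw [hC]; norm_num)
    have hle : R.map (cz r).subtype ≤ zpowers r := by
      rintro _ ⟨x, hx, rfl⟩
      refine h3 2 x (htop x) ?_
      have : (⟨x, hx⟩ : R) ^ (3 ^ 2) = 1 := hR ▸ pow_card_eq_one'
      exact congrArg Subtype.val this
    have := Subgroup.card_le_of_le hle
    rw [card_map_of_injective (cz r).subtype_injective, hR, Nat.card_zpowers, hr] at this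
    norm_num at this

end Local

end CfsgLib.M24Nse
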