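import Cfsg.Agent.M24Nse.ModelSearch
import Cfsg.Agent.Golay.PrimeCounts
import Cfsg.Agent.FGSB.ThreeCounts

/-!
# The numbers of elements of each order in the model
-/

set_option autoImplicit false
set_option linter.style.haveILetI false

namespace CfsgLib.M24Nse.Model

open Cfsg CfsgLib.Golay CfsgLib.Golay.Cert CfsgLib.ThreeCounts Subgroup

/-- The tests for a representative. -/
def repOK (L : List ℕ) (n : ℕ) : Bool :=
  genOK L && (powL L n == List.range 24) &&
    (List.range n).all fun d => Nat.beq d 0 || !(powL L d == List.range 24)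

theorem exists_rep {L : List ℕ} {n : ℕ} (hn : 0 < n) (h : repOK L n = true) :
    ∃ x : M24, toList (x : Equiv.Perm GolayPt) = L ∧ orderOf x = n := by
  simp only [repOK, Bool.and_eq_true, Nat.beq_eq, beq_iff_eq, List.all_eq_true, List.mem_range,
    Bool.or_eq_true, Bool.not_eq_true', beq_eq_false_iff_ne] at h
  obtain ⟨⟨hg, hp⟩, hd⟩ := h
  obtain ⟨σ, hσ⟩ := genOK_spec hg
  refine ⟨σ, hσ, (orderOf_eq_iff hn).2 ⟨?_, fun m hm hm0 e => ?_⟩⟩
  · refine Subtype.ext (Cert.toList_injective ?_)
    rw [SubgroupClass.coe_pow, toList_pow, OneMemClass.coe_one, toList_one]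
    exact hσ.symm ▸ hp
  · have h1 := congrArg (fun u : M24 => toList (u : Equiv.Perm GolayPt)) e
    simp only [SubgroupClass.coe_pow, toList_pow, OneMemClass.coe_one, toList_one] at h1
    rcases hd m hm with h2 | h2
    · omega
    · exact h2 (hσ ▸ h1)

/-- An element of order `n` with a given list and a bound for its centraliser. -/
def Rep (X : List ℕ) (n c : ℕ) : Prop :=
  ∃ x : M24, toList (x : Equiv.Perm GolayPt) = X ∧ orderOf x = n ∧
    Nat.card (centralizer ({x} : Set M24)) ≤ c

theorem rep_at {X : List ℕ} {n c : ℕ} (hn : 0 < n) (h : repOK X n = true) (hc : centBoundAt X = c) :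
    Rep X n c := by
  obtain ⟨x, hX, hx⟩ := exists_rep hn h
  exact ⟨x, hX, hx, card_centralizer_le_at hX hc⟩

theorem rep_all {X : List ℕ} {n c : ℕ} (hn : 0 < n) (h : repOK X n = true)
    (hc : (conjsAll X X).length = c) : Rep X n c := by
  obtain ⟨x, hX, hx⟩ := exists_rep hn h
  exact ⟨x, hX, hx, card_centralizer_le_all hX hc⟩

theorem Rep.inv {X : List ℕ} {n c : ℕ} (h : Rep X n c) : Rep (invL X) n c := by
  obtain ⟨x, hX, hx, hc⟩ := h
  refine ⟨x⁻¹, by rw [Subgroup.coe_inv, toList_inv, hX], by rw [orderOf_inv, hx], ?_⟩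
  have e : centralizer ({x⁻¹} : Set M24) = centralizer ({x} : Set M24) := by
    ext g
    rw [mem_centralizer_singleton_iff, mem_centralizer_singleton_iff]
    exact ⟨fun e => (inv_inv x ▸ (show Commute g x⁻¹ from e).inv_right).eq,
      fun e => ((show Commute g x from e).inv_right).eq⟩
  rw [e]; exact hc

theorem card_isConj (x : M24) : Nat.card {y : M24 // IsConj x y} = (centralizer ({x} : Set M24)).index := by
  have h : (centralizer ({x} : Set M24)).index = (MulAction.orbit (ConjAct M24) x).ncard := by
    rw [← MulAction.index_stabilizer, ConjAct.stabilizer_eq_centralizer]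
    rfl
  rw [h, ← Nat.card_coe_set_eq]
  exact Nat.card_congr (Equiv.subtypeEquivRight fun y => (ConjAct.mem_orbit_conjAct.trans isConj_comm).symm)

/-- Representatives of distinct classes give that many elements. -/
theorem classes_le {k n : ℕ} (X : Fin k → List ℕ) (c m : Fin k → ℕ) (h : ∀ i, Rep (X i) n (c i))
    (hm : ∀ i, m i * c i = 244823040) (hd : ∀ i j, i < j → (conjsAll (X i) (X j)).length = 0) :
    ∑ i, m i ≤ cnt M24 n := by
  choose x hX hx hc using h
  have hne : ∀ i j, IsConj (x i) (x j) → i = j := fun i j e => by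
    rcases lt_trichotomy i j with hl | rfl | hl
    · exact absurd e (not_isConj (hX i) (hX j) (hd i j hl))
    · rfl
    · exact absurd e.symm (not_isConj (hX j) (hX i) (hd j i hl))
  have hidx : ∀ i, m i ≤ (centralizer ({x i} : Set M24)).index := fun i => by
    have h1 := (centralizer ({x i} : Set M24)).card_mul_index
    rw [card_M24] at h1
    have hc0 : 0 < c i := Nat.pos_of_ne_zero fun e => by
      have h3 := hm i
      rw [e, mul_zero] at h3
      exact absurd h3 (by norm_num)
    refine Nat.le_of_mul_le_mul_left ?_ hc0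
    calc c i * m i = 244823040 := by rw [mul_comm, hm i]
      _ = _ := h1.symm
      _ ≤ _ := Nat.mul_le_mul_right _ (hc i)
  refine (Finset.sum_le_sum fun i _ => (hidx i).trans (card_isConj (x i)).ge).trans ?_
  rw [← Nat.card_sigma]
  refine Nat.card_le_card_of_injective
    (fun p : Σ i, {y : M24 // IsConj (x i) y} => (⟨p.2.1, by
      obtain ⟨d, hd⟩ := isConj_iff.1 p.2.2
      rw [← hd, ← hx p.1]
      exact (MulAut.conj d).orderOf_eq _⟩ : {g : M24 // orderOf g = n})) ?_
  rintro ⟨i, y⟩ ⟨j, z⟩ e
  simp only [Subtype.mk.injEq] at e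
  obtain rfl := hne i j (y.2.trans (e ▸ z.2.symm))
  rw [Subtype.ext e]

theorem r2 : Rep rep2A 2 21504 ∧ Rep rep2B 2 7680 :=
  ⟨rep_at (by norm_num) (by decide +kernel) (by decide +kernel),
    rep_at (by norm_num) (by decide +kernel) (by decide +kernel)⟩

theorem r3 : Rep rep3A 3 1080 ∧ Rep rep3B 3 504 :=
  ⟨rep_at (by norm_num) (by decide +kernel) (by decide +kernel),
    rep_at (by norm_num) (by decide +kernel) (by decide +kernel)⟩

theorem r4 : Rep rep4B 4 128 ∧ Rep rep4A 4 384 ∧ Rep rep4C 4 96 :=
  ⟨rep_at (by norm_num) (by decide +kernel) (by decide +kernel),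
    rep_at (by norm_num) (by decide +kernel) (by decide +kernel),
    rep_at (by norm_num) (by decide +kernel) (by decide +kernel)⟩

theorem r6 : Rep rep6A 6 24 ∧ Rep rep6B 6 24 :=
  ⟨rep_at (by norm_num) (by decide +kernel) (by decide +kernel),
    rep_at (by norm_num) (by decide +kernel) (by decide +kernel)⟩

theorem r12 : Rep rep12A 12 12 ∧ Rep rep12B 12 12 :=
  ⟨rep_at (by norm_num) (by decide +kernel) (by decide +kernel),
    rep_all (by norm_num) (by decide +kernel) (by decide +kernel)⟩

theorem le_2 : 43263 ≤ cnt M24 2 := by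
  have h := classes_le ![rep2A, rep2B] ![21504, 7680] ![11385, 31878] (n := 2)
    (Fin.forall_fin_two.2 r2) (by decide +kernel) (by decide +kernel)
  rwa [Fin.sum_univ_two] at h

theorem le_3 : 712448 ≤ cnt M24 3 := by
  have h := classes_le ![rep3A, rep3B] ![1080, 504] ![226688, 485760] (n := 3)
    (Fin.forall_fin_two.2 r3) (by decide +kernel) (by decide +kernel)
  rwa [Fin.sum_univ_two] at h

theorem le_4 : 5100480 ≤ cnt M24 4 := by
  have h := classes_le ![rep4B, rep4A, rep4C] ![128, 384, 96] ![1912680, 637560, 2550240] (n := 4)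
    (fun i => by fin_cases i; exacts [r4.1, r4.2.1, r4.2.2]) (by decide +kernel) (by decide +kernel)
  rwa [Fin.sum_univ_three] at h

theorem le_6 : 20401920 ≤ cnt M24 6 := by
  have h := classes_le ![rep6A, rep6B] ![24, 24] ![10200960, 10200960] (n := 6)
    (Fin.forall_fin_two.2 r6) (by decide +kernel) (by decide +kernel)
  rwa [Fin.sum_univ_two] at h

theorem le_8 : 15301440 ≤ cnt M24 8 := by
  have h := classes_le ![rep8] ![16] ![15301440] (n := 8)
    (fun i => by
      fin_cases i
      exact rep_at (by norm_num) (by decide +kernel) (by decide +kernel))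
    (by decide +kernel) (by decide +kernel)
  rwa [Fin.sum_univ_one] at h

theorem le_10 : 12241152 ≤ cnt M24 10 := by
  have h := classes_le ![rep10] ![20] ![12241152] (n := 10)
    (fun i => by
      fin_cases i
      exact rep_at (by norm_num) (by decide +kernel) (by decide +kernel))
    (by decide +kernel) (by decide +kernel)
  rwa [Fin.sum_univ_one] at h

theorem le_12 : 40803840 ≤ cnt M24 12 := by
  have h := classes_le ![rep12A, rep12B] ![12, 12] ![20401920, 20401920] (n := 12)
    (Fin.forall_fin_two.2 r12) (by decide +kernel) (by decide +kernel)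
  rwa [Fin.sum_univ_two] at h

theorem le_14 : 34974720 ≤ cnt M24 14 := by
  have r : Rep rep14 14 14 := rep_at (by norm_num) (by decide +kernel) (by decide +kernel)
  have h := classes_le ![rep14, invL rep14] ![14, 14] ![17487360, 17487360] (n := 14)
    (Fin.forall_fin_two.2 ⟨r, r.inv⟩) (by decide +kernel) (by decide +kernel)
  rwa [Fin.sum_univ_two] at h

theorem le_15 : 32643072 ≤ cnt M24 15 := by
  have r : Rep rep15 15 15 := rep_at (by norm_num) (by decide +kernel) (by decide +kernel)
  have h := classes_le ![rep15, invL rep15] ![15, 15] ![16321536, 16321536] (n := 15)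
    (Fin.forall_fin_two.2 ⟨r, r.inv⟩) (by decide +kernel) (by decide +kernel)
  rwa [Fin.sum_univ_two] at h

theorem le_21 : 23316480 ≤ cnt M24 21 := by
  have r : Rep rep21 21 21 := rep_at (by norm_num) (by decide +kernel) (by decide +kernel)
  have h := classes_le ![rep21, invL rep21] ![21, 21] ![11658240, 11658240] (n := 21)
    (Fin.forall_fin_two.2 ⟨r, r.inv⟩) (by decide +kernel) (by decide +kernel)
  rwa [Fin.sum_univ_two] at h

theorem le_5 : 4080384 ≤ cnt M24 5 := by
  obtain ⟨x, -, -, -, h⟩ := m24_five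
  exact h

theorem le_7 : 11658240 ≤ cnt M24 7 := by
  obtain ⟨x, -, -, -, h⟩ := m24_seven
  exact h

theorem le_11 : 22256640 ≤ cnt M24 11 := by
  obtain ⟨x, -, -, -, h⟩ := m24_eleven
  exact h

theorem le_23 : 21288960 ≤ cnt M24 23 := by
  obtain ⟨x, -, -, -, h⟩ := m24_twentythree
  exact h

/-- The orders of elements. -/
def ords : Finset ℕ := {1, 2, 3, 4, 5, 6, 7, 8, 10, 11, 12, 14, 15, 21, 23}

/-- The numbers of elements of each order. -/
def cval : ℕ → ℕ
  | 1 => 1 | 2 => 43263 | 3 => 712448 | 4 => 5100480 | 5 => 4080384 | 6 => 20401920 | 7 => 11658240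
  | 8 => 15301440 | 10 => 12241152 | 11 => 22256640 | 12 => 40803840 | 14 => 34974720
  | 15 => 32643072 | 21 => 23316480 | 23 => 21288960
  | _ => 0

theorem cval_le (n : ℕ) : cval n ≤ cnt M24 n := by
  unfold cval
  split
  · exact cnt_one.ge
  · exact le_2
  · exact le_3
  · exact le_4
  · exact le_5
  · exact le_6
  · exact le_7
  · exact le_8
  · exact le_10
  · exact le_11
  · exact le_12
  · exact le_14
  · exact le_15
  · exact le_21
  · exact le_23
  · exact Nat.zero_le _

theorem sum_cnt_le {G : Type*} [Group G] [Finite G] (S : Finset ℕ) : ∑ n ∈ S, cnt G n ≤ Nat.card G := by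
  classical
  haveI := Fintype.ofFinite G
  have e : ∀ n, cnt G n = ((Finset.univ : Finset G).filter fun g => orderOf g = n).card := fun n => by
    rw [cnt, Nat.card_eq_fintype_card, Fintype.card_subtype]
  simp only [e]
  rw [Nat.card_eq_fintype_card, ← Finset.card_univ, ← Finset.card_biUnion]
  · exact Finset.card_le_card (Finset.subset_univ _)
  · intro a _ b _ hab
    exact Finset.disjoint_left.2 fun g hg hg' =>
      hab ((Finset.mem_filter.1 hg).2.symm.trans (Finset.mem_filter.1 hg').2)

theorem sum_cval : ∑ n ∈ ords, cval n = 244823040 := by decide +kernel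

theorem cnt_model (n : ℕ) : cnt M24 n = cval n := by
  refine le_antisymm ?_ (cval_le n)
  have h := sum_cnt_le (G := M24) (insert n ords)
  rw [card_M24] at h
  have h2 := sum_cval
  by_cases hn : n ∈ ords
  · rw [Finset.insert_eq_of_mem hn, ← Finset.add_sum_erase _ _ hn] at h
    have h1 : ∑ m ∈ ords.erase n, cval m ≤ ∑ m ∈ ords.erase n, cnt M24 m :=
      Finset.sum_le_sum fun m _ => cval_le m
    rw [← Finset.add_sum_erase _ _ hn] at h2
    omega
  · rw [Finset.sum_insert hn] at h
    have h1 : ∑ m ∈ ords, cval m ≤ ∑ m ∈ ords, cnt M24 m := Finset.sum_le_sum fun m _ => cval_le m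
    omega

end CfsgLib.M24Nse.Model
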