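import Cfsg.Agent.M24Nse.LocalDef
import Cfsg.Agent.M24Nse.Model
import Cfsg.Agent.Nse.Basic

/-!
# The local data from the order and the values of the counting function
-/

set_option autoImplicit false
set_option linter.style.haveILetI false
set_option linter.unusedSectionVars false
set_option maxRecDepth 100000

namespace CfsgLib.M24Nse

open Subgroup CfsgLib.ThreeCounts

universe u

/-- The nonzero numbers of elements of each order. -/
def valSet : Finset ℕ :=
  {1, 43263, 712448, 5100480, 4080384, 20401920, 11658240, 15301440, 12241152, 22256640, 40803840,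
    34974720, 32643072, 23316480, 21288960}

/-- The values not taken at the orders determined first. -/
def restSet : Finset ℕ := {5100480, 20401920, 15301440, 40803840}

/-- The orders determined first. -/
def known : Finset ℕ := {1, 2, 3, 5, 7, 10, 11, 14, 15, 21, 23}

/-- Their values. -/
def knownVal : ℕ → ℕ
  | 1 => 1 | 2 => 43263 | 3 => 712448 | 5 => 4080384 | 7 => 11658240 | 10 => 12241152 | 11 => 22256640
  | 14 => 34974720 | 15 => 32643072 | 21 => 23316480 | 23 => 21288960
  | _ => 0

/-- The orders that remain possible. -/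
def smallOrds : List ℕ := [4, 6, 8, 9, 12, 16, 18, 27, 32]

/-- Frobenius tests with the divisors. -/
def tests : List (ℕ × List ℕ) :=
  [(27, [1, 3, 9, 27]), (54, [1, 2, 3, 6, 9, 18, 27, 54]), (108, [1, 2, 3, 4, 6, 9, 12, 18, 27, 36, 54, 108]),
    (128, [1, 2, 4, 8, 16, 32, 64, 128]),
    (216, [1, 2, 3, 4, 6, 8, 9, 12, 18, 24, 27, 36, 54, 72, 108, 216]),
    (384, [1, 2, 3, 4, 6, 8, 12, 16, 24, 32, 48, 64, 96, 128, 192, 384]),
    (512, [1, 2, 4, 8, 16, 32, 64, 128, 256, 512])]

/-- The value at an order in an assignment. -/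
def valAt (T P : List ℕ) (d : ℕ) : ℕ :=
  if d ∈ known then knownVal d else
    (((T.zip P).find? fun e => Nat.beq e.1 d).map Prod.snd).getD 0

/-- Whether an assignment passes the tests. -/
def okAssign (T P : List ℕ) : Bool :=
  (T.all fun m => smallOrds.all fun d => !(m % d == 0) || T.contains d) &&
    tests.all fun e => (e.2.map (valAt T P)).sum % e.1 == 0

theorem assign_unique :
    ((smallOrds.sublistsLen 4).all fun T =>
      [5100480, 20401920, 15301440, 40803840].permutations'.all fun P =>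
        !(okAssign T P) || (T == [4, 6, 8, 12] && P == [5100480, 20401920, 15301440, 40803840])) = true := by
  decide +kernel

theorem tests_divisors : ∀ e ∈ tests, e.1.divisors = e.2.toFinset ∧ e.2.Nodup ∧ e.1 ∣ 244823040 := by
  decide +kernel

/-- A group with the same order and the same values of the counting function as the model. -/
structure Nse (G : Type u) [Group G] : Prop where
  card : Nat.card G = 244823040
  val : ∀ n, cnt G n ≠ 0 → cnt G n ∈ valSet
  att : ∀ v ∈ valSet, ∃ n, cnt G n = v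

variable {G : Type u} [Group G] [Finite G]

/-- Values missed by a set of orders still count. -/
theorem le_total (S W : Finset ℕ) (hW : ∀ v ∈ W, ∃ n, cnt G n = v)
    (hne : ∀ v ∈ W, ∀ s ∈ S, cnt G s ≠ v) : ∑ n ∈ S, cnt G n + ∑ v ∈ W, v ≤ Nat.card G := by
  classical
  choose! f hf using hW
  have hinj : Set.InjOn f W := fun a ha b hb e => by rw [← hf a ha, e, hf b hb]
  have hd : Disjoint S (W.image f) := Finset.disjoint_right.2 fun d hd hdS => by
    obtain ⟨v, hv, rfl⟩ := Finset.mem_image.1 hd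
    exact hne v hv _ hdS (hf v hv)
  calc ∑ n ∈ S, cnt G n + ∑ v ∈ W, v = ∑ n ∈ S, cnt G n + ∑ n ∈ W.image f, cnt G n := by
        rw [Finset.sum_image hinj]
        congr 1
        exact Finset.sum_congr rfl fun v hv => (hf v hv).symm
    _ = ∑ n ∈ S ∪ W.image f, cnt G n := (Finset.sum_union hd).symm
    _ ≤ _ := Model.sum_cnt_le _

/-- The elements of order `m` commuting with `y`, as elements of its centraliser. -/
theorem cnt_centralizer (y : G) (m : ℕ) : cnt ↥(centralizer ({y} : Set G)) m =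
    Nat.card {g : G // orderOf g = m ∧ g * y = y * g} :=
  Nat.card_congr
    { toFun := fun g => ⟨g.1.1, by rw [Subgroup.orderOf_coe]; exact g.2, mem_centralizer_singleton_iff.1 g.1.2⟩
      invFun := fun g => ⟨⟨g.1, mem_centralizer_singleton_iff.2 g.2.2⟩, by rw [← Subgroup.orderOf_coe]; exact g.2.1⟩
      left_inv := fun _ => rfl
      right_inv := fun _ => rfl }

theorem cnt_mod_fixed {p : ℕ} [Fact p.Prime] {y : G} (hy : orderOf y = p) (m : ℕ) :
    cnt G m % p = cnt ↥(centralizer ({y} : Set G)) m % p := by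
  rw [cnt_centralizer]
  exact CfsgLib.M12Nse.card_modEq_fixed (p := p) (n := 1) (by rw [pow_one, ← hy, pow_orderOf_eq_one]) _
    fun g => by
      show orderOf g = m ↔ orderOf (y * g * y⁻¹) = m
      rw [show orderOf (y * g * y⁻¹) = orderOf g from (MulAut.conj y).orderOf_eq g]

namespace Nse

variable (h : Nse G)
include h

theorem dvd {m : ℕ} (hm : cnt G m ≠ 0) : m ∣ 244823040 := h.card ▸ CfsgLib.Nse.dvd_of_cnt hm

theorem le_max (m : ℕ) : cnt G m ≤ 40803840 := by
  by_cases hm : cnt G m = 0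
  · omega
  · have := h.val m hm
    simp only [valSet, Finset.mem_insert, Finset.mem_singleton] at this
    omega

theorem cnt_prime {p : ℕ} [hp : Fact p.Prime] (hd : p ∣ 244823040) :
    cnt G p ∈ valSet.filter fun v => (v + 1) % p = 0 := by
  have h0 : cnt G p ≠ 0 := cnt_pos_iff.2 (exists_prime_orderOf_dvd_card' p (h.card.symm ▸ hd))
  refine Finset.mem_filter.2 ⟨h.val p h0, Nat.mod_eq_zero_of_dvd ?_⟩
  have hf := CfsgLib.Nse.frob (G := G) (n := p) (h.card.symm ▸ hd)
  rwa [hp.out.divisors, Finset.sum_pair hp.out.one_lt.ne, cnt_one, add_comm] at hf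

theorem c3 : cnt G 3 = 712448 := by
  haveI : Fact (Nat.Prime 3) := ⟨by norm_num⟩
  have := h.cnt_prime (p := 3) (by norm_num)
  have h2 := two_dvd_cnt (G := G) (m := 3) (by norm_num)
  simp [valSet] at this
  omega

theorem c5 : cnt G 5 = 4080384 := by
  haveI : Fact (Nat.Prime 5) := ⟨by norm_num⟩
  have := h.cnt_prime (p := 5) (by norm_num)
  have h2 := totient_dvd_cnt (G := G) (m := 5) (by norm_num)
  rw [Nat.totient_prime Fact.out] at h2
  simp [valSet] at this
  omega

theorem c7 : cnt G 7 = 11658240 := by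
  haveI : Fact (Nat.Prime 7) := ⟨by norm_num⟩
  have := h.cnt_prime (p := 7) (by norm_num)
  have h2 := totient_dvd_cnt (G := G) (m := 7) (by norm_num)
  rw [Nat.totient_prime Fact.out] at h2
  simp [valSet] at this
  omega

theorem c11 : cnt G 11 = 22256640 := by
  haveI : Fact (Nat.Prime 11) := ⟨by norm_num⟩
  have := h.cnt_prime (p := 11) (by norm_num)
  have h2 := totient_dvd_cnt (G := G) (m := 11) (by norm_num)
  rw [Nat.totient_prime Fact.out] at h2
  simp [valSet] at this
  omega

theorem c23 : cnt G 23 = 21288960 := by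
  haveI : Fact (Nat.Prime 23) := ⟨by norm_num⟩
  have := h.cnt_prime (p := 23) (by norm_num)
  have h2 := totient_dvd_cnt (G := G) (m := 23) (by norm_num)
  rw [Nat.totient_prime Fact.out] at h2
  simp [valSet] at this
  omega

theorem c2 : cnt G 2 = 43263 := by
  haveI : Fact (Nat.Prime 2) := ⟨Nat.prime_two⟩
  have := h.cnt_prime (p := 2) (by norm_num)
  simp [valSet] at this
  by_contra hne
  have h1 : cnt G 2 = 1 := by omega
  obtain ⟨z, hz⟩ := cnt_pos_iff.1 (show cnt G 2 ≠ 0 by omega)
  have hu : ∀ g : G, orderOf g = 2 → g = z := fun g hg => by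
    have := (Nat.card_eq_one_iff_unique.1 h1).1.elim ⟨g, hg⟩ ⟨z, hz⟩
    exact congrArg Subtype.val this
  have hzc : z ∈ center G := mem_center_iff.2 fun g => by
    have e := hu (g * z * g⁻¹) (((MulAut.conj g).orderOf_eq z).trans hz)
    exact mul_inv_eq_iff_eq_mul.1 e
  have m := fun k (hk : Odd k) => cnt_two_mul hzc hz hu (m := k) hk
  have e6 : cnt G 6 = cnt G 3 := m 3 (by decide)
  have e10 : cnt G 10 = cnt G 5 := m 5 (by decide)
  have e14 : cnt G 14 = cnt G 7 := m 7 (by decide)
  have e22 : cnt G 22 = cnt G 11 := m 11 (by decide)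
  have e46 : cnt G 46 = cnt G 23 := m 23 (by decide)
  have t := le_total (G := G) {1, 2, 3, 5, 6, 7, 10, 11, 14, 22, 23, 46}
    {5100480, 20401920, 15301440, 12241152, 40803840, 34974720, 32643072, 23316480}
    (fun v hv => h.att v (by fin_cases hv <;> simp [valSet]))
    (fun v hv s hs => by
      fin_cases hs <;> fin_cases hv <;>
        simp [cnt_one, h1, h.c3, h.c5, h.c7, h.c11, h.c23, e6, e10, e14, e22, e46])
  simp [cnt_one, h1, h.c3, h.c5, h.c7, h.c11, h.c23, h.card, e6, e10, e14, e22, e46] at t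

theorem fac (p : ℕ) (e m : ℕ) (hp : p.Prime) (he : p ^ e * m = 244823040) (hm : ¬ p ∣ m) :
    (Nat.card G).factorization p = e := by
  rw [h.card, ← he, Nat.factorization_mul (pow_ne_zero _ hp.ne_zero) (fun e0 => hm (by rw [e0]; exact dvd_zero p)),
    Finsupp.add_apply, hp.factorization_pow, Finsupp.single_eq_same,
    Nat.factorization_eq_zero_of_not_dvd hm, add_zero]

theorem fac5 : (Nat.card G).factorization 5 = 1 := h.fac 5 1 48964608 (by norm_num) (by norm_num) (by norm_num)

theorem fac7 : (Nat.card G).factorization 7 = 1 := h.fac 7 1 34974720 (by norm_num) (by norm_num) (by norm_num)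

theorem fac11 : (Nat.card G).factorization 11 = 1 := h.fac 11 1 22256640 (by norm_num) (by norm_num) (by norm_num)

theorem fac23 : (Nat.card G).factorization 23 = 1 := h.fac 23 1 10644480 (by norm_num) (by norm_num) (by norm_num)

/-- The order of the normaliser of a Sylow subgroup of prime order. -/
theorem card_norm {p N : ℕ} [hp : Fact p.Prime] (hk : (Nat.card G).factorization p = 1) {x : G}
    (hx : orderOf x = p) {n : ℕ} (hn : cnt G p = n * (p - 1)) (hN : n * N = 244823040) :
    Nat.card (normalizer (zpowers x : Set G)) = N := by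
  have h1 := CfsgLib.Nse.card_sylow_prime (G := G) hk
  let P : Sylow p G := Sylow.ofCard (zpowers x) (by rw [Nat.card_zpowers, hx, hk, pow_one])
  have h2 : Nat.card (Sylow p G) = (normalizer (zpowers x : Set G)).index := P.card_eq_index_normalizer
  have hp1 : 0 < p - 1 := by have := hp.out.two_le; omega
  have h3 : Nat.card (Sylow p G) = n := Nat.eq_of_mul_eq_mul_right hp1 (h1.symm.trans hn)
  have h4 := (normalizer (zpowers x : Set G)).index_mul_card
  rw [h.card, ← h2, h3, ← hN] at h4
  exact Nat.eq_of_mul_eq_mul_left (Nat.pos_of_ne_zero fun e => by simp [e] at hN) h4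

theorem norm5 {x : G} (hx : orderOf x = 5) : Nat.card (normalizer (zpowers x : Set G)) = 240 := by
  haveI : Fact (Nat.Prime 5) := ⟨by norm_num⟩
  exact h.card_norm h.fac5 hx (n := 1020096) (by rw [h.c5]) (by norm_num)

theorem norm7 {x : G} (hx : orderOf x = 7) : Nat.card (normalizer (zpowers x : Set G)) = 126 := by
  haveI : Fact (Nat.Prime 7) := ⟨by norm_num⟩
  exact h.card_norm h.fac7 hx (n := 1943040) (by rw [h.c7]) (by norm_num)

theorem norm11 {x : G} (hx : orderOf x = 11) : Nat.card (normalizer (zpowers x : Set G)) = 110 := by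
  haveI : Fact (Nat.Prime 11) := ⟨by norm_num⟩
  exact h.card_norm h.fac11 hx (n := 2225664) (by rw [h.c11]) (by norm_num)

theorem norm23 {x : G} (hx : orderOf x = 23) : Nat.card (normalizer (zpowers x : Set G)) = 253 := by
  haveI : Fact (Nat.Prime 23) := ⟨by norm_num⟩
  exact h.card_norm h.fac23 hx (n := 967680) (by rw [h.c23]) (by norm_num)

theorem cent_dvd_norm {x : G} : Nat.card (centralizer ({x} : Set G)) ∣
    Nat.card (normalizer (zpowers x : Set G)) := by
  refine card_dvd_of_le ?_
  intro g hg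
  refine centralizer_le_normalizer _ (mem_centralizer_iff.2 ?_)
  rintro _ ⟨n, rfl⟩
  exact ((show Commute g x from mem_centralizer_singleton_iff.1 hg).zpow_right n).eq.symm

theorem self_dvd (x : G) : orderOf x ∣ Nat.card (centralizer ({x} : Set G)) :=
  Subgroup.orderOf_dvd_natCard _ (mem_centralizer_singleton_iff.2 rfl)

/-- A product order with a count. -/
theorem mul_val {p m : ℕ} [hp : Fact p.Prime] (hk : (Nat.card G).factorization p = 1) (hm : p.Coprime m)
    {x : G} (hx : orderOf x = p) :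
    cnt G p * cnt ↥(centralizer ({x} : Set G)) m = 0 ∨
      cnt G p * cnt ↥(centralizer ({x} : Set G)) m ∈ valSet := by
  rw [← CfsgLib.Nse.cnt_mul hk hm hx]
  by_cases h0 : cnt G (p * m) = 0
  · exact Or.inl h0
  · exact Or.inr (h.val _ h0)

theorem exists_of_dvd {q : ℕ} [Fact q.Prime] {H : Type u} [Group H] [Finite H] (hd : q ∣ Nat.card H) :
    cnt H q ≠ 0 :=
  cnt_pos_iff.2 (exists_prime_orderOf_dvd_card' q hd)

theorem cent23 {x : G} (hx : orderOf x = 23) : Nat.card (centralizer ({x} : Set G)) = 23 := by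
  haveI : Fact (Nat.Prime 23) := ⟨by norm_num⟩
  haveI : Fact (Nat.Prime 11) := ⟨by norm_num⟩
  have h1 := cent_dvd_norm h (x := x)
  rw [h.norm23 hx] at h1
  have h2 := hx ▸ self_dvd h x
  have h3 := h.mul_val (m := 11) h.fac23 (by norm_num) hx
  rw [h.c23] at h3
  have h4 : cnt ↥(centralizer ({x} : Set G)) 11 ≠ 0 →
      10 ≤ cnt ↥(centralizer ({x} : Set G)) 11 := fun h0 => by
    have := totient_dvd_cnt (G := ↥(centralizer ({x} : Set G))) (m := 11) (by norm_num)
    rw [Nat.totient_prime Fact.out] at this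
    exact Nat.le_of_dvd (Nat.pos_of_ne_zero h0) this
  have hc : ∀ c : ℕ, c ∣ 253 → 23 ∣ c → ¬ 11 ∣ c → c = 23 := fun c hc => by
    have : c ∈ Nat.divisors 253 := Nat.mem_divisors.2 ⟨hc, by norm_num⟩
    rw [show Nat.divisors 253 = {1, 11, 23, 253} by decide +kernel] at this
    simp at this; omega
  refine hc _ h1 h2 fun hd => ?_
  have := h4 (h.exists_of_dvd hd)
  simp [valSet] at h3
  omega

theorem cent11 {x : G} (hx : orderOf x = 11) : Nat.card (centralizer ({x} : Set G)) = 11 := by
  haveI : Fact (Nat.Prime 11) := ⟨by norm_num⟩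
  haveI : Fact (Nat.Prime 5) := ⟨by norm_num⟩
  haveI : Fact (Nat.Prime 2) := ⟨by norm_num⟩
  have h1 := cent_dvd_norm h (x := x)
  rw [h.norm11 hx] at h1
  have h2 := hx ▸ self_dvd h x
  have h3 := h.mul_val (m := 5) h.fac11 (by norm_num) hx
  have h4 := h.mul_val (m := 2) h.fac11 (by norm_num) hx
  have h5 := totient_dvd_cnt (G := ↥(centralizer ({x} : Set G))) (m := 5) (by norm_num)
  rw [Nat.totient_prime Fact.out] at h5
  have h6 := cnt_mod_fixed hx 2
  rw [h.c11] at h3 h4
  rw [h.c2] at h6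
  have hc : ∀ c : ℕ, c ∣ 110 → 11 ∣ c → ¬ 5 ∣ c → ¬ 2 ∣ c → c = 11 := fun c hc => by
    have : c ∈ Nat.divisors 110 := Nat.mem_divisors.2 ⟨hc, by norm_num⟩
    rw [show Nat.divisors 110 = {1, 2, 5, 10, 11, 22, 55, 110} by decide +kernel] at this
    simp at this; omega
  refine hc _ h1 h2 (fun hd => ?_) fun hd => ?_
  · have := h.exists_of_dvd hd
    simp [valSet] at h3
    omega
  · have := h.exists_of_dvd hd
    simp [valSet] at h4
    omega

theorem c7x {x : G} (hx : orderOf x = 7) :
    cnt ↥(centralizer ({x} : Set G)) 2 = 3 ∧ cnt ↥(centralizer ({x} : Set G)) 3 = 2 := by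
  haveI : Fact (Nat.Prime 7) := ⟨by norm_num⟩
  have h2 := h.mul_val (m := 2) h.fac7 (by norm_num) hx
  have h3 := h.mul_val (m := 3) h.fac7 (by norm_num) hx
  have a2 := cnt_mod_fixed hx 2
  have a3 := cnt_mod_fixed hx 3
  rw [h.c7] at h2 h3
  rw [h.c2] at a2
  rw [h.c3] at a3
  simp [valSet] at h2 h3
  omega

theorem cent7 {x : G} (hx : orderOf x = 7) : Nat.card (centralizer ({x} : Set G)) = 42 := by
  haveI : Fact (Nat.Prime 7) := ⟨by norm_num⟩
  have h1 := cent_dvd_norm h (x := x)
  rw [h.norm7 hx] at h1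
  have h2 := hx ▸ self_dvd h x
  obtain ⟨k2, k3⟩ := h.c7x hx
  obtain ⟨a, ha⟩ := cnt_pos_iff.1 (show cnt ↥(centralizer ({x} : Set G)) 2 ≠ 0 by omega)
  obtain ⟨b, hb⟩ := cnt_pos_iff.1 (show cnt ↥(centralizer ({x} : Set G)) 3 ≠ 0 by omega)
  have d2 : 2 ∣ Nat.card ↥(centralizer ({x} : Set G)) := ha ▸ orderOf_dvd_natCard a
  have d3 : 3 ∣ Nat.card ↥(centralizer ({x} : Set G)) := hb ▸ orderOf_dvd_natCard b
  have h9 : ¬ 9 ∣ Nat.card ↥(centralizer ({x} : Set G)) := fun hd => by
    have hf := CfsgLib.Nse.frob (G := ↥(centralizer ({x} : Set G))) hd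
    rw [show Nat.divisors 9 = {1, 3, 9} by decide +kernel] at hf
    simp only [Finset.sum_insert, Finset.mem_insert, Finset.mem_singleton, Finset.sum_singleton,
      show (1 : ℕ) ≠ 3 by norm_num, show (1 : ℕ) ≠ 9 by norm_num, show (3 : ℕ) ≠ 9 by norm_num,
      or_self, not_false_iff, cnt_one, k3] at hf
    have h4 := h.mul_val (m := 9) h.fac7 (by norm_num) hx
    have h5 := two_dvd_cnt (G := ↥(centralizer ({x} : Set G))) (m := 9) (by norm_num)
    rw [h.c7] at h4
    simp [valSet] at h4
    omega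
  have hc : ∀ c : ℕ, c ∣ 126 → 7 ∣ c → 2 ∣ c → 3 ∣ c → ¬ 9 ∣ c → c = 42 := fun c hc => by
    have : c ∈ Nat.divisors 126 := Nat.mem_divisors.2 ⟨hc, by norm_num⟩
    rw [show Nat.divisors 126 = {1, 2, 3, 6, 7, 9, 14, 18, 21, 42, 63, 126} by decide +kernel] at this
    simp at this; omega
  exact hc _ h1 h2 d2 d3 h9

theorem c5x {x : G} (hx : orderOf x = 5) :
    cnt ↥(centralizer ({x} : Set G)) 2 = 3 ∧ cnt ↥(centralizer ({x} : Set G)) 3 = 8 := by
  haveI : Fact (Nat.Prime 5) := ⟨by norm_num⟩
  haveI : Fact (Nat.Prime 2) := ⟨by norm_num⟩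
  have h2 := h.mul_val (m := 2) h.fac5 (by norm_num) hx
  have h3 := h.mul_val (m := 3) h.fac5 (by norm_num) hx
  have a2 := cnt_mod_fixed hx 2
  have a3 := cnt_mod_fixed hx 3
  have b3 := two_dvd_cnt (G := ↥(centralizer ({x} : Set G))) (m := 3) (by norm_num)
  rw [h.c5] at h2 h3
  rw [h.c2] at a2
  rw [h.c3] at a3
  obtain ⟨a, ha⟩ := cnt_pos_iff.1 (show cnt ↥(centralizer ({x} : Set G)) 2 ≠ 0 by omega)
  have hf := CfsgLib.Nse.frob (G := ↥(centralizer ({x} : Set G))) (n := 2) (ha ▸ orderOf_dvd_natCard a)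
  rw [Nat.prime_two.divisors, Finset.sum_pair (by norm_num : (1 : ℕ) ≠ 2), cnt_one] at hf
  simp [valSet] at h2 h3
  omega

theorem c10 : cnt G 10 = 12241152 := by
  haveI : Fact (Nat.Prime 5) := ⟨by norm_num⟩
  obtain ⟨x, hx⟩ := cnt_pos_iff.1 (show cnt G 5 ≠ 0 by rw [h.c5]; norm_num)
  have e := CfsgLib.Nse.cnt_mul (G := G) h.fac5 (m := 2) (by norm_num) hx
  rw [(h.c5x hx).1, h.c5] at e
  exact e

theorem c15 : cnt G 15 = 32643072 := by
  haveI : Fact (Nat.Prime 5) := ⟨by norm_num⟩
  obtain ⟨x, hx⟩ := cnt_pos_iff.1 (show cnt G 5 ≠ 0 by rw [h.c5]; norm_num)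
  have e := CfsgLib.Nse.cnt_mul (G := G) h.fac5 (m := 3) (by norm_num) hx
  rw [(h.c5x hx).2, h.c5] at e
  exact e

theorem c14 : cnt G 14 = 34974720 := by
  haveI : Fact (Nat.Prime 7) := ⟨by norm_num⟩
  obtain ⟨x, hx⟩ := cnt_pos_iff.1 (show cnt G 7 ≠ 0 by rw [h.c7]; norm_num)
  have e := CfsgLib.Nse.cnt_mul (G := G) h.fac7 (m := 2) (by norm_num) hx
  rw [(h.c7x hx).1, h.c7] at e
  exact e

theorem c21 : cnt G 21 = 23316480 := by
  haveI : Fact (Nat.Prime 7) := ⟨by norm_num⟩
  obtain ⟨x, hx⟩ := cnt_pos_iff.1 (show cnt G 7 ≠ 0 by rw [h.c7]; norm_num)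
  have e := CfsgLib.Nse.cnt_mul (G := G) h.fac7 (m := 3) (by norm_num) hx
  rw [(h.c7x hx).2, h.c7] at e
  exact e

theorem cnt_known {s : ℕ} (hs : s ∈ known) : cnt G s = knownVal s := by
  fin_cases hs
  exacts [cnt_one, h.c2, h.c3, h.c5, h.c7, h.c10, h.c11, h.c14, h.c15, h.c21, h.c23]

theorem known_ne {s v : ℕ} (hs : s ∈ known) (hv : v ∈ restSet) : cnt G s ≠ v := by
  rw [h.cnt_known hs]
  exact (by decide : ∀ s ∈ known, ∀ v ∈ restSet, knownVal s ≠ v) s hs v hv

theorem sum_known : ∑ n ∈ known, cnt G n + ∑ v ∈ restSet, v = 244823040 := by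
  rw [Finset.sum_congr rfl fun n hn => h.cnt_known hn]
  decide +kernel

theorem rest_mem {n : ℕ} (hn : n ∉ known) (h0 : cnt G n ≠ 0) : cnt G n ∈ restSet := by
  by_contra hne
  have t := le_total (G := G) (insert n known) restSet
    (fun v hv => h.att v ((by decide : restSet ⊆ valSet) hv))
    (fun v hv s hs => by
      rcases Finset.mem_insert.1 hs with rfl | hs
      · exact fun e => hne (e ▸ hv)
      · exact h.known_ne hs hv)
  rw [Finset.sum_insert hn, h.card] at t
  have := h.sum_known
  omega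

/-- Outside the known orders each value is taken once. -/
theorem rest_inj {n m : ℕ} (hn : n ∉ known) (hm : m ∉ known) (h0 : cnt G n ≠ 0)
    (e : cnt G n = cnt G m) : n = m := by
  by_contra hne
  have hv := h.rest_mem hn h0
  have t := le_total (G := G) (insert n (insert m known)) (restSet.erase (cnt G n))
    (fun v hv => h.att v ((by decide : restSet ⊆ valSet) (Finset.mem_of_mem_erase hv)))
    (fun v hv s hs => by
      obtain ⟨hv1, hv2⟩ := Finset.mem_erase.1 hv
      rcases Finset.mem_insert.1 hs with rfl | hs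
      · exact fun e => hv1 e.symm
      rcases Finset.mem_insert.1 hs with rfl | hs
      · exact fun e' => hv1 (e.trans e').symm
      · exact h.known_ne hs hv2)
  rw [Finset.sum_insert (by simp only [Finset.mem_insert, not_or]; exact ⟨hne, hn⟩),
    Finset.sum_insert hm, ← e, h.card] at t
  have := h.sum_known
  rw [← Finset.add_sum_erase _ _ hv] at this
  omega

theorem cent5 {x : G} (hx : orderOf x = 5) : Nat.card (centralizer ({x} : Set G)) = 60 := by
  haveI : Fact (Nat.Prime 5) := ⟨by norm_num⟩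
  haveI : Fact (Nat.Prime 3) := ⟨by norm_num⟩
  set C := centralizer ({x} : Set G) with hC
  have h1 : Nat.card C ∣ 240 := h.norm5 hx ▸ cent_dvd_norm h
  have h2 : 5 ∣ Nat.card C := hx ▸ self_dvd h x
  obtain ⟨k2, k3⟩ := h.c5x hx
  rw [← hC] at k2 k3
  obtain ⟨a, ha⟩ := cnt_pos_iff.1 (show cnt C 2 ≠ 0 by omega)
  obtain ⟨b, hb⟩ := cnt_pos_iff.1 (show cnt C 3 ≠ 0 by omega)
  have d2 : 2 ∣ Nat.card C := ha ▸ orderOf_dvd_natCard a
  have d3 : 3 ∣ Nat.card C := hb ▸ orderOf_dvd_natCard b
  have hcases : Nat.card C = 30 ∨ Nat.card C = 60 ∨ 8 ∣ Nat.card C :=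
    (by decide +kernel : ∀ c ∈ Nat.divisors 240, 5 ∣ c → 2 ∣ c → 3 ∣ c → c = 30 ∨ c = 60 ∨ 8 ∣ c) _
      (Nat.mem_divisors.2 ⟨h1, by norm_num⟩) h2 d2 d3
  rcases hcases with hc | hc | h8
  · -- four Sylow subgroups for the prime three do not fit into order thirty
    exfalso
    have hf : (Nat.card C).factorization 3 = 1 := by
      rw [hc, show 30 = 3 ^ 1 * 10 by norm_num, Nat.factorization_mul (by norm_num) (by norm_num),
        Finsupp.add_apply, Nat.Prime.factorization_pow Fact.out, Finsupp.single_eq_same,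
        Nat.factorization_eq_zero_of_not_dvd (by norm_num)]
    have hs := CfsgLib.Nse.card_sylow_prime (G := C) hf
    have hn : Nat.card (Sylow 3 C) = 4 := by omega
    obtain ⟨P⟩ : Nonempty (Sylow 3 C) := inferInstance
    have hd := P.card_dvd_index
    have hi := (P : Subgroup C).index_dvd_card
    rw [hn] at hd
    rw [hc] at hi
    exact absurd (hd.trans hi) (by norm_num)
  · exact hc
  · exfalso
    have hf := CfsgLib.Nse.frob (G := C) h8
    rw [show Nat.divisors 8 = {1, 2, 4, 8} by decide +kernel] at hf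
    simp only [Finset.sum_insert, Finset.mem_insert, Finset.mem_singleton, Finset.sum_singleton,
      show (1 : ℕ) ≠ 2 by norm_num, show (1 : ℕ) ≠ 4 by norm_num, show (1 : ℕ) ≠ 8 by norm_num,
      show (2 : ℕ) ≠ 4 by norm_num, show (2 : ℕ) ≠ 8 by norm_num, show (4 : ℕ) ≠ 8 by norm_num,
      or_self, not_false_iff, cnt_one, k2] at hf
    have h4 := h.mul_val (m := 4) h.fac5 (by norm_num) hx
    have h5 := h.mul_val (m := 8) h.fac5 (by norm_num) hx
    have b4 := two_dvd_cnt (G := ↥C) (m := 4) (by norm_num)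
    have b8 := two_dvd_cnt (G := ↥C) (m := 8) (by norm_num)
    rw [h.c5, ← hC] at h4 h5
    simp [valSet] at h4 h5
    have k4 : cnt C 4 = 10 ∧ cnt C 8 = 10 := by omega
    have e20 := CfsgLib.Nse.cnt_mul (G := G) h.fac5 (m := 4) (by norm_num) hx
    have e40 := CfsgLib.Nse.cnt_mul (G := G) h.fac5 (m := 8) (by norm_num) hx
    rw [← hC, k4.1, h.c5] at e20
    rw [← hC, k4.2, h.c5] at e40
    exact absurd (h.rest_inj (n := 5 * 4) (m := 5 * 8) (by decide) (by decide) (by omega) (by omega))
      (by norm_num)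

/-- Outside the known orders only two primes occur. -/
theorem dvd_rest {n : ℕ} (hn : n ∉ known) (h0 : cnt G n ≠ 0) : n ∣ 27648 := by
  obtain ⟨g, hg⟩ := cnt_pos_iff.1 h0
  have key : ∀ {p : ℕ} [Fact p.Prime], (Nat.card G).factorization p = 1 → p ∣ n →
      ∃ x : G, orderOf x = p ∧ ∃ m, n = p * m ∧
        cnt G p * cnt ↥(centralizer ({x} : Set G)) m ≠ 0 := by
    intro p hp hk hd
    obtain ⟨m, rfl⟩ := hd
    have hx : orderOf (g ^ m) = p := by
      have hm0 : m ≠ 0 := fun e => by
        rw [e, mul_zero] at hg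
        exact (orderOf_pos g).ne' hg
      rw [orderOf_pow' _ hm0, hg, Nat.gcd_mul_left_left, Nat.mul_div_cancel _ (Nat.pos_of_ne_zero hm0)]
    have hcop : p.Coprime m := (Nat.Prime.coprime_iff_not_dvd hp.out).2 fun hd => by
      have h2 := h.dvd h0
      obtain ⟨k, rfl⟩ := hd
      have h3 : p ^ 2 ∣ Nat.card G := h.card.symm ▸ (dvd_trans ⟨k, by ring⟩ h2)
      have h4 := (hp.out.pow_dvd_iff_le_factorization Nat.card_pos.ne').1 h3
      omega
    exact ⟨_, hx, m, rfl, by rw [← CfsgLib.Nse.cnt_mul hk hcop hx]; exact h0⟩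
  have h5 : ¬ 5 ∣ n := fun hd => by
    haveI : Fact (Nat.Prime 5) := ⟨by norm_num⟩
    obtain ⟨x, hx, m, rfl, hm⟩ := key h.fac5 hd
    have hm0 := right_ne_zero_of_mul hm
    have hdv := CfsgLib.Nse.dvd_of_cnt hm0
    rw [h.cent5 hx] at hdv
    obtain ⟨k2, k3⟩ := h.c5x hx
    have hcard := h.cent5 hx
    set C := centralizer ({x} : Set G) with hC
    have hmm : m ∈ Nat.divisors 60 := Nat.mem_divisors.2 ⟨hdv, by norm_num⟩
    have hm5 : ¬ 5 ∣ m := fun h5m => by
      have h2 := h.dvd h0
      obtain ⟨k, rfl⟩ := h5m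
      exact absurd (dvd_trans (⟨k, by ring⟩ : 25 ∣ 5 * (5 * k)) h2) (by norm_num)
    have f4 := CfsgLib.Nse.frob (G := C) (n := 4) (by rw [hcard]; norm_num)
    have f6 := CfsgLib.Nse.frob (G := C) (n := 6) (by rw [hcard]; norm_num)
    have f12 := CfsgLib.Nse.frob (G := C) (n := 12) (by rw [hcard]; norm_num)
    rw [show Nat.divisors 4 = {1, 2, 4} by decide +kernel] at f4
    rw [show Nat.divisors 6 = {1, 2, 3, 6} by decide +kernel] at f6
    rw [show Nat.divisors 12 = {1, 2, 3, 4, 6, 12} by decide +kernel] at f12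
    simp [cnt_one, k2, k3] at f4 f6 f12
    have v4 := h.mul_val (m := 4) h.fac5 (by norm_num) hx
    have v6 := h.mul_val (m := 6) h.fac5 (by norm_num) hx
    have v12 := h.mul_val (m := 12) h.fac5 (by norm_num) hx
    have b4 := two_dvd_cnt (G := ↥C) (m := 4) (by norm_num)
    have b6 := two_dvd_cnt (G := ↥C) (m := 6) (by norm_num)
    have b12 := two_dvd_cnt (G := ↥C) (m := 12) (by norm_num)
    rw [h.c5, ← hC] at v4 v6 v12
    simp [valSet] at v4 v6 v12
    rw [show Nat.divisors 60 = {1, 2, 3, 4, 5, 6, 10, 12, 15, 20, 30, 60} by decide +kernel] at hmm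
    simp [known] at hn
    simp at hmm
    rcases hmm with rfl | rfl | rfl | rfl | rfl | rfl | rfl | rfl | rfl | rfl | rfl | rfl <;> omega
  have h7 : ¬ 7 ∣ n := fun hd => by
    haveI : Fact (Nat.Prime 7) := ⟨by norm_num⟩
    obtain ⟨x, hx, m, rfl, hm⟩ := key h.fac7 hd
    have hm0 := right_ne_zero_of_mul hm
    have hdv := CfsgLib.Nse.dvd_of_cnt hm0
    rw [h.cent7 hx] at hdv
    obtain ⟨k2, k3⟩ := h.c7x hx
    have hcard := h.cent7 hx
    set C := centralizer ({x} : Set G) with hC
    have hm7 : ¬ 7 ∣ m := fun h7m => by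
      have h2 := h.dvd h0
      obtain ⟨k, rfl⟩ := h7m
      exact absurd (dvd_trans (⟨k, by ring⟩ : 49 ∣ 7 * (7 * k)) h2) (by norm_num)
    have f6 := CfsgLib.Nse.frob (G := C) (n := 6) (by rw [hcard]; norm_num)
    rw [show Nat.divisors 6 = {1, 2, 3, 6} by decide +kernel] at f6
    simp [cnt_one, k2, k3] at f6
    have v6 := h.mul_val (m := 6) h.fac7 (by norm_num) hx
    rw [h.c7, ← hC] at v6
    simp [valSet] at v6
    have hmm : m ∈ Nat.divisors 42 := Nat.mem_divisors.2 ⟨hdv, by norm_num⟩
    rw [show Nat.divisors 42 = {1, 2, 3, 6, 7, 14, 21, 42} by decide +kernel] at hmm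
    simp [known] at hn
    simp at hmm
    rcases hmm with rfl | rfl | rfl | rfl | rfl | rfl | rfl | rfl <;> omega
  have hself : ∀ {p : ℕ} [Fact p.Prime], (Nat.card G).factorization p = 1 → p ∈ known →
      (∀ x : G, orderOf x = p → Nat.card (centralizer ({x} : Set G)) = p) → ¬ p ∣ n := by
    intro p hp hk hpk hcx hd
    obtain ⟨x, hx, m, rfl, hm⟩ := key hk hd
    have hdv := CfsgLib.Nse.dvd_of_cnt (right_ne_zero_of_mul hm)
    rw [hcx x hx] at hdv
    rcases (Nat.dvd_prime hp.out).1 hdv with rfl | rfl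
    · exact hn (by rwa [mul_one])
    · have h2 : m ^ 2 ∣ Nat.card G := h.card.symm ▸ (by rw [sq]; exact h.dvd h0)
      have h4 := (hp.out.pow_dvd_iff_le_factorization Nat.card_pos.ne').1 h2
      omega
  have h11 : ¬ 11 ∣ n := by
    haveI : Fact (Nat.Prime 11) := ⟨by norm_num⟩
    exact hself h.fac11 (by decide) fun _ hx => h.cent11 hx
  have h23 : ¬ 23 ∣ n := by
    haveI : Fact (Nat.Prime 23) := ⟨by norm_num⟩
    exact hself h.fac23 (by decide) fun _ hx => h.cent23 hx
  have cop : ∀ {p : ℕ}, p.Prime → ¬ p ∣ n → n.Coprime p := fun hp hd =>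
    ((Nat.Prime.coprime_iff_not_dvd hp).2 hd).symm
  have hall : n.Coprime (5 * 7 * 11 * 23) :=
    Nat.Coprime.mul_right (Nat.Coprime.mul_right (Nat.Coprime.mul_right (cop (by norm_num) h5)
      (cop (by norm_num) h7)) (cop (by norm_num) h11)) (cop (by norm_num) h23)
  exact hall.dvd_of_dvd_mul_right (show n ∣ 27648 * (5 * 7 * 11 * 23) from by norm_num; exact h.dvd h0)

theorem not_known_of_dvd {n d : ℕ} (hn : n ∣ 27648) (hd : d ∣ n) (h3 : 3 < d) : d ∉ known := fun hk => by
  have := hd.trans hn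
  fin_cases hk <;> omega

/-- Five divisors exceed the four values. -/
theorem cnt_zero_of_five {n : ℕ} (hn : n ∣ 27648) (D : Finset ℕ) (hD : 5 ≤ D.card)
    (hDn : ∀ d ∈ D, d ∣ n ∧ 3 < d) : cnt G n = 0 := by
  by_contra h0
  have hne : ∀ d ∈ D, cnt G d ≠ 0 := fun d hd e => h0 (CfsgLib.Nse.cnt_zero_of_dvd (hDn d hd).1 e)
  have hnk : ∀ d ∈ D, d ∉ known := fun d hd => h.not_known_of_dvd hn (hDn d hd).1 (hDn d hd).2
  have hle := Finset.card_le_card_of_injOn (cnt G)
    (fun d hd => h.rest_mem (hnk d hd) (hne d hd))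
    (fun a ha b hb e => h.rest_inj (hnk a ha) (hnk b hb) (hne a ha) e)
  have : restSet.card = 4 := by decide
  omega

theorem rest_small {n : ℕ} (hn : n ∉ known) (h0 : cnt G n ≠ 0) : n ∈ smallOrds := by
  have hd := h.dvd_rest hn h0
  have z : ∀ m, m ∣ n → ∀ D : Finset ℕ, 5 ≤ D.card → m ∣ 27648 → (∀ d ∈ D, d ∣ m ∧ 3 < d) → False :=
    fun m hm D hD hm' hDm => h0 (CfsgLib.Nse.cnt_zero_of_dvd hm (h.cnt_zero_of_five hm' D hD hDm))
  have z24 : ¬ 24 ∣ n := fun hm => z 24 hm {4, 6, 8, 12, 24} (by decide) (by norm_num) (by decide)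
  have z36 : ¬ 36 ∣ n := fun hm => z 36 hm {4, 6, 9, 12, 18} (by decide) (by norm_num) (by decide)
  have z54 : ¬ 54 ∣ n := fun hm => z 54 hm {6, 9, 18, 27, 54} (by decide) (by norm_num) (by decide)
  have z64 : ¬ 64 ∣ n := fun hm => z 64 hm {4, 8, 16, 32, 64} (by decide) (by norm_num) (by decide)
  obtain ⟨a, b, ha, hb, rfl⟩ : ∃ a b, a ∣ 2 ^ 10 ∧ b ∣ 3 ^ 3 ∧ n = a * b := by
    obtain ⟨a, b, ha, hb, e⟩ := Nat.dvd_mul.1 (show n ∣ 2 ^ 10 * 3 ^ 3 by norm_num; exact hd)
    exact ⟨a, b, ha, hb, e.symm⟩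
  obtain ⟨i, hi, rfl⟩ := (Nat.dvd_prime_pow Nat.prime_two).1 ha
  obtain ⟨j, hj, rfl⟩ := (Nat.dvd_prime_pow Nat.prime_three).1 hb
  simp [known] at hn
  simp only [smallOrds, List.mem_cons, List.not_mem_nil, or_false]
  interval_cases i <;> interval_cases j <;> norm_num at *

/-- The orders outside the known ones, with their values, are as in the model. -/
theorem rest_eq : (smallOrds.filter fun n => !(cnt G n == 0)) = [4, 6, 8, 12] ∧
    cnt G 4 = 5100480 ∧ cnt G 6 = 20401920 ∧ cnt G 8 = 15301440 ∧ cnt G 12 = 40803840 := by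
  classical
  set T := smallOrds.filter fun n => !(cnt G n == 0) with hT
  set P := T.map (cnt G) with hP
  have hsmall : ∀ n ∈ smallOrds, n ∉ known := by decide
  have hmemT : ∀ n, n ∈ T ↔ n ∈ smallOrds ∧ cnt G n ≠ 0 := fun n => by simp [hT]
  have hTn : T.Nodup := List.Nodup.filter _ (by decide)
  have hPn : P.Nodup := List.Nodup.map_on (fun a ha b hb e =>
    h.rest_inj (hsmall a ((hmemT a).1 ha).1) (hsmall b ((hmemT b).1 hb).1) ((hmemT a).1 ha).2 e) hTn
  have hPS : ∀ v, v ∈ P ↔ v ∈ restSet := fun v => by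
    constructor
    · intro hv
      obtain ⟨n, hn, rfl⟩ := List.mem_map.1 hv
      exact h.rest_mem (hsmall n ((hmemT n).1 hn).1) ((hmemT n).1 hn).2
    · intro hv
      obtain ⟨n, hn⟩ := h.att v ((by decide : restSet ⊆ valSet) hv)
      have h0 : cnt G n ≠ 0 := hn ▸ (by decide : ∀ v ∈ restSet, v ≠ 0) v hv
      have hk : n ∉ known := fun hk => h.known_ne hk hv hn
      exact List.mem_map.2 ⟨n, (hmemT n).2 ⟨h.rest_small hk h0, h0⟩, hn⟩
  have hperm : P.Perm [5100480, 20401920, 15301440, 40803840] := by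
    refine (List.perm_ext_iff_of_nodup hPn (by decide)).2 fun v => ?_
    rw [hPS]
    simp [restSet]
  have hlen : T.length = 4 := by
    have := hperm.length_eq
    simpa [hP] using this
  have hval : ∀ d, d ∣ 244823040 → cnt G d = valAt T P d := fun d _ => by
    unfold valAt
    split
    · rename_i hk; exact h.cnt_known hk
    · rename_i hk
      have key : ∀ L : List ℕ, ((((L.zip (L.map (cnt G))).find? fun e => Nat.beq e.1 d).map Prod.snd).getD 0)
          = if d ∈ L then cnt G d else 0 := by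
        intro L
        induction L with
        | nil => rfl
        | cons a L ih =>
          rw [List.map_cons, List.zip_cons_cons, List.find?_cons]
          cases hb : Nat.beq a d with
          | true =>
            obtain rfl := Nat.eq_of_beq_eq_true hb
            simp
          | false =>
            have hne : d ≠ a := fun e => by
              subst e
              rw [Nat.beq_refl] at hb
              exact Bool.noConfusion hb
            simp [ih, hne]
      rw [hP, key]
      split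
      · rfl
      · rename_i hd
        by_contra h0
        exact hd ((hmemT d).2 ⟨h.rest_small hk h0, h0⟩)
  have hok : okAssign T P = true := by
    simp only [okAssign, Bool.and_eq_true, List.all_eq_true, Bool.or_eq_true, Bool.not_eq_true',
      beq_eq_false_iff_ne, List.contains_iff_mem, beq_iff_eq]
    refine ⟨fun m hm d hd => ?_, fun e he => ?_⟩
    · by_cases hdm : m % d = 0
      · exact Or.inr ((hmemT d).2 ⟨hd, fun e => ((hmemT m).1 hm).2
          (CfsgLib.Nse.cnt_zero_of_dvd (Nat.dvd_of_mod_eq_zero hdm) e)⟩)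
      · exact Or.inl hdm
    · obtain ⟨hdiv, hnd, hdv⟩ := tests_divisors e he
      have hf := CfsgLib.Nse.frob (G := G) (n := e.1) (h.card.symm ▸ hdv)
      rw [hdiv, List.sum_toFinset _ hnd] at hf
      have e1 : e.2.map (cnt G) = e.2.map (valAt T P) := List.map_congr_left fun d hd => hval d
        ((Nat.mem_divisors.1 (hdiv.symm ▸ List.mem_toFinset.2 hd)).1.trans hdv)
      rw [e1] at hf
      exact Nat.mod_eq_zero_of_dvd hf
  have h1 := List.all_eq_true.1 assign_unique T
    (List.mem_sublistsLen.2 ⟨List.filter_sublist, hlen⟩)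
  have h2 := List.all_eq_true.1 h1 P (List.mem_permutations'.2 hperm)
  rw [hok, Bool.not_true, Bool.false_or, Bool.and_eq_true, beq_iff_eq, beq_iff_eq] at h2
  refine ⟨h2.1, ?_⟩
  have h3 := h2.2
  rw [hP, h2.1] at h3
  simpa using h3

theorem c4 : cnt G 4 = 5100480 := h.rest_eq.2.1

theorem c6 : cnt G 6 = 20401920 := h.rest_eq.2.2.1

theorem c8 : cnt G 8 = 15301440 := h.rest_eq.2.2.2.1

theorem c9 : cnt G 9 = 0 := by
  by_contra h0
  have : 9 ∈ smallOrds.filter fun n => !(cnt G n == 0) :=
    List.mem_filter.2 ⟨by decide, by simpa using h0⟩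
  rw [h.rest_eq.1] at this
  exact absurd this (by decide)

/-- The elements of order prime to the index lie in a normal subgroup. -/
theorem mem_of_coprime {N : Subgroup G} [N.Normal] {g : G} (hc : (orderOf g).Coprime N.index) : g ∈ N := by
  rw [← QuotientGroup.eq_one_iff, ← orderOf_eq_one_iff]
  refine Nat.eq_one_of_dvd_coprimes hc (orderOf_map_dvd (QuotientGroup.mk' N) g) ?_
  rw [index_eq_card]
  exact orderOf_dvd_natCard _

theorem sum_le_of_mem {N : Subgroup G} (S : Finset ℕ) (hS : ∀ g : G, orderOf g ∈ S → g ∈ N) :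
    ∑ n ∈ S, cnt G n ≤ Nat.card N := by
  classical
  haveI := Fintype.ofFinite G
  have e : ∀ n, cnt G n = ((Finset.univ : Finset G).filter fun g => orderOf g = n).card := fun n => by
    rw [cnt, Nat.card_eq_fintype_card, Fintype.card_subtype]
  simp only [e]
  rw [Nat.card_eq_fintype_card, Fintype.card_subtype, ← Finset.card_biUnion]
  · refine Finset.card_le_card fun g hg => ?_
    obtain ⟨n, hn, hg⟩ := Finset.mem_biUnion.1 hg
    exact Finset.mem_filter.2 ⟨Finset.mem_univ _, hS g ((Finset.mem_filter.1 hg).2.symm ▸ hn)⟩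
  · intro a _ b _ hab
    exact Finset.disjoint_left.2 fun g hg hg' =>
      hab ((Finset.mem_filter.1 hg).2.symm.trans (Finset.mem_filter.1 hg').2)

/-- A normal subgroup with the elements of odd prime order contains those of order ten. -/
theorem mem_of_ten {N : Subgroup G} [N.Normal] (hi : N.index = 2) {g : G} (hg : orderOf g = 10) : g ∈ N := by
  haveI : Fact (Nat.Prime 5) := ⟨by norm_num⟩
  set x := g ^ 2 with hxd
  have hx : orderOf x = 5 := by
    rw [hxd, orderOf_pow' _ two_ne_zero, hg]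
    norm_num
  set C := centralizer ({x} : Set G) with hC
  have hgC : g ∈ C := mem_centralizer_singleton_iff.2 (by rw [hxd]; exact (Commute.self_pow g 2).eq)
  have hcard := h.cent5 hx
  rw [← hC] at hcard
  have hsub : ∀ c : C, (orderOf c).Coprime 2 → c ∈ N.subgroupOf C := fun c hc => by
    rw [mem_subgroupOf]
    exact h.mem_of_coprime (by rw [hi, Subgroup.orderOf_coe]; exact hc)
  obtain ⟨-, k3⟩ := h.c5x hx
  rw [← hC] at k3
  have hle : Nat.card {c : C // c ∈ N.subgroupOf C} ≥ 13 := by
    classical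
    haveI := Fintype.ofFinite C
    have h1 : cnt C 3 + cnt C 5 + cnt C 1 ≤ Nat.card {c : C // c ∈ N.subgroupOf C} := by
      simp only [cnt, Nat.card_eq_fintype_card, Fintype.card_subtype]
      rw [← Finset.card_union_of_disjoint, ← Finset.card_union_of_disjoint]
      · refine Finset.card_le_card fun c hc => ?_
        simp only [Finset.mem_union, Finset.mem_filter, Finset.mem_univ, true_and] at hc ⊢
        rcases hc with (hc | hc) | hc <;> exact hsub c (by rw [hc]; norm_num)
      all_goals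
        refine Finset.disjoint_left.2 fun c hc hc' => ?_
        simp only [Finset.mem_union, Finset.mem_filter, Finset.mem_univ, true_and] at hc hc'
        omega
    have h5 : 4 ≤ cnt C 5 := by
      have h2 := totient_dvd_cnt (G := ↥C) (m := 5) (by norm_num)
      rw [Nat.totient_prime Fact.out] at h2
      refine Nat.le_of_dvd (Nat.pos_of_ne_zero (h.exists_of_dvd (by rw [hcard]; norm_num))) h2
    rw [k3, cnt_one] at h1
    omega
  have hle' : 13 ≤ Nat.card (N.subgroupOf C) := hle
  have h3 : 3 ∣ Nat.card (N.subgroupOf C) := by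
    obtain ⟨c, hc⟩ := cnt_pos_iff.1 (show cnt C 3 ≠ 0 by omega)
    have hd := (N.subgroupOf C).orderOf_dvd_natCard (hsub c (by rw [hc]; norm_num))
    rwa [hc] at hd
  have h5 : 5 ∣ Nat.card (N.subgroupOf C) := by
    have hxC : x ∈ C := mem_centralizer_singleton_iff.2 rfl
    have hd := (N.subgroupOf C).orderOf_dvd_natCard (hsub ⟨x, hxC⟩ (by
      rw [Subgroup.orderOf_mk, hx]; norm_num))
    rwa [Subgroup.orderOf_mk, hx] at hd
  -- the intersection is normal of index at most two and has too many elements of order three for order thirty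
  have htop : N.subgroupOf C = ⊤ := by
    have hmul := (N.subgroupOf C).index_mul_card
    rw [hcard] at hmul
    have hi2 : (N.subgroupOf C).index ≤ 2 := by
      have := Subgroup.relIndex_dvd_index_of_normal N C
      rw [hi] at this
      exact Nat.le_of_dvd (by norm_num) this
    have hi0 : 0 < (N.subgroupOf C).index := Nat.pos_of_ne_zero index_ne_zero_of_finite
    by_contra hne
    have hi' : (N.subgroupOf C).index = 2 := by
      have : (N.subgroupOf C).index ≠ 1 := fun e => hne (index_eq_one.1 e)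
      omega
    rw [hi'] at hmul
    haveI : Fact (Nat.Prime 3) := ⟨by norm_num⟩
    set D := N.subgroupOf C with hD
    have hDc : Nat.card D = 30 := by omega
    have hD3 : cnt D 3 = 8 := by
      rw [← k3]
      exact Nat.card_congr
        { toFun := fun d => ⟨d.1.1, by rw [Subgroup.orderOf_coe]; exact d.2⟩
          invFun := fun c => ⟨⟨c.1, hsub c.1 (by rw [c.2]; norm_num)⟩, by
            rw [Subgroup.orderOf_mk]; exact c.2⟩
          left_inv := fun _ => rfl
          right_inv := fun _ => rfl }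
    have hf : (Nat.card D).factorization 3 = 1 := by
      rw [hDc, show 30 = 3 ^ 1 * 10 by norm_num, Nat.factorization_mul (by norm_num) (by norm_num),
        Finsupp.add_apply, Nat.Prime.factorization_pow Fact.out, Finsupp.single_eq_same,
        Nat.factorization_eq_zero_of_not_dvd (by norm_num)]
    have hs := CfsgLib.Nse.card_sylow_prime (G := D) hf
    rw [hD3] at hs
    obtain ⟨P⟩ : Nonempty (Sylow 3 D) := inferInstance
    have hd := P.card_dvd_index
    have hii := (P : Subgroup D).index_dvd_card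
    rw [hDc] at hii
    rw [show Nat.card (Sylow 3 D) = 4 by omega] at hd
    exact absurd (hd.trans hii) (by norm_num)
  have : (⟨g, hgC⟩ : C) ∈ N.subgroupOf C := htop ▸ mem_top _
  exact mem_subgroupOf.1 this

theorem normal_modEq {N : Subgroup G} [N.Normal] {p : ℕ} [hp : Fact p.Prime] (hN : ¬ p ∣ Nat.card N)
    {x : G} (hx : orderOf x = p) (hc : Nat.card (centralizer ({x} : Set G)) = p) : Nat.card N % p = 1 := by
  have h1 := CfsgLib.M12Nse.card_modEq_fixed (p := p) (n := 1) (x := x) (by rw [pow_one, ← hx, pow_orderOf_eq_one])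
    (· ∈ N) (fun g => ⟨fun hg => Normal.conj_mem inferInstance g hg x, fun hg => by
      have := Normal.conj_mem (inferInstance : N.Normal) _ hg x⁻¹
      simpa [mul_assoc] using this⟩)
  have h2 : Nat.card {g : G // g ∈ N ∧ g * x = x * g} = 1 := by
    refine Nat.card_eq_one_iff_unique.2 ⟨⟨fun a b => Subtype.ext ?_⟩, ⟨⟨1, N.one_mem, by simp⟩⟩⟩
    have key : ∀ g, g ∈ N → g * x = x * g → g = 1 := fun g hg hgx => by
      have h3 : orderOf g ∣ Nat.card N := orderOf_dvd_natCard _ hg
      have h4 : orderOf g ∣ p := hc ▸ orderOf_dvd_natCard _ (mem_centralizer_singleton_iff.2 hgx)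
      rcases (Nat.dvd_prime hp.out).1 h4 with h5 | h5
      · exact orderOf_eq_one_iff.1 h5
      · exact absurd (h5 ▸ h3) hN
    rw [key _ a.2.1 a.2.2, key _ b.2.1 b.2.2]
  have h3 : Nat.card N ≡ 1 [MOD p] := h2 ▸ h1
  exact Eq.trans h3 (Nat.mod_eq_of_lt hp.out.one_lt)

theorem isSimple : IsSimpleGroup G := by
  haveI : Nontrivial G := (Finite.one_lt_card_iff_nontrivial).1 (by rw [h.card]; norm_num)
  refine ⟨fun N hN => ?_⟩
  haveI := hN
  have hmul := N.index_mul_card
  rw [h.card] at hmul
  have hc : ∀ {a : ℕ}, a.Prime → ¬ a ∣ N.index → a.Coprime N.index := fun ha hd =>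
    ha.coprime_iff_not_dvd.2 hd
  haveI : Fact (Nat.Prime 11) := ⟨by norm_num⟩
  haveI : Fact (Nat.Prime 23) := ⟨by norm_num⟩
  by_cases h23 : 23 ∣ Nat.card N
  · refine Or.inr (index_eq_one.1 ?_)
    have hi : N.index ∣ 10644480 := by
      obtain ⟨k, hk⟩ := h23
      rw [hk] at hmul
      exact ⟨k, by linarith⟩
    have h1 := h.sum_le_of_mem (N := N) {23} (fun g hg => h.mem_of_coprime (by
      rw [Finset.mem_singleton.1 hg]
      exact hc (by norm_num) fun hd => absurd (hd.trans hi) (by norm_num)))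
    rw [Finset.sum_singleton, h.c23] at h1
    have hle : N.index ≤ 11 := by
      by_contra hgt
      nlinarith
    have hi0 : 0 < N.index := Nat.pos_of_ne_zero index_ne_zero_of_finite
    obtain ⟨j, hj⟩ : ∃ j, N.index = j := ⟨_, rfl⟩
    have key : ∀ S : Finset ℕ, (∀ n ∈ S, n.Coprime j) → ∑ n ∈ S, cnt G n ≤ Nat.card N := fun S hS =>
      h.sum_le_of_mem (N := N) S fun g hg => h.mem_of_coprime (hj ▸ hS _ hg)
    have e2 : j = 2 → False := fun hcase => by
      have := h.sum_le_of_mem (N := N) {3, 5, 7, 10, 11, 15, 21, 23} fun g hg => by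
        simp only [Finset.mem_insert, Finset.mem_singleton] at hg
        rcases hg with e | e | e | e | e | e | e | e
        case inr.inr.inr.inl => exact h.mem_of_ten (hj.trans hcase) e
        all_goals exact h.mem_of_coprime (by rw [e, hj, hcase]; norm_num)
      simp [h.c3, h.c5, h.c7, h.c10, h.c11, h.c15, h.c21, h.c23] at this
      rw [hj] at hmul
      subst hcase
      omega
    rw [hj] at hmul hi hle hi0 ⊢
    have e4 : j = 4 ∨ j = 8 → False := fun hcase => by
      have := key {3, 5, 7, 11, 15, 21, 23} (by rcases hcase with rfl | rfl <;> decide)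
      simp [h.c3, h.c5, h.c7, h.c11, h.c15, h.c21, h.c23] at this
      rcases hcase with rfl | rfl <;> omega
    have e3 : j = 3 → False := fun hcase => by
      have := key {2, 5, 7, 10, 11, 14, 23} (by subst hcase; decide)
      simp [h.c2, h.c5, h.c7, h.c10, h.c11, h.c14, h.c23] at this
      subst hcase
      omega
    have e6 : j = 6 ∨ j = 9 → False := fun hcase => by
      have := key {5, 7, 11, 23} (by rcases hcase with rfl | rfl <;> decide)
      simp [h.c5, h.c7, h.c11, h.c23] at this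
      rcases hcase with rfl | rfl <;> omega
    have e5 : j = 5 ∨ j = 10 → False := fun hcase => by
      have := key {7, 11, 23} (by rcases hcase with rfl | rfl <;> decide)
      simp [h.c7, h.c11, h.c23] at this
      rcases hcase with rfl | rfl <;> omega
    have e7 : j = 7 → False := fun hcase => by
      have := key {11, 23} (by subst hcase; decide)
      simp [h.c11, h.c23] at this
      subst hcase
      omega
    have e11 : j = 11 → False := fun hcase => by
      have := key {15, 23} (by subst hcase; decide)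
      simp [h.c15, h.c23] at this
      subst hcase
      omega
    by_contra hne
    rcases (show j = 2 ∨ j = 3 ∨ j = 4 ∨ j = 5 ∨ j = 6 ∨ j = 7 ∨ j = 8 ∨ j = 9 ∨ j = 10 ∨ j = 11 by omega) with
      e | e | e | e | e | e | e | e | e | e
    exacts [e2 e, e3 e, e4 (by omega), e5 (by omega), e6 (by omega), e7 e, e4 (by omega),
      e6 (by omega), e5 (by omega), e11 e]
  · refine Or.inl (card_eq_one.1 ?_)
    have hj : Nat.card N ∣ 10644480 := by
      have h1 : Nat.card N ∣ 10644480 * 23 := ⟨N.index, by linarith⟩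
      exact ((Nat.Prime.coprime_iff_not_dvd Fact.out).2 h23).symm.dvd_of_dvd_mul_right h1
    obtain ⟨y, hy⟩ := cnt_pos_iff.1 (show cnt G 23 ≠ 0 by rw [h.c23]; norm_num)
    have h1 := h.normal_modEq h23 hy (h.cent23 hy)
    by_cases h11 : 11 ∣ Nat.card N
    · exfalso
      have hi : ¬ 11 ∣ N.index := fun hd => by
        obtain ⟨a, ha⟩ := h11; obtain ⟨b, hb⟩ := hd
        rw [ha, hb] at hmul
        have : 121 ∣ 244823040 := ⟨a * b, by linarith⟩
        revert this; norm_num
      have h2 := h.sum_le_of_mem (N := N) {11} (fun g hg => h.mem_of_coprime (by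
        rw [Finset.mem_singleton.1 hg]; exact hc (by norm_num) hi))
      rw [Finset.sum_singleton, h.c11] at h2
      have := Nat.le_of_dvd (by norm_num) hj
      omega
    · obtain ⟨x, hx⟩ := cnt_pos_iff.1 (show cnt G 11 ≠ 0 by rw [h.c11]; norm_num)
      have h2 := h.normal_modEq h11 hx (h.cent11 hx)
      have hj' : Nat.card N ∣ 967680 :=
        ((Nat.Prime.coprime_iff_not_dvd Fact.out).2 h11).symm.dvd_of_dvd_mul_right
          (show Nat.card N ∣ 967680 * 11 from hj)
      have h3 : Nat.card N % 253 = 1 := by omega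
      have hk : ((List.range 3830).all fun k =>
          !(Nat.beq (967680 % (k * 253 + 1)) 0) || Nat.beq k 0) = true := by decide +kernel
      have := Nat.le_of_dvd (by norm_num) hj'
      have h4 := List.all_eq_true.1 hk (Nat.card N / 253) (List.mem_range.2 (by omega))
      rw [show Nat.card N / 253 * 253 + 1 = Nat.card N by omega, Nat.mod_eq_zero_of_dvd hj'] at h4
      have h5 : Nat.card N / 253 = 0 := Nat.eq_of_beq_eq_true (by simpa using h4)
      omega

/-- The local data. -/
theorem local_data : Local G where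
  simple := h.isSimple
  card := h.card
  five _ hy := h.cent5 hy
  five_norm _ hy := h.norm5 hy
  five_two y hy := (cnt_centralizer y 2).symm.trans (h.c5x hy).1
  five_three y hy := (cnt_centralizer y 3).symm.trans (h.c5x hy).2
  seven _ hy := h.cent7 hy
  seven_norm _ hy := h.norm7 hy
  seven_two y hy := (cnt_centralizer y 2).symm.trans (h.c7x hy).1
  seven_three y hy := (cnt_centralizer y 3).symm.trans (h.c7x hy).2
  eleven _ hy := h.cent11 hy
  eleven_norm _ hy := h.norm11 hy
  twentyThree _ hy := h.cent23 hy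
  two_count := h.c2
  three_count := h.c3
  six_count := h.c6
  no_nine := h.c9

end Nse

theorem cval_values : (∀ n ∈ Model.ords, Model.cval n ∈ valSet) ∧
    ∀ v ∈ valSet, ∃ n ∈ Model.ords, Model.cval n = v := by decide +kernel

theorem cval_zero (n : ℕ) : n ∈ Model.ords ∨ Model.cval n = 0 := by
  by_cases hn : n ∈ Model.ords
  · exact Or.inl hn
  · right
    have h := Model.sum_cnt_le (G := Cfsg.M24) (insert n Model.ords)
    rw [Finset.sum_insert hn, CfsgLib.Golay.card_M24] at h
    simp only [Model.cnt_model] at h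
    rw [Model.sum_cval] at h
    omega

/-- The order and the set of values of the counting function give the local data. -/
theorem local_of_nse (hcard : Nat.card G = Nat.card Cfsg.M24)
    (hnse : {c : ℕ | 0 < c ∧ ∃ n : ℕ, c = Nat.card {g : G // orderOf g = n}} =
      {c : ℕ | 0 < c ∧ ∃ n : ℕ, c = Nat.card {g : ↥Cfsg.M24 // orderOf g = n}}) : Local G := by
  refine Nse.local_data ⟨hcard.trans CfsgLib.Golay.card_M24, fun n hn => ?_, fun v hv => ?_⟩
  · have h1 : cnt G n ∈ {c : ℕ | 0 < c ∧ ∃ m : ℕ, c = Nat.card {g : G // orderOf g = m}} :=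
      ⟨Nat.pos_of_ne_zero hn, n, rfl⟩
    rw [hnse] at h1
    obtain ⟨h0, m, hm⟩ := h1
    change cnt G n = cnt Cfsg.M24 m at hm
    rw [Model.cnt_model] at hm
    rcases cval_zero m with h | h
    · exact hm ▸ cval_values.1 m h
    · omega
  · obtain ⟨m, -, hm⟩ := cval_values.2 v hv
    have h0 : 0 < v := Nat.pos_of_ne_zero ((by decide : ∀ v ∈ valSet, v ≠ 0) v hv)
    have h1 : v ∈ {c : ℕ | 0 < c ∧ ∃ m : ℕ, c = Nat.card {g : ↥Cfsg.M24 // orderOf g = m}} :=
      ⟨h0, m, by rw [← hm, ← Model.cnt_model]; rfl⟩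
    rw [← hnse] at h1
    obtain ⟨-, n, hn⟩ := h1
    exact ⟨n, hn.symm⟩

end CfsgLib.M24Nse
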