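import Cfsg.Agent.M24Nse.Uniserial
import Cfsg.Agent.HeldU.Frame.ToModel
import Cfsg.Agent.Trichotomy.Main
import Cfsg.Agent.Trichotomy.RowsAssembly

/-!
# A simple group of order 244823040 with involution centralizer `2^(1+6).L3(2)`
-/

set_option autoImplicit false

namespace CfsgLib.M24Nse

open CfsgLib.HeldMod

/-- The centralizer is the model: there is a frame. -/
theorem exists_frame_of_cent {G : Type*} [Group G] [Finite G] [IsSimpleGroup G]
    (hG : Nat.card G = 244823040) (t : G) (ht : orderOf t = 2)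
    (Q : Subgroup (Subgroup.centralizer ({t} : Set G))) [Q.Normal] (hQ : Cfsg.IsExtraspecial 2 Q)
    (hcard : Nat.card Q = 2 ^ 7)
    (h2c : Subgroup.centralizer (Q : Set (Subgroup.centralizer ({t} : Set G))) ≤ Q)
    (e : (Subgroup.centralizer ({t} : Set G)) ⧸ Q ≃* Matrix.SpecialLinearGroup (Fin 3) (ZMod 2)) :
    Nonempty (CfsgLib.HeldUniq.Frame t) := by
  have hC : Nat.card (Subgroup.centralizer ({t} : Set G)) = 21504 := by
    rw [Subgroup.card_eq_card_quotient_mul_card_subgroup Q, Nat.card_congr e.toEquiv, l32_card, hcard]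
    norm_num
  obtain ⟨K, s, r, w₀, hg⟩ := exists_gens ht Q hQ hcard h2c e
  obtain ⟨w, hw, hgen⟩ := normalise K hg
  rcases hw with hw | hw | hw
  · obtain ⟨E₁, E₂, n1, n2, a1, a2, c1, c2, hmeet, hjoin⟩ := split_pair K hg.s_T hw hgen
    have sq : ∀ {E : Subgroup (Subgroup.centralizer ({t} : Set G))}, Cfsg.IsElementaryAbelian 2 E →
        ∀ x ∈ E, x * x = 1 := fun hE x hx => by
      rw [← sq]
      exact hE.2 x hx
    exact CfsgLib.HeldC.frame_of_pieces ht rfl
      (CfsgLib.HeldC.pieces_of ht Q hQ h2c e n1 n2 (sq a1) (sq a2) c1 c2 _ rfl hmeet hjoin)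
  · exact (not_uniserial ht hG hC (D := dat1) ⟨dat1_ok, hg.s_T, hw, hgen⟩).elim
  · exact (not_uniserial ht hG hC (D := dat2) ⟨dat2_ok, hg.s_T, hw, hgen⟩).elim

/-- Such a group is the Mathieu group. -/
theorem iso_m24_of_cent {G : Type*} [Group G] [Finite G] [IsSimpleGroup G]
    (hG : Nat.card G = 244823040) (t : G) (ht : orderOf t = 2)
    (Q : Subgroup (Subgroup.centralizer ({t} : Set G))) [Q.Normal] (hQ : Cfsg.IsExtraspecial 2 Q)
    (hcard : Nat.card Q = 2 ^ 7)
    (h2c : Subgroup.centralizer (Q : Set (Subgroup.centralizer ({t} : Set G))) ≤ Q)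
    (e : (Subgroup.centralizer ({t} : Set G)) ⧸ Q ≃* Matrix.SpecialLinearGroup (Fin 3) (ZMod 2)) :
    Nonempty (G ≃* Cfsg.M24) := by
  obtain ⟨F⟩ := exists_frame_of_cent hG t ht Q hQ hcard h2c e
  rcases Trichotomy.three_of_tetra (Trichotomy.main F (Trichotomy.not_patNone_of_simple F)) with
    ⟨⟨f⟩⟩ | h | ⟨⟨f⟩⟩
  · have h := Nat.card_congr f.toEquiv
    rw [hG, Trichotomy.L5.card_SL5] at h
    norm_num at h
  · exact h
  · have h := Nat.card_congr f.toEquiv
    rw [hG, Coset.He.card_and_injective.1] at h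
    norm_num at h

end CfsgLib.M24Nse
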