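import Cfsg.Agent.M24Nse.Tools

/-!
The classes of involutions: those commuting with elements of order five and with elements of order seven.
An involution inverting an element of order eleven commutes with an element of order five, and the
pairs of such involutions with a product of order eleven fix the centraliser order 7680.
-/

set_option autoImplicit false
set_option linter.style.haveILetI false
set_option linter.unusedSectionVars false

namespace CfsgLib.M24Nse

open Subgroup CfsgLib.ThreeCounts CfsgLib.M12Nse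

universe u

theorem eq_of_mem_zpowers_two {H : Type*} [Group H] {b x : H} (hb : orderOf b = 2) (hx : x ∈ zpowers b)
    (h1 : x ≠ 1) : x = b := by
  obtain ⟨k, rfl⟩ := mem_zpowers_iff.1 hx
  rw [← zpow_mod_orderOf, hb] at h1 ⊢
  rcases Int.emod_two_eq_zero_or_one k with e | e
  · rw [Nat.cast_ofNat, e, zpow_zero] at h1; exact absurd rfl h1
  · rw [Nat.cast_ofNat, e, zpow_one]

namespace Local

variable {G : Type u} [Group G] [Finite G] (h : Local G)
include h

theorem conj_within_seven {y t t' : G} (hy : orderOf y = 7) (ht : orderOf t = 2) (ht' : orderOf t' = 2)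
    (hc : t * y = y * t) (hc' : t' * y = y * t') : IsConj t t' := by
  haveI : Fact (Nat.Prime 2) := ⟨Nat.prime_two⟩
  have hk : (Nat.card (cz y)).factorization 2 = 1 := by
    rw [show Nat.card (cz y) = 2 * 21 from h.seven y hy, Nat.factorization_mul (by norm_num) (by norm_num),
      Finsupp.add_apply, Nat.prime_two.factorization_self, Nat.factorization_eq_zero_of_not_dvd (by norm_num)]
  let a : cz y := ⟨t, mem_cz.2 hc⟩
  let b : cz y := ⟨t', mem_cz.2 hc'⟩
  have ha : orderOf a = 2 := by rw [← Subgroup.orderOf_coe]; exact ht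
  have hb : orderOf b = 2 := by rw [← Subgroup.orderOf_coe]; exact ht'
  obtain ⟨g, hg⟩ := exists_conj_mem hk ha hb
  exact isConj_iff.2 ⟨g.1, congrArg Subtype.val (eq_of_mem_zpowers_two hb hg (fun e => by
    rw [conj_eq_one_iff.1 e, orderOf_one] at ha; norm_num at ha))⟩

/-- Involutions commuting with elements of order seven are conjugate. -/
theorem isConj_seven {t t' y y' : G} (ht : orderOf t = 2) (ht' : orderOf t' = 2) (hy : orderOf y = 7)
    (hy' : orderOf y' = 7) (hc : t * y = y * t) (hc' : t' * y' = y' * t') : IsConj t t' := by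
  haveI : Fact (Nat.Prime 7) := ⟨by norm_num⟩
  obtain ⟨g, hg⟩ := exists_conj_mem h.fac7 hy' hy
  refine (h.conj_within_seven hy ht (t' := g * t' * g⁻¹) ?_ hc ?_).trans (isConj_iff.2 ⟨g⁻¹, by group⟩)
  · exact ((MulAut.conj g).orderOf_eq t').trans ht'
  · refine commute_of_mem_zpowers hy hg ?_ ?_
    · intro e
      rw [conj_eq_one_iff.1 e, orderOf_one] at hy'
      norm_num at hy'
    · calc g * t' * g⁻¹ * (g * y' * g⁻¹) = g * (t' * y') * g⁻¹ := by group
        _ = g * (y' * t') * g⁻¹ := by rw [hc']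
        _ = _ := by group

theorem conj_within_five {y t t' : G} (hy : orderOf y = 5) (ht : orderOf t = 2) (ht' : orderOf t' = 2)
    (hc : t * y = y * t) (hc' : t' * y = y * t') : IsConj t t' := by
  classical
  haveI : Fact (Nat.Prime 3) := ⟨Nat.prime_three⟩
  by_contra hne
  have hC : Nat.card (cz y) = 60 := h.five y hy
  set a : cz y := ⟨t, mem_cz.2 hc⟩ with hadef
  set b : cz y := ⟨t', mem_cz.2 hc'⟩ with hbdef
  have h2 : Nat.card {g : cz y // orderOf g = 2} = 3 :=
    (show cnt ↥(cz y) 2 = 3 by rw [cnt_cz]; exact h.five_two y hy)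
  haveI := Fintype.ofFinite {g : cz y // orderOf g = 2}
  -- an element of order three fixes the first involution
  have hfix : ∀ (s : cz y) (v : cz y), orderOf s = 3 → orderOf v = 2 →
      (∃ w : cz y, orderOf w = 2 ∧ ¬ IsConj (v : G) (w : G)) → s * v = v * s := by
    intro s v hs hv ⟨w, hw, hvw⟩
    by_contra hsv
    have h3 : s ^ 3 = 1 := hs ▸ pow_orderOf_eq_one s
    have o : ∀ c : cz y, orderOf (c * v * c⁻¹) = 2 := fun c => ((MulAut.conj c).orderOf_eq v).trans hv
    let f : Fin 4 → {g : cz y // orderOf g = 2} :=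
      ![⟨v, hv⟩, ⟨s * v * s⁻¹, o s⟩, ⟨s * s * v * (s * s)⁻¹, o _⟩, ⟨w, hw⟩]
    have hinj : Function.Injective f := by
      have n1 : s * v * s⁻¹ ≠ v := fun e => hsv (mul_inv_eq_iff_eq_mul.1 e)
      have n2 : s * s * v * (s * s)⁻¹ ≠ v := fun e => n1 (by
        calc s * v * s⁻¹ = s * (s * s * v * (s * s)⁻¹) * s⁻¹ := by rw [e]
          _ = s ^ 3 * v * (s ^ 3)⁻¹ := by simp only [pow_succ, pow_zero, one_mul, mul_inv_rev, mul_assoc]
          _ = v := by rw [h3]; simp)
      have n3 : s * v * s⁻¹ ≠ s * s * v * (s * s)⁻¹ := fun e => n1 (by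
        have := congrArg (fun x => s⁻¹ * x * s) e
        simpa [mul_assoc] using this.symm)
      have nw : ∀ c : cz y, c * v * c⁻¹ ≠ w := fun c e => hvw (isConj_iff.2 ⟨c.1, congrArg Subtype.val e⟩)
      have nw0 : v ≠ w := fun e => hvw (by rw [e])
      intro i j e
      have e' : (f i).1 = (f j).1 := congrArg Subtype.val e
      have m2 := nw (s * s)
      have m1 := nw s
      fin_cases i <;> fin_cases j <;>
        first
          | rfl
          | exact absurd e' n1 | exact absurd e'.symm n1 | exact absurd e' n2 | exact absurd e'.symm n2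
          | exact absurd e' n3 | exact absurd e'.symm n3 | exact absurd e' m1 | exact absurd e'.symm m1
          | exact absurd e' m2 | exact absurd e'.symm m2 | exact absurd e' nw0 | exact absurd e'.symm nw0
    have := Fintype.card_le_of_injective f hinj
    rw [Fintype.card_fin, ← Nat.card_eq_fintype_card, h2] at this
    omega
  have ha : orderOf a = 2 := by rw [← Subgroup.orderOf_coe]; exact ht
  have hb : orderOf b = 2 := by rw [← Subgroup.orderOf_coe]; exact ht'
  have fa : ∀ s : cz y, orderOf s = 3 → s * a = a * s := fun s hs => hfix s a hs ha ⟨b, hb, hne⟩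
  have fb : ∀ s : cz y, orderOf s = 3 → s * b = b * s := fun s hs => hfix s b hs hb ⟨a, ha, fun e => hne e.symm⟩
  have hab : a ≠ b := fun e => hne (by rw [show t = t' from congrArg Subtype.val e])
  -- the elements of order three of the centraliser are central in it
  have h8 : cnt ↥(cz y) 3 = 8 := by rw [cnt_cz]; exact h.five_three y hy
  have hyc : (⟨y, mem_cz.2 rfl⟩ : cz y) ∈ Subgroup.center (cz y) :=
    mem_center_iff.2 fun g => Subtype.ext (mem_cz.1 g.2)
  have hcen : ∀ s : cz y, orderOf s = 3 → s ∈ Subgroup.center (cz y) := by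
    intro s hs
    have d3 : 3 ∣ Nat.card (cz s) := hs ▸ dvd_cz_of_commute rfl
    have d5 : 5 ∣ Nat.card (cz s) := by
      have := dvd_cz_of_commute (a := s) ((mem_center_iff.1 hyc s).symm)
      rwa [← Subgroup.orderOf_coe (⟨y, mem_cz.2 rfl⟩ : cz y), hy] at this
    have d4 : 4 ∣ Nat.card (cz s) := by
      haveI : Fact (Nat.Prime 2) := ⟨Nat.prime_two⟩
      by_contra h4
      have d2 : 2 ∣ Nat.card (cz s) := ha ▸ dvd_cz_of_commute (fa s hs).symm
      have hk : (Nat.card (cz s)).factorization 2 = 1 := by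
        refine le_antisymm ?_ ((Nat.prime_two.dvd_iff_one_le_factorization Nat.card_pos.ne').1 d2)
        by_contra hle
        exact h4 ((Nat.prime_two.pow_dvd_iff_le_factorization (k := 2) Nat.card_pos.ne').2 (by omega))
      -- both involutions lie in the centraliser, hence are conjugate
      let a' : cz s := ⟨a, mem_cz.2 (fa s hs).symm⟩
      let b' : cz s := ⟨b, mem_cz.2 (fb s hs).symm⟩
      obtain ⟨g, hg⟩ := exists_conj_mem hk (x := a') (y := b')
        (by rw [← Subgroup.orderOf_coe]; exact ha) (by rw [← Subgroup.orderOf_coe]; exact hb)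
      refine hne (isConj_iff.2 ⟨g.1.1, congrArg (fun v : cz s => ((v : cz y) : G))
        (eq_of_mem_zpowers_two (by rw [← Subgroup.orderOf_coe]; exact hb) hg fun e => ?_)⟩)
      have e2 : a = 1 := congrArg Subtype.val (conj_eq_one_iff.1 e)
      rw [e2, orderOf_one] at ha
      norm_num at ha
    have h60 : 60 ∣ Nat.card (cz s) :=
      Nat.Coprime.mul_dvd_of_dvd_of_dvd (by norm_num) (Nat.Coprime.mul_dvd_of_dvd_of_dvd (by norm_num) d4 d3) d5
    have : cz s = ⊤ := Subgroup.eq_top_of_le_card _ (by rw [hC]; exact Nat.le_of_dvd Nat.card_pos h60)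
    exact mem_center_iff.2 fun g => mem_cz.1 (this ▸ mem_top g)
  obtain ⟨s, hs⟩ := cnt_pos_iff.1 (show cnt ↥(cz y) 3 ≠ 0 by rw [h8]; norm_num)
  have hk3 : (Nat.card (cz y)).factorization 3 = 1 := by
    rw [hC, show 60 = 3 * 20 by norm_num, Nat.factorization_mul (by norm_num) (by norm_num),
      Finsupp.add_apply, Nat.prime_three.factorization_self, Nat.factorization_eq_zero_of_not_dvd (by norm_num)]
  have hall : ∀ r : cz y, orderOf r = 3 → r ∈ zpowers s := by
    intro r hr
    obtain ⟨g, hg⟩ := exists_conj_mem hk3 hr hs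
    rwa [mem_center_iff.1 (hcen r hr) g, mul_inv_cancel_right] at hg
  have hle : cnt ↥(cz y) 3 ≤ Nat.card (zpowers s) :=
    Nat.card_le_card_of_injective (fun r => (⟨r.1, hall r.1 r.2⟩ : zpowers s))
      fun p q e => Subtype.ext (congrArg Subtype.val e :)
  rw [h8, Nat.card_zpowers, hs] at hle
  omega

/-- Involutions commuting with elements of order five are conjugate. -/
theorem isConj_five {t t' y y' : G} (ht : orderOf t = 2) (ht' : orderOf t' = 2) (hy : orderOf y = 5)
    (hy' : orderOf y' = 5) (hc : t * y = y * t) (hc' : t' * y' = y' * t') : IsConj t t' := by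
  haveI : Fact (Nat.Prime 5) := ⟨by norm_num⟩
  obtain ⟨g, hg⟩ := exists_conj_mem h.fac5 hy' hy
  refine (h.conj_within_five hy ht (t' := g * t' * g⁻¹) ?_ hc ?_).trans (isConj_iff.2 ⟨g⁻¹, by group⟩)
  · exact ((MulAut.conj g).orderOf_eq t').trans ht'
  · refine commute_of_mem_zpowers hy hg ?_ ?_
    · intro e
      rw [conj_eq_one_iff.1 e, orderOf_one] at hy'
      norm_num at hy'
    · calc g * t' * g⁻¹ * (g * y' * g⁻¹) = g * (t' * y') * g⁻¹ := by group
        _ = g * (y' * t') * g⁻¹ := by rw [hc']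
        _ = _ := by group

/-- An element of order eleven is inverted by an involution commuting with an element of order five. -/
theorem exists_inverting {w : G} (hw : orderOf w = 11) :
    ∃ s y : G, orderOf s = 2 ∧ s * w * s⁻¹ = w⁻¹ ∧ orderOf y = 5 ∧ s * y = y * s := by
  haveI : Fact (Nat.Prime 2) := ⟨Nat.prime_two⟩
  haveI : Fact (Nat.Prime 5) := ⟨by norm_num⟩
  have hw11 : w ^ 11 = 1 := hw ▸ pow_orderOf_eq_one w
  have hN := h.eleven_norm w hw
  have hC := h.eleven w hw
  have hCz : cz w = zpowers w := (Subgroup.eq_of_le_of_card_ge (zpowers_le.2 (mem_cz.2 rfl))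
    (by rw [Nat.card_zpowers, hw]; exact hC.le)).symm
  -- the exponent of an element of the normaliser
  have hexp : ∀ g ∈ normalizer (zpowers w : Set G), ∃ i < 11, g * w * g⁻¹ = w ^ i := fun g hg => by
    obtain ⟨k, hk⟩ := mem_zpowers_iff.1 ((mem_normalizer_iff.1 hg w).1 (mem_zpowers w))
    refine ⟨(k % 11).toNat, by omega, ?_⟩
    rw [← hk, ← zpow_natCast w, Int.toNat_of_nonneg (by omega), ← zpow_mod_orderOf w k, hw]
    rfl
  have hpow : ∀ {g : G} {i : ℕ}, g * w * g⁻¹ = w ^ i → ∀ n, g * w ^ n * g⁻¹ = w ^ (i * n) := fun hi n => by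
    rw [← conj_pow, hi, ← pow_mul]
  have hnot : ∀ {g : G} {p : ℕ}, orderOf g = p → p = 2 ∨ p = 5 → g * w * g⁻¹ ≠ w := fun hg hp e => by
    have := dvd_cz_of_commute (mul_inv_eq_iff_eq_mul.1 e)
    rw [hg, hC] at this
    rcases hp with rfl | rfl <;> norm_num at this
  obtain ⟨⟨s, hsN⟩, hs⟩ := exists_prime_orderOf_dvd_card' (G := normalizer (zpowers w : Set G)) 2
    (by rw [hN]; norm_num)
  obtain ⟨⟨y, hyN⟩, hy⟩ := exists_prime_orderOf_dvd_card' (G := normalizer (zpowers w : Set G)) 5
    (by rw [hN]; norm_num)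
  rw [Subgroup.orderOf_mk] at hs hy
  have hs1 : s * s = 1 := by rw [← sq, ← hs, pow_orderOf_eq_one]
  have hy5 : y ^ 5 = 1 := hy ▸ pow_orderOf_eq_one y
  -- the involution inverts
  obtain ⟨i, hi11, hi⟩ := hexp s hsN
  have hsinv : s * w * s⁻¹ = w⁻¹ := by
    have e : w ^ (i * i) = w ^ 1 := by
      rw [← hpow hi i, ← hi, pow_one]
      calc s * (s * w * s⁻¹) * s⁻¹ = (s * s) * w * (s * s)⁻¹ := by group
        _ = w := by rw [hs1]; simp
    rw [pow_eq_pow_iff_modEq, hw] at e
    have hi' : i = 1 ∨ i = 10 := by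
      interval_cases i <;> revert e <;> decide
    rcases hi' with rfl | rfl
    · exact absurd (hi.trans (pow_one w)) (hnot hs (Or.inl rfl))
    · rw [hi, eq_inv_iff_mul_eq_one, ← pow_succ]
      exact hw11
  obtain ⟨j, hj11, hj⟩ := hexp y hyN
  set f := s * y with hf
  have hfw : ∀ n, f * w ^ n * f⁻¹ = (w ^ (j * n))⁻¹ := fun n => by
    calc f * w ^ n * f⁻¹ = s * (y * w ^ n * y⁻¹) * s⁻¹ := by rw [hf]; group
      _ = s * w ^ (j * n) * s⁻¹ := by rw [hpow hj]
      _ = (w⁻¹) ^ (j * n) := by rw [← conj_pow, hsinv]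
      _ = _ := inv_pow w _
  have hfi : ∀ n, f * (w ^ n)⁻¹ * f⁻¹ = w ^ (j * n) := fun n => by
    rw [show f * (w ^ n)⁻¹ * f⁻¹ = (f * w ^ n * f⁻¹)⁻¹ by group, hfw, inv_inv]
  have hy2 : ∀ n, y * y * w ^ n * (y * y)⁻¹ = w ^ (j * (j * n)) := fun n => by
    calc y * y * w ^ n * (y * y)⁻¹ = y * (y * w ^ n * y⁻¹) * y⁻¹ := by group
      _ = _ := by rw [hpow hj, hpow hj]
  have hf2 : ∀ n, f * f * w ^ n * (f * f)⁻¹ = w ^ (j * (j * n)) := fun n => by
    calc f * f * w ^ n * (f * f)⁻¹ = f * (f * w ^ n * f⁻¹) * f⁻¹ := by group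
      _ = _ := by rw [hfw, hfi]
  have hy5w : w ^ (j * (j * (j * (j * (j * 1))))) = w := by
    rw [← hpow hj, ← hpow hj, ← hpow hj, ← hpow hj, ← hpow hj, pow_one]
    calc y * (y * (y * (y * (y * w * y⁻¹) * y⁻¹) * y⁻¹) * y⁻¹) * y⁻¹ = y ^ 5 * w * (y ^ 5)⁻¹ := by
          simp only [pow_succ, pow_zero, one_mul, mul_inv_rev, mul_assoc]
      _ = w := by rw [hy5]; simp
  have h5 : f ^ 5 * w * (f ^ 5)⁻¹ = w⁻¹ := by
    calc f ^ 5 * w * (f ^ 5)⁻¹ = f * ((f * f) * ((f * f) * w ^ 1 * (f * f)⁻¹) * (f * f)⁻¹) * f⁻¹ := by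
          rw [pow_one]; simp only [pow_succ, pow_zero, one_mul, mul_inv_rev, mul_assoc]
      _ = (w ^ (j * (j * (j * (j * (j * 1))))))⁻¹ := by rw [hf2, hf2, hfw]
      _ = w⁻¹ := by rw [hy5w]
  have hne5 : w⁻¹ ≠ w := fun e => by
    have : w ^ 2 = 1 := by rw [sq]; exact inv_eq_iff_mul_eq_one.1 e
    have := orderOf_dvd_of_pow_eq_one this
    rw [hw] at this
    norm_num at this
  have h10c : f ^ 10 * w * (f ^ 10)⁻¹ = w := by
    calc f ^ 10 * w * (f ^ 10)⁻¹ = f ^ 5 * (f ^ 5 * w * (f ^ 5)⁻¹) * (f ^ 5)⁻¹ := by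
          rw [show f ^ 10 = f ^ 5 * f ^ 5 by rw [← pow_add]]; group
      _ = (f ^ 5 * w * (f ^ 5)⁻¹)⁻¹ := by rw [conj_inv, h5]
      _ = w := by rw [h5, inv_inv]
  have h10 : f ^ 10 = 1 := by
    haveI : Fact (Nat.Prime 11) := ⟨by norm_num⟩
    by_contra hne
    have hmem : f ^ 10 ∈ zpowers w := hCz ▸ mem_cz.2 (mul_inv_eq_iff_eq_mul.1 h10c)
    have hcf : f * w = w * f := commute_of_mem_zpowers hw hmem hne (Commute.self_pow f 10).eq
    have hc5 : f ^ 5 * w * (f ^ 5)⁻¹ = w :=
      mul_inv_eq_iff_eq_mul.2 ((show Commute f w from hcf).pow_left 5).eq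
    exact hne5 (h5.symm.trans hc5)
  refine ⟨f ^ 5, f * f, orderOf_eq_prime (by rw [← pow_mul]; exact h10) ?_, h5,
    orderOf_eq_prime (by rw [← sq, ← pow_mul]; exact h10) ?_, ?_⟩
  · intro e
    rw [e] at h5
    exact hne5 (h5.symm.trans (by simp))
  · intro e
    have e1 := hf2 1
    rw [e, ← hy2, pow_one] at e1
    have hyy : y * y * w * (y * y)⁻¹ = w := e1.symm.trans (by simp)
    refine hnot (g := y * y) (p := 5) (orderOf_eq_prime ?_ ?_) (Or.inr rfl) hyy
    · rw [← sq, ← pow_mul, show 2 * 5 = 5 * 2 from rfl, pow_mul, hy5, one_pow]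
    · intro e'
      have := orderOf_dvd_of_pow_eq_one (show y ^ 2 = 1 by rw [sq]; exact e')
      rw [hy] at this
      norm_num at this
  · exact ((Commute.refl f).mul_right (Commute.refl f)).pow_left 5

/-- A class of involutions commuting with elements of order five has many members. -/
theorem index_sq {t y : G} (ht : orderOf t = 2) (hy : orderOf y = 5) (hc : t * y = y * t) :
    244823040 ≤ (cz t).index * (cz t).index := by
  classical
  choose S Y hS hSw hY hSY using fun w : {w : G // orderOf w = 11} => h.exists_inverting w.2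
  have hcl : ∀ (w : {w : G // orderOf w = 11}) (i : ℕ), IsConj t ((w : G) ^ i * S w * ((w : G) ^ i)⁻¹) := fun w i =>
    (h.isConj_five ht (hS w) hy (hY w) hc (hSY w)).trans (isConj_iff.2 ⟨_, rfl⟩)
  let s' : {w : G // orderOf w = 11} → ℕ → G := fun w i => (w : G) ^ i * S w * ((w : G) ^ i)⁻¹
  have key : ∀ (w : {w : G // orderOf w = 11}) (i : ℕ), s' w i = S w * (((w : G) ^ i)⁻¹ * ((w : G) ^ i)⁻¹) := by
    intro w i
    have e : S w * ((w : G) ^ i)⁻¹ * (S w)⁻¹ = (w : G) ^ i := by
      rw [← inv_pow, ← conj_pow, show S w * (w : G)⁻¹ * (S w)⁻¹ = (S w * w * (S w)⁻¹)⁻¹ by group, hSw, inv_inv]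
    show (w : G) ^ i * S w * ((w : G) ^ i)⁻¹ = _
    conv_lhs => arg 1; arg 1; rw [← e]
    simp only [mul_assoc, inv_mul_cancel_left]
  have hshift : ∀ (w : {w : G // orderOf w = 11}) (i : ℕ), s' w i * w = s' w (i + 5) := by
    intro w i
    rw [key, key, mul_assoc]
    congr 1
    have hw : (w : G) ^ 11 = 1 := by
      have := pow_orderOf_eq_one (w : G)
      rwa [w.2] at this
    calc ((w : G) ^ i)⁻¹ * ((w : G) ^ i)⁻¹ * w
        = ((w : G) ^ i)⁻¹ * ((w : G) ^ i)⁻¹ * w * ((w : G) ^ 11)⁻¹ := by rw [hw]; simp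
      _ = _ := by
        have e1 : (w : G) ^ i = (w : G) ^ (i : ℤ) := (zpow_natCast _ _).symm
        simp only [← zpow_natCast, ← zpow_neg, ← zpow_add, ← zpow_add_one, Nat.cast_add]
        congr 1
        push_cast
        ring
  let F : {w : G // orderOf w = 11} × Fin 11 → {x : G // IsConj t x} × {x : G // IsConj t x} := fun p =>
    (⟨s' p.1 p.2, hcl _ _⟩, ⟨s' p.1 p.2 * p.1, by rw [hshift]; exact hcl _ _⟩)
  have hF : Function.Injective F := by
    rintro ⟨w, i⟩ ⟨w', i'⟩ e
    have e1 : s' w i = s' w' i' := congrArg (fun p => p.1.1) e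
    have e2 : s' w i * (w : G) = s' w' i' * (w' : G) := congrArg (fun p => p.2.1) e
    rw [e1] at e2
    obtain rfl : w = w' := Subtype.ext (mul_left_cancel e2)
    rw [key, key, mul_right_inj, ← mul_inv_rev, ← mul_inv_rev, inv_inj, ← pow_add, ← pow_add,
      pow_eq_pow_iff_modEq, w.2] at e1
    have := i.isLt
    have := i'.isLt
    exact Prod.ext rfl (Fin.ext (show (i : ℕ) = i' by unfold Nat.ModEq at e1; omega))
  have hle := Nat.card_le_card_of_injective F hF
  rw [Nat.card_prod, Nat.card_prod, Nat.card_fin, card_conj,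
    show Nat.card {w : G // orderOf w = 11} = 22256640 from h.cnt11] at hle
  omega

/-- The centraliser of an involution commuting with an element of order five. -/
theorem cz_five {t y : G} (ht : orderOf t = 2) (hy : orderOf y = 5) (hc : t * y = y * t) :
    Nat.card (cz t) = 7680 := by
  haveI : Fact (Nat.Prime 5) := ⟨by norm_num⟩
  haveI : Fact (Nat.Prime 7) := ⟨by norm_num⟩
  have hp := class_pairs (p := 5) (n := 3) ht h.five_two fun t' y' ht' hy' hc' => h.isConj_five ht ht' hy hy' hc hc'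
  rw [h.cnt5] at hp
  set m := cnt ↥(cz t) 5 with hmdef
  have hm0 : m ≠ 0 := fun e => by rw [e, mul_zero] at hp; norm_num at hp
  have hidx := index_eq_div (g := t) rfl
  rw [h.card] at hidx
  have hm : Nat.card (cz t) = 20 * m := by
    have hi : 0 < (cz t).index := Nat.pos_of_ne_zero index_ne_zero_of_finite
    refine Nat.eq_of_mul_eq_mul_left hi ?_
    rw [hidx, mul_left_comm, hp]
    all_goals norm_num
  have hcnt : (cz t).index ≤ 43263 := by
    have := CfsgLib.Nse.index_centralizer_le t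
    rwa [ht, h.two_count] at this
  have hsq := h.index_sq ht hy hc
  have hdvd := h.cz_dvd ht (by norm_num) (by norm_num)
  rw [hm] at hdvd hidx
  have hm1 : m ∣ 48384 := (Nat.mul_dvd_mul_iff_left (show 0 < 20 by norm_num)).1 hdvd
  have hlo : 283 ≤ m := by
    by_contra hlt
    have : (cz t).index * m ≤ 43263 * 282 := Nat.mul_le_mul hcnt (by omega)
    omega
  have hhi : m ≤ 782 := by
    by_contra hlt
    have h1 : 15647 ≤ (cz t).index := by
      by_contra hh
      have : (cz t).index * (cz t).index ≤ 15646 * 15646 := Nat.mul_le_mul (by omega) (by omega)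
      omega
    have : 15647 * 783 ≤ (cz t).index * m := Nat.mul_le_mul h1 (by omega)
    omega
  have hm4 : 4 ∣ m := by
    have := totient_dvd_cnt (G := ↥(cz t)) (m := 5) (by norm_num)
    rwa [Nat.totient_prime (by norm_num)] at this
  have h5 : 5 ∣ m + 1 := by
    have hd : 5 ∣ Nat.card (cz t) := hy ▸ dvd_cz_of_commute hc.symm
    have := CfsgLib.Nse.frob (G := ↥(cz t)) (n := 5) hd
    rwa [(by norm_num : Nat.Prime 5).divisors, Finset.sum_pair (by norm_num), cnt_one, add_comm] at this
  have hcases : m = 384 ∨ m = 504 := by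
    have key : ∀ n ∈ Nat.divisors 48384, 283 ≤ n → n < 783 → n % 4 = 0 → (n + 1) % 5 = 0 →
        n = 384 ∨ n = 504 := by decide +kernel
    exact key m (Nat.mem_divisors.2 ⟨hm1, by norm_num⟩) hlo (by omega) (by omega) (by omega)
  rcases hcases with hm' | hm'
  · rw [hm, hm']
  -- otherwise an element of order seven commutes with the involution
  exfalso
  obtain ⟨v, hv, hvt⟩ := exists_commuting (p := 7) (a := t) (by rw [hm, hm']; norm_num)
  have hq := class_pairs (p := 7) (n := 3) ht h.seven_two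
    fun t' y' ht' hy' hc' => h.isConj_seven ht ht' hv hy' hvt.symm hc'
  rw [h.cnt7] at hq
  have hd : 7 ∣ Nat.card (cz t) := by rw [hm, hm']; norm_num
  have := CfsgLib.Nse.frob (G := ↥(cz t)) (n := 7) hd
  rw [(by norm_num : Nat.Prime 7).divisors, Finset.sum_pair (by norm_num), cnt_one] at this
  rw [hm'] at hidx
  have hi : (cz t).index = 24288 := by omega
  rw [hi] at hq
  omega

/-- The centraliser of an involution commuting with an element of order seven. -/
theorem cz_seven {k y : G} (hk : orderOf k = 2) (hy : orderOf y = 7) (hc : k * y = y * k) :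
    Nat.card (cz k) = 21504 ∨ Nat.card (cz k) = 96768 := by
  haveI : Fact (Nat.Prime 5) := ⟨by norm_num⟩
  haveI : Fact (Nat.Prime 7) := ⟨by norm_num⟩
  have hp := class_pairs (p := 7) (n := 3) hk h.seven_two fun t' y' ht' hy' hc' => h.isConj_seven hk ht' hy hy' hc hc'
  rw [h.cnt7] at hp
  set m := cnt ↥(cz k) 7 with hmdef
  have hidx := index_eq_div (g := k) rfl
  rw [h.card] at hidx
  have hm : Nat.card (cz k) = 7 * m := by
    have hi : 0 < (cz k).index := Nat.pos_of_ne_zero index_ne_zero_of_finite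
    refine Nat.eq_of_mul_eq_mul_left hi ?_
    rw [hidx, mul_left_comm, hp]
    all_goals norm_num
  have h5 : ¬ 5 ∣ Nat.card (cz k) := by
    intro hd
    obtain ⟨v, hv, hvk⟩ := exists_commuting hd
    have e := h.cz_five hk hv hvk.symm
    have := hy ▸ dvd_cz_of_commute hc.symm
    rw [e] at this
    norm_num at this
  -- an involution commuting with an element of order five
  obtain ⟨v, hv⟩ := h.exists_order (p := 5) (by norm_num)
  obtain ⟨⟨t, ht, htv⟩⟩ := (Nat.card_ne_zero.1 (show Nat.card {g : G // orderOf g = 2 ∧ g * v = v * g} ≠ 0 by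
    rw [h.five_two v hv]; norm_num)).1
  have hnc : ¬ IsConj k t := fun e => h5 (by
    rw [← card_cz_conj e]
    exact hv ▸ dvd_cz_of_commute htv.symm)
  have hti : (cz t).index = 31878 := by
    have := index_eq_div (h.cz_five ht hv htv)
    rw [h.card] at this
    omega
  have hsum : (cz k).index + (cz t).index ≤ 43263 := by
    rw [← h.two_count, ← card_conj, ← card_conj, ← Nat.card_sum]
    refine Nat.card_le_card_of_injective (Sum.elim
      (fun x => (⟨x.1, (orderOf_eq_of_isConj x.2).trans hk⟩ : {g : G // orderOf g = 2}))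
      (fun x => ⟨x.1, (orderOf_eq_of_isConj x.2).trans ht⟩)) ?_
    rintro (a | a) (b | b) e <;> simp only [Sum.elim_inl, Sum.elim_inr, Subtype.mk.injEq] at e
    · exact congrArg Sum.inl (Subtype.ext e)
    · exact absurd (a.2.trans (e ▸ b.2.symm)) hnc
    · exact absurd (b.2.trans (e ▸ a.2.symm)) hnc
    · exact congrArg Sum.inr (Subtype.ext e)
  have hlo : 3072 ≤ m := by
    by_contra hlt
    have : (cz k).index * m ≤ 11385 * 3071 := Nat.mul_le_mul (by omega) (by omega)
    omega
  have hd : Nat.card (cz k) ∣ 7 * 27648 := by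
    refine (((Nat.Prime.coprime_iff_not_dvd (by norm_num)).2 h5).symm).dvd_of_dvd_mul_right ?_
    show Nat.card (cz k) ∣ 7 * 27648 * 5
    exact (show 967680 = 7 * 27648 * 5 by norm_num) ▸ h.cz_dvd hk (by norm_num) (by norm_num)
  rw [hm] at hd
  have hm1 : m ∣ 27648 := (Nat.mul_dvd_mul_iff_left (show 0 < 7 by norm_num)).1 hd
  have h7 : 7 ∣ m + 1 := by
    have := CfsgLib.Nse.frob (G := ↥(cz k)) (n := 7) (hy ▸ dvd_cz_of_commute hc.symm)
    rwa [(by norm_num : Nat.Prime 7).divisors, Finset.sum_pair (by norm_num), cnt_one, add_comm] at this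
  have key : m = 3072 ∨ m = 13824 := by
    have hall : ∀ n ∈ Nat.divisors 27648, 3072 ≤ n → (n + 1) % 7 = 0 → n = 3072 ∨ n = 13824 := by decide +kernel
    exact hall m (Nat.mem_divisors.2 ⟨hm1, by norm_num⟩) hlo (by omega)
  rcases key with e | e <;> rw [hm, e] <;> norm_num

/-- There are two classes of involutions, once the smaller centraliser is excluded. -/
theorem inv_cases (hK : ∀ k y : G, orderOf k = 2 → orderOf y = 7 → k * y = y * k → Nat.card (cz k) = 21504)
    {u : G} (hu : orderOf u = 2) :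
    (Nat.card (cz u) = 21504 ∧ ∃ y : G, orderOf y = 7 ∧ u * y = y * u) ∨
      (Nat.card (cz u) = 7680 ∧ ∃ y : G, orderOf y = 5 ∧ u * y = y * u) := by
  haveI : Fact (Nat.Prime 5) := ⟨by norm_num⟩
  haveI : Fact (Nat.Prime 7) := ⟨by norm_num⟩
  by_contra hcon
  push Not at hcon
  obtain ⟨v, hv⟩ := h.exists_order (p := 5) (by norm_num)
  obtain ⟨w, hw⟩ := h.exists_order (p := 7) (by norm_num)
  obtain ⟨⟨t, ht, htv⟩⟩ := (Nat.card_ne_zero.1 (show Nat.card {g : G // orderOf g = 2 ∧ g * v = v * g} ≠ 0 by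
    rw [h.five_two v hv]; norm_num)).1
  obtain ⟨⟨k, hk, hkw⟩⟩ := (Nat.card_ne_zero.1 (show Nat.card {g : G // orderOf g = 2 ∧ g * w = w * g} ≠ 0 by
    rw [h.seven_two w hw]; norm_num)).1
  have hti : (cz t).index = 31878 := by
    have := index_eq_div (h.cz_five ht hv htv)
    rw [h.card] at this
    omega
  have hki : (cz k).index = 11385 := by
    have := index_eq_div (hK k w hk hw hkw)
    rw [h.card] at this
    omega
  have hku : ¬ IsConj k u := fun e => by
    obtain ⟨c, rfl⟩ := isConj_iff.1 e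
    refine hcon.1 (by rw [cz_conj]; exact hK k w hk hw hkw) (c * w * c⁻¹) (((MulAut.conj c).orderOf_eq w).trans hw) ?_
    calc c * k * c⁻¹ * (c * w * c⁻¹) = c * (k * w) * c⁻¹ := by group
      _ = c * (w * k) * c⁻¹ := by rw [hkw]
      _ = _ := by group
  have htu : ¬ IsConj t u := fun e => by
    obtain ⟨c, rfl⟩ := isConj_iff.1 e
    refine hcon.2 (by rw [cz_conj]; exact h.cz_five ht hv htv) (c * v * c⁻¹) (((MulAut.conj c).orderOf_eq v).trans hv) ?_
    calc c * t * c⁻¹ * (c * v * c⁻¹) = c * (t * v) * c⁻¹ := by group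
      _ = c * (v * t) * c⁻¹ := by rw [htv]
      _ = _ := by group
  have hkt : ¬ IsConj k t := fun e => by
    have := card_cz_conj e
    rw [h.cz_five ht hv htv, hK k w hk hw hkw] at this
    norm_num at this
  have hsum : (cz k).index + ((cz t).index + 1) ≤ 43263 := by
    have e0 : Nat.card ({x : G // IsConj k x} ⊕ ({x : G // IsConj t x} ⊕ PUnit.{1})) =
        (cz k).index + ((cz t).index + 1) := by
      rw [Nat.card_sum, Nat.card_sum, card_conj, card_conj, Nat.card_eq_fintype_card (α := PUnit.{1}), Fintype.card_punit]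
    rw [← e0, ← h.two_count]
    refine Nat.card_le_card_of_injective (Sum.elim
      (fun x => (⟨x.1, (orderOf_eq_of_isConj x.2).trans hk⟩ : {g : G // orderOf g = 2}))
      (Sum.elim (fun x => ⟨x.1, (orderOf_eq_of_isConj x.2).trans ht⟩) fun _ => ⟨u, hu⟩)) ?_
    rintro (a | a | a) (b | b | b) e <;> simp only [Sum.elim_inl, Sum.elim_inr, Subtype.mk.injEq] at e
    · exact congrArg Sum.inl (Subtype.ext e)
    · exact absurd (a.2.trans (e ▸ b.2.symm)) hkt
    · exact absurd (e ▸ a.2) hku
    · exact absurd (b.2.trans (e ▸ a.2.symm)) hkt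
    · exact congrArg (Sum.inr ∘ Sum.inl) (Subtype.ext e)
    · exact absurd (e ▸ a.2) htu
    · exact absurd (e ▸ b.2) hku
    · exact absurd (e ▸ b.2) htu
    · rfl
  omega

end Local

end CfsgLib.M24Nse
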