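import Cfsg.Agent.FGSB.ThreeCounts
import Cfsg.Agent.M12Nse.Basic
import Mathlib.GroupTheory.Subgroup.Simple

/-!
Local data of a simple group of order 244823040.
-/

set_option autoImplicit false

namespace CfsgLib.M24Nse

open Subgroup CfsgLib.ThreeCounts

universe u

/-- The local data used in the analysis of a simple group of the order of the largest Mathieu group. -/
structure Local (G : Type u) [Group G] : Prop where
  simple : IsSimpleGroup G
  card : Nat.card G = 244823040
  five : ∀ y : G, orderOf y = 5 → Nat.card (centralizer ({y} : Set G)) = 60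
  five_norm : ∀ y : G, orderOf y = 5 → Nat.card (normalizer (zpowers y : Set G)) = 240
  five_two : ∀ y : G, orderOf y = 5 → Nat.card {g : G // orderOf g = 2 ∧ g * y = y * g} = 3
  five_three : ∀ y : G, orderOf y = 5 → Nat.card {g : G // orderOf g = 3 ∧ g * y = y * g} = 8
  seven : ∀ y : G, orderOf y = 7 → Nat.card (centralizer ({y} : Set G)) = 42
  seven_norm : ∀ y : G, orderOf y = 7 → Nat.card (normalizer (zpowers y : Set G)) = 126
  seven_two : ∀ y : G, orderOf y = 7 → Nat.card {g : G // orderOf g = 2 ∧ g * y = y * g} = 3
  seven_three : ∀ y : G, orderOf y = 7 → Nat.card {g : G // orderOf g = 3 ∧ g * y = y * g} = 2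
  eleven : ∀ y : G, orderOf y = 11 → Nat.card (centralizer ({y} : Set G)) = 11
  eleven_norm : ∀ y : G, orderOf y = 11 → Nat.card (normalizer (zpowers y : Set G)) = 110
  twentyThree : ∀ y : G, orderOf y = 23 → Nat.card (centralizer ({y} : Set G)) = 23
  two_count : cnt G 2 = 43263
  three_count : cnt G 3 = 712448
  six_count : cnt G 6 = 20401920
  no_nine : cnt G 9 = 0

end CfsgLib.M24Nse
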