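import Mathlib.Data.List.Basic

/-!
# Transversal of a point and representatives of the classes in the model
-/

set_option autoImplicit false

namespace CfsgLib.M24Nse.Model

/-- An element moving the point `23` to each point. -/
def baseMoves : List (List Nat) := [
  [23,22,11,15,17,9,19,13,20,5,16,2,21,7,18,3,10,4,14,6,8,12,1,0],
  [23,0,12,16,18,10,20,14,21,6,17,3,22,8,19,4,11,5,15,7,9,13,2,1],
  [23,1,13,17,19,11,21,15,22,7,18,4,0,9,20,5,12,6,16,8,10,14,3,2],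
  [23,2,14,18,20,12,22,16,0,8,19,5,1,10,21,6,13,7,17,9,11,15,4,3],
  [23,0,16,9,2,5,7,11,10,18,19,3,17,13,14,6,22,20,15,21,8,12,1,4],
  [23,1,17,10,3,6,8,12,11,19,20,4,18,14,15,7,0,21,16,22,9,13,2,5],
  [23,18,9,11,22,19,20,15,14,5,4,2,0,12,10,21,8,1,13,16,7,17,3,6],
  [23,19,10,12,0,20,21,16,15,6,5,3,1,13,11,22,9,2,14,17,8,18,4,7],
  [18,0,16,21,5,3,9,2,6,17,15,4,23,1,12,7,14,10,19,20,11,22,13,8],
  [0,22,4,16,15,19,20,21,2,6,8,17,14,18,3,13,23,12,10,1,5,7,11,9],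
  [23,6,7,15,1,12,8,22,14,3,9,21,13,4,18,2,20,0,11,5,17,19,16,10],
  [0,22,7,4,6,2,12,3,1,13,14,17,23,5,8,9,21,19,10,20,16,18,15,11],
  [1,0,8,5,7,3,13,4,2,14,15,18,23,6,9,10,22,20,11,21,17,19,16,12],
  [2,1,9,6,8,4,14,5,3,15,16,19,23,7,10,11,0,21,12,22,18,20,17,13],
  [0,23,20,7,17,13,16,4,8,22,2,15,18,10,1,11,6,12,3,9,21,5,19,14],
  [0,11,18,14,8,21,1,10,23,20,6,9,22,16,12,19,7,13,4,5,2,3,17,15],
  [1,12,19,15,9,22,2,11,23,21,7,10,0,17,13,20,8,14,5,6,3,4,18,16],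
  [0,23,10,5,11,9,13,2,16,14,6,15,4,7,18,19,1,8,3,12,20,21,22,17],
  [23,0,8,13,4,7,10,17,20,1,11,3,14,16,22,2,19,21,15,5,12,9,6,18],
  [23,1,9,14,5,8,11,18,21,2,12,4,15,17,0,3,20,22,16,6,13,10,7,19],
  [23,2,10,15,6,9,12,19,22,3,13,5,16,18,1,4,21,0,17,7,14,11,8,20],
  [22,23,20,9,13,15,7,17,11,18,3,14,0,19,5,16,1,8,2,12,4,6,10,21],
  [0,23,21,10,14,16,8,18,12,19,4,15,1,20,6,17,2,9,3,13,5,7,11,22],
  [0,1,2,3,4,5,6,7,8,9,10,11,12,13,14,15,16,17,18,19,20,21,22,23]]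

/-- A representative. -/
def rep2A : List Nat :=
  [0,1,23,3,4,17,18,11,21,9,20,7,19,13,14,15,22,5,6,12,10,8,16,2]

/-- A representative. -/
def rep2B : List Nat :=
  [23,2,1,17,20,14,12,11,21,16,13,7,6,10,5,22,9,3,19,18,4,8,15,0]

/-- A representative. -/
def rep3A : List Nat :=
  [23,0,6,3,20,10,7,2,9,14,16,4,12,18,8,15,5,13,17,19,11,21,22,1]

/-- A representative. -/
def rep3B : List Nat :=
  [23,3,0,15,19,13,8,9,12,14,5,20,6,10,7,1,22,11,16,21,17,4,18,2]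

/-- A representative. -/
def rep4B : List Nat :=
  [0,1,3,15,4,16,18,13,22,5,14,11,9,7,8,23,12,19,6,21,17,20,10,2]

/-- A representative. -/
def rep4A : List Nat :=
  [2,23,8,0,15,18,5,6,3,19,17,20,22,14,12,4,21,11,7,9,10,16,13,1]

/-- A representative. -/
def rep4C : List Nat :=
  [2,0,23,8,13,12,3,5,15,21,19,9,20,16,11,6,22,18,10,17,7,14,4,1]

/-- A representative. -/
def rep6A : List Nat :=
  [21,23,2,3,19,9,22,20,12,5,15,13,17,1,8,18,7,4,10,14,16,11,6,0]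

/-- A representative. -/
def rep6B : List Nat :=
  [3,0,1,5,10,20,7,18,4,22,11,13,15,17,12,6,21,8,14,16,2,23,19,9]

/-- A representative. -/
def rep8 : List Nat :=
  [13,2,1,3,15,21,16,22,9,14,10,7,17,5,18,19,12,20,8,23,11,4,6,0]

/-- A representative. -/
def rep10 : List Nat :=
  [11,2,0,1,8,3,4,23,19,17,12,15,18,16,22,14,13,9,20,10,7,5,21,6]

/-- A representative. -/
def rep12A : List Nat :=
  [6,0,1,22,21,4,18,14,9,5,17,20,13,7,15,11,2,10,16,3,8,12,23,19]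

/-- A representative. -/
def rep12B : List Nat :=
  [7,0,23,13,22,14,16,18,15,6,21,5,8,10,20,2,11,12,4,3,19,9,17,1]

/-- A representative. -/
def rep14 : List Nat :=
  [2,0,3,5,18,12,14,6,4,17,7,23,8,13,11,22,20,19,9,15,16,10,1,21]

/-- A representative. -/
def rep15 : List Nat :=
  [23,0,2,15,11,10,19,13,16,4,7,12,3,22,9,18,21,1,6,5,17,8,14,20]

/-- A representative. -/
def rep21 : List Nat :=
  [1,3,23,12,7,15,13,11,4,19,6,9,5,20,21,16,8,0,10,14,17,18,2,22]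

end CfsgLib.M24Nse.Model
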