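import Cfsg.Agent.M24Nse.Three
import Cfsg.Agent.ThreePrimes.FourThree
import Cfsg.Agent.S0496

/-!
An involution commuting with an element of order seven does not have centraliser order 96768.

The centraliser modulo its two-core would be a simple group of order 756, 6048 or 48384. The middle one
acts on seven cosets, and in the last one an involution centralises a Sylow three-subgroup, where a
character of three-power degree has an odd value that Burnside's lemma forbids.
-/

set_option autoImplicit false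
set_option linter.style.haveILetI false
set_option linter.unusedSectionVars false
set_option maxHeartbeats 600000

namespace CfsgLib.M24Nse

open Subgroup CfsgLib.ThreeCounts CfsgLib.M12Nse

universe u

/-- A value at an involution of a character of odd degree is not zero. -/
theorem sum_signs_ne_zero (s : Multiset ℂ) (hs : ∀ z ∈ s, z ^ 2 = 1) (hodd : ¬ 2 ∣ s.card) : s.sum ≠ 0 := by
  have key : ∀ s : Multiset ℂ, (∀ z ∈ s, z ^ 2 = 1) → ∃ n : ℤ, s.sum = (s.card : ℂ) - 2 * (n : ℂ) := by
    intro s
    induction s using Multiset.induction_on with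
    | empty => exact fun _ => ⟨0, by simp⟩
    | cons a t ih =>
      intro h
      obtain ⟨n, hn⟩ := ih fun z hz => h z (Multiset.mem_cons_of_mem hz)
      rcases sq_eq_one_iff.1 (h a (Multiset.mem_cons_self a t)) with e | e
      · exact ⟨n, by rw [Multiset.sum_cons, Multiset.card_cons, hn, e]; push_cast; ring⟩
      · exact ⟨n + 1, by rw [Multiset.sum_cons, Multiset.card_cons, hn, e]; push_cast; ring⟩
  intro h0
  obtain ⟨n, hn⟩ := key s hs
  rw [h0] at hn
  have h1 : ((s.card : ℤ) : ℂ) = ((2 * n : ℤ) : ℂ) := by push_cast; linear_combination -hn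
  have h2 : (s.card : ℤ) = 2 * n := Int.cast_injective h1
  exact hodd (Int.natCast_dvd_natCast.1 ⟨n, by rw [h2]; rfl⟩)

open CfsgLib.Char Cfsg in
/-- In a simple group of this order no involution centralises a Sylow three-subgroup. -/
theorem no_big_involution {Q : Type u} [Group Q] [Finite Q] [IsSimpleGroup Q] (hna : ¬ IsMulCommutative Q)
    (hQ : Nat.card Q = 48384) {z : Q} (hz : orderOf z = 2) (P : Subgroup Q) (hP : Nat.card P = 27)
    (hPz : P ≤ centralizer ({z} : Set Q)) : False := by
  classical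
  letI : Fintype Q := Fintype.ofFinite Q
  obtain ⟨χ, hne, k, hk⟩ := CfsgLib.ThreePrimes.exists_prime_power_degree (G := Q) (p := 7) (q := 3) (r := 2)
    (a := 1) (b := 3) (c := 8) (by norm_num) Nat.prime_three Nat.prime_two (by norm_num) (by norm_num) (by norm_num)
    (by rw [hQ]; norm_num)
  obtain ⟨n, ρ, hirr, hρ⟩ := χ.2
  haveI := hirr
  have hn : n = 3 ^ k := by
    have h1 : (χ : Q → ℂ) 1 = (n : ℂ) := by
      rw [← hρ, Representation.char_one, Module.finrank_fintype_fun_eq_card, Fintype.card_fin]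
    rwa [charDegree, h1, Complex.natCast_re, Nat.floor_natCast] at hk
  have hfr : Module.finrank ℂ (Fin n → ℂ) = 3 ^ k := by
    rw [Module.finrank_fintype_fun_eq_card, Fintype.card_fin, hn]
  have hi : (centralizer ({z} : Set Q)).index ∣ 1792 := by
    obtain ⟨j, hj⟩ := card_dvd_of_le hPz
    have h' := (centralizer ({z} : Set Q)).card_mul_index
    rw [hj, hP, hQ] at h'
    exact ⟨j, by linarith⟩
  have hcop : Nat.Coprime (Module.finrank ℂ (Fin n → ℂ)) (centralizer ({z} : Set Q)).index := by
    rw [hfr]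
    exact (Nat.Coprime.pow_left k (show Nat.Coprime 3 1792 by norm_num)).coprime_dvd_right hi
  have hz1 : z ≠ 1 := fun e => by rw [e, orderOf_one] at hz; norm_num at hz
  rcases char_eq_zero_or_norm_eq ρ z hcop with h0 | h0
  · obtain ⟨s, hcard, hs, hsum⟩ := IsCharacter.exists_roots (isCharacter_character ρ) z
    rw [Representation.char_one, hfr] at hcard
    have hc : s.card = 3 ^ k := by exact_mod_cast hcard
    refine sum_signs_ne_zero s (fun w hw => hz ▸ hs w hw) (fun hd => ?_) ?_
    · rw [hc] at hd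
      exact absurd (Nat.prime_two.dvd_of_dvd_pow hd) (by norm_num)
    · have h1 : ρ.character z = s.sum := by simpa using hsum 1
      rw [← h1, h0]
  · refine hne ?_
    rw [← hρ]
    exact eq_one_of_norm_eq_of_simple (fun hc => hna ⟨⟨hc⟩⟩) ρ hz1 h0

namespace Local

variable {G : Type u} [Group G] [Finite G] (h : Local G)
include h

/-- An element of order three does not centralise a commuting pair of orders two and seven. -/
theorem card_pair' {k y : G} (hk : orderOf k = 2) (hy : orderOf y = 7) (hc : k * y = y * k) :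
    Nat.card ↥(cz k ⊓ cz y) = 14 := by
  classical
  haveI : Fact (Nat.Prime 2) := ⟨Nat.prime_two⟩
  haveI : Fact (Nat.Prime 3) := ⟨Nat.prime_three⟩
  have hd : Nat.card ↥(cz k ⊓ cz y) ∣ 42 := h.seven y hy ▸ card_dvd_of_le inf_le_right
  have h14 : 14 ∣ Nat.card ↥(cz k ⊓ cz y) := by
    refine (show Nat.Coprime 2 7 by norm_num).mul_dvd_of_dvd_of_dvd ?_ ?_
    · exact hk ▸ Subgroup.orderOf_dvd_natCard _ ⟨self_mem_cz k, mem_cz.2 hc⟩
    · exact hy ▸ Subgroup.orderOf_dvd_natCard _ ⟨mem_cz.2 hc.symm, self_mem_cz y⟩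
  have h3 : ¬ 3 ∣ Nat.card ↥(cz k ⊓ cz y) := fun h3 => by
    have h42 : Nat.card ↥(cz k ⊓ cz y) = 42 := Nat.dvd_antisymm hd
      ((show Nat.Coprime 3 14 by norm_num).mul_dvd_of_dvd_of_dvd h3 h14)
    have hall : cz k ⊓ cz y = cz y := Subgroup.eq_of_le_of_card_ge inf_le_right (by rw [h42, h.seven y hy])
    let D : Subgroup G := cz y
    let k' : D := ⟨k, mem_cz.2 hc⟩
    have hcen : ∀ g : D, g * k' = k' * g := fun g =>
      Subtype.ext (mem_cz.1 (show (g : G) ∈ cz k ⊓ cz y from hall.symm ▸ g.2).1)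
    haveI hn : (zpowers k').Normal := ⟨fun a ha g => by
      obtain ⟨i, rfl⟩ := mem_zpowers_iff.1 ha
      rw [((show Commute g k' from hcen g).zpow_right i).eq, mul_inv_cancel_right]
      exact zpow_mem (mem_zpowers k') i⟩
    let P : Sylow 2 D := Sylow.ofCard (zpowers k') (by
      rw [Nat.card_zpowers, ← Subgroup.orderOf_coe, show Nat.card D = 42 from h.seven y hy,
        factorization_one (n := 42) Nat.prime_two (show 2 * 21 = 42 by norm_num) (by norm_num), pow_one]
      exact hk)
    haveI : Subsingleton (Sylow 2 D) := by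
      haveI := P.unique_of_normal hn
      infer_instance
    have hle : Nat.card {g : G // orderOf g = 2 ∧ g * y = y * g} ≤ 1 := by
      refine Finite.card_le_one_iff_subsingleton.2 ⟨?_⟩
      suffices hu : ∀ g : {g : G // orderOf g = 2 ∧ g * y = y * g}, g.1 = k from
        fun a b => Subtype.ext ((hu a).trans (hu b).symm)
      rintro ⟨g, hg, hgy⟩
      let g' : D := ⟨g, mem_cz.2 hgy⟩
      have hg' : IsPGroup 2 (zpowers g') := IsPGroup.of_card (n := 1) (by
        rw [Nat.card_zpowers, ← Subgroup.orderOf_coe, pow_one]; exact hg)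
      obtain ⟨R, hR⟩ := hg'.exists_le_sylow
      rw [Subsingleton.elim R P] at hR
      exact congrArg Subtype.val (eq_of_mem_zpowers_two (b := k') (by rw [← Subgroup.orderOf_coe]; exact hk)
        (hR (mem_zpowers g')) fun e => by
          have : g = 1 := congrArg Subtype.val e
          rw [this, orderOf_one] at hg
          norm_num at hg)
    rw [h.seven_two y hy] at hle
    norm_num at hle
  have key : ∀ n ∈ Nat.divisors 42, 14 ∣ n → ¬ 3 ∣ n → n = 14 := by decide +kernel
  exact key _ (Nat.mem_divisors.2 ⟨hd, by norm_num⟩) h14 h3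

/-- The third class of involutions. -/
theorem exists_even_class {k y : G} (hk : orderOf k = 2) (hy : orderOf y = 7) (hc : k * y = y * k)
    (h96 : Nat.card (cz k) = 96768) : ∃ e : G, orderOf e = 2 ∧ ¬ IsConj k e ∧ 27 ∣ Nat.card (cz e) := by
  classical
  haveI : Fact (Nat.Prime 5) := ⟨by norm_num⟩
  haveI : Fact (Nat.Prime 7) := ⟨by norm_num⟩
  obtain ⟨v, hv⟩ := h.exists_order (p := 5) (by norm_num)
  obtain ⟨⟨t, ht, htv⟩⟩ := (Nat.card_ne_zero.1 (show Nat.card {g : G // orderOf g = 2 ∧ g * v = v * g} ≠ 0 by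
    rw [h.five_two v hv]; norm_num)).1
  have htc : Nat.card (cz t) = 7680 := h.cz_five ht hv htv
  have hti : (cz t).index = 31878 := by have := index_eq_div htc; rw [h.card] at this; omega
  have hki : (cz k).index = 2530 := by have := index_eq_div h96; rw [h.card] at this; omega
  have hsplit : Nat.card {g : G // orderOf g = 2} =
      Nat.card {g : G // orderOf g = 2 ∧ IsConj k g} + Nat.card {g : G // orderOf g = 2 ∧ ¬ IsConj k g} :=
    card_split _ _
  rw [card_split (fun g : G => orderOf g = 2 ∧ ¬ IsConj k g) fun g => IsConj t g] at hsplit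
  have e1 : Nat.card {g : G // orderOf g = 2 ∧ IsConj k g} = 2530 := by
    rw [← hki, ← card_conj]
    exact Nat.card_congr (Equiv.subtypeEquivRight fun g => ⟨fun e => e.2, fun e => ⟨(orderOf_eq_of_isConj e).trans hk, e⟩⟩)
  have hkt : ¬ IsConj k t := fun e => by
    have := card_cz_conj e
    rw [h96, htc] at this
    norm_num at this
  have e2 : Nat.card {g : G // (orderOf g = 2 ∧ ¬ IsConj k g) ∧ IsConj t g} = 31878 := by
    rw [← hti, ← card_conj]
    exact Nat.card_congr (Equiv.subtypeEquivRight fun g =>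
      ⟨fun e => e.2, fun e => ⟨⟨(orderOf_eq_of_isConj e).trans ht, fun e' => hkt (e'.trans e.symm)⟩, e⟩⟩)
  rw [show Nat.card {g : G // orderOf g = 2} = 43263 from h.two_count, e1, e2] at hsplit
  obtain ⟨⟨e, ⟨he, hek⟩, het⟩⟩ := (Nat.card_ne_zero.1
    (show Nat.card {g : G // (orderOf g = 2 ∧ ¬ IsConj k g) ∧ ¬ IsConj t g} ≠ 0 by omega)).1
  refine ⟨e, he, hek, ?_⟩
  have h7 : ¬ 7 ∣ Nat.card (cz e) := fun hd => by
    obtain ⟨w, hw, hwe⟩ := exists_commuting hd
    exact hek (h.isConj_seven hk he hy hw hc hwe.symm)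
  have h5 : ¬ 5 ∣ Nat.card (cz e) := fun hd => by
    obtain ⟨w, hw, hwe⟩ := exists_commuting hd
    exact het (h.isConj_five ht he hv hw htv hwe.symm)
  have hd := h.cz_dvd he (by norm_num) (by norm_num)
  have hcop : (Nat.card (cz e)).Coprime 35 := Nat.Coprime.mul_right (m := 5) (n := 7)
    ((Nat.Prime.coprime_iff_not_dvd (by norm_num)).2 h5).symm
    ((Nat.Prime.coprime_iff_not_dvd (by norm_num)).2 h7).symm
  have hd' : Nat.card (cz e) ∣ 27648 := hcop.dvd_of_dvd_mul_right (show Nat.card (cz e) ∣ 27648 * 35 from hd)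
  have hcl : (cz e).index ≤ 8855 := by
    rw [← card_conj]
    refine le_trans (Nat.card_le_card_of_injective
      (fun g : {x : G // IsConj e x} => (⟨g.1, ⟨(orderOf_eq_of_isConj g.2).trans he,
        fun e' => hek (e'.trans g.2.symm)⟩, fun e' => het (e'.trans g.2.symm)⟩ :
          {g : G // (orderOf g = 2 ∧ ¬ IsConj k g) ∧ ¬ IsConj t g}))
      fun a b e' => Subtype.ext (congrArg (fun z : {g : G // (orderOf g = 2 ∧ ¬ IsConj k g) ∧ ¬ IsConj t g} => z.1) e')) ?_
    omega
  have hce : Nat.card (cz e) = 27648 := by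
    refine le_antisymm (Nat.le_of_dvd (by norm_num) hd') ?_
    have hm := (cz e).card_mul_index
    rw [h.card] at hm
    nlinarith
  rw [hce]
  norm_num

/-- An involution of the centraliser centralising a Sylow three-subgroup. -/
theorem exists_big_involution {k y : G} (hk : orderOf k = 2) (hy : orderOf y = 7) (hc : k * y = y * k)
    (h96 : Nat.card (cz k) = 96768) :
    ∃ (z : G) (P : Subgroup G), orderOf z = 2 ∧ z ≠ k ∧ Nat.card P = 27 ∧ P ≤ cz k ∧ P ≤ cz z ∧ z * k = k * z := by
  classical
  haveI : Fact (Nat.Prime 2) := ⟨Nat.prime_two⟩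
  haveI : Fact (Nat.Prime 3) := ⟨Nat.prime_three⟩
  obtain ⟨e, he, hek, hce⟩ := h.exists_even_class hk hy hc h96
  have hf3 : (Nat.card G).factorization 3 = 3 := by
    rw [h.card, show 244823040 = 3 ^ 3 * 9067520 by norm_num, Nat.factorization_mul (by norm_num) (by norm_num),
      Finsupp.add_apply, Nat.prime_three.factorization_pow, Finsupp.single_eq_same,
      Nat.factorization_eq_zero_of_not_dvd (by norm_num)]
  obtain ⟨P0, hP0⟩ := Sylow.exists_subgroup_card_pow_prime (G := cz k) 3 (n := 3) (by rw [h96]; norm_num)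
  obtain ⟨P1, hP1⟩ := Sylow.exists_subgroup_card_pow_prime (G := cz e) 3 (n := 3) hce
  let P : Sylow 3 G := Sylow.ofCard (P0.map (cz k).subtype) (by
    rw [card_map_of_injective (cz k).subtype_injective, hP0, hf3])
  let P' : Sylow 3 G := Sylow.ofCard (P1.map (cz e).subtype) (by
    rw [card_map_of_injective (cz e).subtype_injective, hP1, hf3])
  obtain ⟨g, hg⟩ := MulAction.exists_smul_eq G P' P
  have hmap : (P1.map (cz e).subtype).map (MulAut.conj g).toMonoidHom = P0.map (cz k).subtype :=
    congrArg (fun R : Sylow 3 G => (R : Subgroup G)) hg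
  set e' := g * e * g⁻¹ with he'
  have hPc : Nat.card (P : Subgroup G) = 27 := by rw [P.card_eq_multiplicity, hf3]; norm_num
  have hPk : (P : Subgroup G) ≤ cz k := map_subtype_le P0
  have hPe : (P : Subgroup G) ≤ cz e' := by
    intro x hx
    obtain ⟨w, ⟨w', hw', hw''⟩, rfl⟩ := (show x ∈ (P1.map (cz e).subtype).map (MulAut.conj g).toMonoidHom from
      hmap.symm ▸ hx)
    subst hw''
    refine mem_cz.2 ?_
    show g * (w' : G) * g⁻¹ * (g * e * g⁻¹) = g * e * g⁻¹ * (g * (w' : G) * g⁻¹)
    calc g * (w' : G) * g⁻¹ * (g * e * g⁻¹) = g * ((w' : G) * e) * g⁻¹ := by group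
      _ = _ := by rw [mem_cz.1 w'.2]; group
  have he2 : orderOf e' = 2 := by
    rw [show orderOf e' = orderOf e from (MulAut.conj g).orderOf_eq e]; exact he
  let C : Subgroup G := centralizer ((P : Subgroup G) : Set G)
  have memC : ∀ a : G, (P : Subgroup G) ≤ cz a → a ∈ C := fun a ha =>
    mem_centralizer_iff.2 fun x hx => mem_cz.1 (ha hx)
  have hkC : k ∈ C := memC k hPk
  have heC : e' ∈ C := memC e' hPe
  let k' : C := ⟨k, hkC⟩
  have hk' : orderOf k' = 2 := by rw [← Subgroup.orderOf_coe]; exact hk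
  obtain ⟨T, hT⟩ := (IsPGroup.of_card (n := 1) (p := 2) (G := zpowers k')
    (by rw [Nat.card_zpowers, hk', pow_one])).exists_le_sylow
  obtain ⟨T', hT'⟩ := (IsPGroup.of_card (n := 1) (p := 2) (G := zpowers (⟨e', heC⟩ : C))
    (by rw [Nat.card_zpowers, ← Subgroup.orderOf_coe, pow_one]; exact he2)).exists_le_sylow
  obtain ⟨c, hcT⟩ := MulAction.exists_smul_eq C T' T
  let e2 : C := c * ⟨e', heC⟩ * c⁻¹
  have he2T : e2 ∈ (T : Subgroup C) := by
    have hm : (T' : Subgroup C).map (MulAut.conj c).toMonoidHom = (T : Subgroup C) :=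
      congrArg (fun R : Sylow 2 C => (R : Subgroup C)) hcT
    rw [← hm]
    exact ⟨_, hT' (mem_zpowers _), rfl⟩
  have he2o : orderOf (e2 : G) = 2 := by
    show orderOf ((c : G) * e' * (c : G)⁻¹) = 2
    rw [show orderOf ((c : G) * e' * (c : G)⁻¹) = orderOf e' from (MulAut.conj (c : G)).orderOf_eq e']
    exact he2
  have he2k : (e2 : G) ≠ k := fun e3 => hek (by
    refine (show IsConj e k from ?_).symm
    refine isConj_iff.2 ⟨(c : G) * g, ?_⟩
    have : (c : G) * (g * e * g⁻¹) * (c : G)⁻¹ = k := e3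
    rw [← this]; group)
  have hPC : ∀ a : C, (P : Subgroup G) ≤ cz (a : G) := fun a x hx => mem_cz.2 (mem_centralizer_iff.1 a.2 x hx)
  -- a central involution of the Sylow subgroup
  haveI : Nontrivial (T : Subgroup C) :=
    ⟨⟨⟨k', hT (mem_zpowers k')⟩, 1, fun e3 => by
      have : orderOf k' = 1 := by rw [show k' = 1 from congrArg Subtype.val e3, orderOf_one]
      omega⟩⟩
  haveI := T.isPGroup'.center_nontrivial
  obtain ⟨⟨w, hw⟩, hwo⟩ := exists_prime_orderOf_dvd_card' (G := center (T : Subgroup C)) 2 (by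
    obtain ⟨n, hn⟩ := IsPGroup.iff_card.1 (T.isPGroup'.to_subgroup (center (T : Subgroup C)))
    have : 1 < Nat.card (center (T : Subgroup C)) := Finite.one_lt_card
    rw [hn]
    exact dvd_pow_self 2 (fun e3 => by rw [hn, e3] at this; norm_num at this))
  rw [Subgroup.orderOf_mk] at hwo
  have hwc : ∀ a : (T : Subgroup C), ((a : C) : G) * ((w : C) : G) = ((w : C) : G) * ((a : C) : G) :=
    fun a => congrArg (fun v : (T : Subgroup C) => ((v : C) : G)) (mem_center_iff.1 hw a)
  by_cases hwk : ((w : C) : G) = k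
  · refine ⟨e2, P, he2o, he2k, hPc, hPk, hPC e2, ?_⟩
    have := hwc ⟨e2, he2T⟩
    rwa [hwk] at this
  · exact ⟨(w : C), P, by rw [Subgroup.orderOf_coe, Subgroup.orderOf_coe]; exact hwo, hwk, hPc, hPk, hPC _,
      (hwc ⟨k', hT (mem_zpowers k')⟩).symm⟩

/-- Neither of the two centraliser orders but the smaller occurs. -/
theorem cz_seven_ne {k y : G} (hk : orderOf k = 2) (hy : orderOf y = 7) (hc : k * y = y * k) :
    Nat.card (cz k) ≠ 96768 := by
  classical
  intro h96
  haveI : Fact (Nat.Prime 2) := ⟨Nat.prime_two⟩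
  haveI : Fact (Nat.Prime 3) := ⟨Nat.prime_three⟩
  haveI : Fact (Nat.Prime 7) := ⟨by norm_num⟩
  set y' : cz k := ⟨y, mem_cz.2 hc.symm⟩ with hy'def
  set k' : cz k := ⟨k, self_mem_cz k⟩ with hk'def
  have hy' : orderOf y' = 7 := by rw [← Subgroup.orderOf_coe]; exact hy
  have hk' : orderOf k' = 2 := by rw [← Subgroup.orderOf_coe]; exact hk
  have hkcen : ∀ g : cz k, g * k' = k' * g := fun g => Subtype.ext (mem_cz.1 g.2)
  have hf7 : (Nat.card (cz k)).factorization 7 = 1 :=
    factorization_one (by norm_num) (show 7 * 13824 = _ by rw [h96]) (by norm_num)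
  have hcnt : cnt ↥(cz k) 7 = 13824 := by
    have hcp := class_pairs (p := 7) hk h.seven_two fun t' y' ht' hy' hc' => h.isConj_seven hk ht' hy hy' hc hc'
    have hi := index_eq_div (g := k) h96
    rw [h.card] at hi
    rw [h.cnt7, show (cz k).index = 2530 by omega] at hcp
    omega
  have hN42 : Nat.card (normalizer (zpowers y' : Set (cz k))) = 42 := by
    let P : Sylow 7 (cz k) := Sylow.ofCard (zpowers y') (by rw [Nat.card_zpowers, hy', hf7, pow_one])
    have h2 : Nat.card (Sylow 7 (cz k)) = (normalizer (zpowers y' : Set (cz k))).index := P.card_eq_index_normalizer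
    have h3 := (normalizer (zpowers y' : Set (cz k))).card_mul_index
    have h4 := CfsgLib.Nse.card_sylow_prime hf7
    rw [hcnt] at h4
    rw [← h2, h96, show Nat.card (Sylow 7 (cz k)) = 2304 by omega] at h3
    omega
  have hpair : ∀ g : cz k, (g : G) * y = y * g → orderOf g ∣ 14 := fun g hg => by
    rw [← Subgroup.orderOf_coe, ← h.card_pair' hk hy hc]
    exact Subgroup.orderOf_dvd_natCard _ ⟨g.2, mem_cz.2 hg⟩
  have hfix : ∀ (g : cz k) (n : ℕ), g ^ 2 ^ n = 1 → g * y' = y' * g → g = 1 ∨ g = k' := by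
    intro g n hg hgy
    by_cases hg1 : g = 1
    · exact Or.inl hg1
    refine Or.inr ?_
    let D : Subgroup G := cz k ⊓ cz y
    let kD : D := ⟨k, self_mem_cz k, mem_cz.2 hc⟩
    let gD : D := ⟨g, g.2, mem_cz.2 (congrArg Subtype.val hgy)⟩
    haveI hn : (zpowers kD).Normal := ⟨fun a ha b => by
      obtain ⟨i, rfl⟩ := mem_zpowers_iff.1 ha
      rw [((show Commute b kD from Subtype.ext (mem_cz.1 b.2.1)).zpow_right i).eq, mul_inv_cancel_right]
      exact zpow_mem (mem_zpowers kD) i⟩
    let P : Sylow 2 D := Sylow.ofCard (zpowers kD) (by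
      rw [Nat.card_zpowers, ← Subgroup.orderOf_coe, show Nat.card D = 14 from h.card_pair' hk hy hc,
        factorization_one (n := 14) Nat.prime_two (show 2 * 7 = 14 by norm_num) (by norm_num), pow_one]
      exact hk)
    haveI : Subsingleton (Sylow 2 D) := by
      haveI := P.unique_of_normal hn
      infer_instance
    obtain ⟨j, -, hj⟩ := (Nat.dvd_prime_pow Nat.prime_two).1 (orderOf_dvd_of_pow_eq_one hg)
    have hp : IsPGroup 2 (zpowers gD) := IsPGroup.of_card (n := j) (by
      rw [Nat.card_zpowers, ← Subgroup.orderOf_coe, ← hj]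
      exact Subgroup.orderOf_coe g)
    obtain ⟨R, hR⟩ := hp.exists_le_sylow
    rw [Subsingleton.elim R P] at hR
    exact Subtype.ext (congrArg (fun w : D => (w : G)) (eq_of_mem_zpowers_two (b := kD)
      (by rw [← Subgroup.orderOf_coe]; exact hk) (hR (mem_zpowers gD))
      fun e => hg1 (Subtype.ext (congrArg (fun w : D => (w : G)) e))))
  -- the largest normal subgroup of order prime to seven
  obtain ⟨M, ⟨hMn, hM7⟩, hmax'⟩ := (Set.toFinite {L : Subgroup (cz k) | L.Normal ∧ ¬ 7 ∣ Nat.card L}).exists_maximal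
    ⟨⊥, inferInstance, by rw [Subgroup.card_bot]; norm_num⟩
  have hmax : ∀ L : Subgroup (cz k), L.Normal → ¬ 7 ∣ Nat.card L → M ≤ L → L = M :=
    fun L h1 h2 hle => le_antisymm (hmax' ⟨h1, h2⟩ hle) hle
  haveI := hMn
  have hnormM : ∀ c g : cz k, g ∈ M ↔ c * g * c⁻¹ ∈ M := fun c g =>
    ⟨fun hg => hMn.conj_mem g hg c, fun hg => by simpa [mul_assoc] using hMn.conj_mem _ hg c⁻¹⟩
  have hM3 : ¬ 3 ∣ Nat.card M := fun h3 => by
    obtain ⟨R, -, hRc, hRy⟩ := exists_sylow_normalized (p := 7) (q := 3) (x := y') (by rw [← hy', pow_orderOf_eq_one])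
      M hM7 (hnormM y')
    have hm := card_modEq_fixed (p := 7) (n := 1) (x := y') (by rw [pow_one, ← hy', pow_orderOf_eq_one])
      (fun g => g ∈ R) hRy
    set a := (Nat.card M).factorization 3
    have h1 : Nat.card {g : cz k // g ∈ R ∧ g * y' = y' * g} = 1 := by
      refine Nat.card_eq_one_iff_unique.2 ⟨⟨?_⟩, ⟨⟨1, one_mem _, by simp⟩⟩⟩
      suffices hu : ∀ g : {g : cz k // g ∈ R ∧ g * y' = y' * g}, g.1 = 1 from
        fun p q => Subtype.ext ((hu p).trans (hu q).symm)
      rintro ⟨g, hgR, hgy⟩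
      have d1 : orderOf g ∣ 3 ^ a := hRc ▸ Subgroup.orderOf_dvd_natCard R hgR
      have d2 := hpair g (congrArg Subtype.val hgy)
      exact orderOf_eq_one_iff.1 (Nat.eq_one_of_dvd_coprimes (Nat.Coprime.pow_left a (by norm_num)) d1 d2)
    rw [show Nat.card {g : cz k // g ∈ R} = 3 ^ a from hRc, h1] at hm
    have hd : 3 ^ a ∣ 2 ^ 9 * 7 * 27 := by
      rw [show 2 ^ 9 * 7 * 27 = Nat.card (cz k) from h96.symm]
      exact (Nat.ordProj_dvd (Nat.card M) 3).trans (card_subgroup_dvd_card M)
    have hd' : 3 ^ a ∣ 27 := (Nat.Coprime.pow_left a (show Nat.Coprime 3 (2 ^ 9 * 7) by norm_num)).dvd_of_dvd_mul_left hd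
    have key : ∀ n ∈ Nat.divisors 27, n % 7 = 1 % 7 → n = 1 := by decide +kernel
    have ha := key _ (Nat.mem_divisors.2 ⟨hd', by norm_num⟩) hm
    have ha1 := (Nat.prime_three.dvd_iff_one_le_factorization Nat.card_pos.ne').1 h3
    rcases (pow_eq_one_iff (M := ℕ)).1 ha with h0 | h0
    · norm_num at h0
    · omega
  obtain ⟨m, hm9, hMm⟩ : ∃ m ≤ 9, Nat.card M = 2 ^ m := by
    have hcop : (Nat.card M).Coprime 189 := Nat.Coprime.mul_right (m := 27) (n := 7)
      (Nat.Coprime.pow_right 3 ((Nat.Prime.coprime_iff_not_dvd (by norm_num)).2 hM3).symm)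
      ((Nat.Prime.coprime_iff_not_dvd (by norm_num)).2 hM7).symm
    exact (Nat.dvd_prime_pow Nat.prime_two).1 (hcop.dvd_of_dvd_mul_right
      (show Nat.card M ∣ 2 ^ 9 * 189 by
        rw [show 2 ^ 9 * 189 = Nat.card (cz k) from h96.symm]
        exact card_subgroup_dvd_card M))
  have hMp : IsPGroup 2 M := IsPGroup.of_card hMm
  have hkM : k' ∈ M := by
    haveI : (zpowers k').Normal := ⟨fun a ha g => by
      obtain ⟨i, rfl⟩ := mem_zpowers_iff.1 ha
      rw [((show Commute g k' from hkcen g).zpow_right i).eq, mul_inv_cancel_right]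
      exact zpow_mem (mem_zpowers k') i⟩
    have hp : IsPGroup 2 (M ⊔ zpowers k' : Subgroup (cz k)) :=
      hMp.to_sup_of_normal_left (IsPGroup.of_card (n := 1) (by rw [Nat.card_zpowers, hk', pow_one]))
    obtain ⟨j, hj⟩ := IsPGroup.iff_card.1 hp
    have := hmax (M ⊔ zpowers k') inferInstance (fun h7 => by
      rw [hj] at h7
      exact absurd ((Nat.prime_dvd_prime_iff_eq (by norm_num) Nat.prime_two).1
        ((show Nat.Prime 7 by norm_num).dvd_of_dvd_pow h7)) (by norm_num)) le_sup_left
    exact this ▸ mem_sup_right (mem_zpowers k')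
  have hMpow : ∀ g ∈ M, g ^ 2 ^ m = 1 := fun g hg => by
    have := pow_card_eq_one' (x := (⟨g, hg⟩ : M))
    rw [hMm] at this
    exact congrArg Subtype.val this
  have hM2 : Nat.card M % 7 = 2 := by
    have hmod := card_modEq_fixed (p := 7) (n := 1) (x := y') (by rw [pow_one, ← hy', pow_orderOf_eq_one])
      (fun g => g ∈ M) (hnormM y')
    rw [show Nat.card {g : cz k // g ∈ M ∧ g * y' = y' * g} = 2 from by
      rw [Nat.card_congr (Equiv.subtypeEquivRight (q := fun g => g ∈ ({1, k'} : Set (cz k))) fun g => ?_),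
        Nat.card_coe_set_eq, Set.ncard_pair (fun e => by rw [← e, orderOf_one] at hk'; norm_num at hk')]
      constructor
      · exact fun hg => hfix g m (hMpow g hg.1) hg.2
      · rintro (rfl | rfl)
        · exact ⟨one_mem _, by simp⟩
        · exact ⟨hkM, (hkcen y').symm⟩] at hmod
    exact hmod
  have hcases : Nat.card M = 2 ∨ Nat.card M = 16 ∨ Nat.card M = 128 := by
    have key : ∀ j ≤ 9, 2 ^ j % 7 = 2 → 2 ^ j = 2 ∨ 2 ^ j = 16 ∨ 2 ^ j = 128 := by decide +kernel
    rw [hMm] at hM2 ⊢
    exact key m hm9 hM2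
  have hq := Subgroup.card_eq_card_quotient_mul_card_subgroup M
  rw [h96] at hq
  have hconj7 : ∀ L : Subgroup (cz k), L.Normal → 7 ∣ Nat.card L → ∀ a : cz k, orderOf a = 7 → a ∈ L := by
    intro L hL h7 a ha
    obtain ⟨⟨x, hxL⟩, hx⟩ := exists_prime_orderOf_dvd_card' (G := L) 7 h7
    rw [Subgroup.orderOf_mk] at hx
    obtain ⟨g, hg⟩ := exists_conj_mem hf7 hx ha
    have hz : zpowers (g * x * g⁻¹) = zpowers a := by
      refine Subgroup.eq_of_le_of_card_ge (zpowers_le.2 hg) ?_
      rw [Nat.card_zpowers, Nat.card_zpowers, ha,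
        show orderOf (g * x * g⁻¹) = orderOf x from (MulAut.conj g).orderOf_eq x, hx]
    exact zpowers_le.2 (hL.conj_mem x hxL g) (hz.symm ▸ mem_zpowers a)
  haveI hsimple : IsSimpleGroup (cz k ⧸ M) := by
    haveI : Nontrivial (cz k ⧸ M) := Finite.one_lt_card_iff_nontrivial.1 (by
      rcases hcases with e | e | e <;> rw [e] at hq <;> omega)
    refine ⟨fun X hX => ?_⟩
    by_contra hne
    push Not at hne
    let L : Subgroup (cz k) := X.comap (QuotientGroup.mk' M)
    haveI hLn : L.Normal := hX.comap _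
    have hML : M ≤ L := fun g hg => by
      show (g : cz k ⧸ M) ∈ X
      rw [(QuotientGroup.eq_one_iff g).2 hg]; exact one_mem X
    have hinj := Subgroup.comap_injective (f := QuotientGroup.mk' M) (QuotientGroup.mk'_surjective M)
    have hLM : L ≠ M := fun e' => hne.1 (hinj (by
      show L = _
      rw [e', MonoidHom.comap_bot, QuotientGroup.ker_mk']))
    have hLt : L ≠ ⊤ := fun e' => hne.2 (hinj (by show L = _; rw [e', Subgroup.comap_top]))
    have hL7 : 7 ∣ Nat.card L := by
      by_contra h7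
      exact hLM (hmax L hLn h7 hML)
    have hall := hconj7 L hLn hL7
    have hyL : y' ∈ L := hall y' hy'
    have hkL : k' ∈ L := hML hkM
    let yL : L := ⟨y', hyL⟩
    let kL : L := ⟨k', hkL⟩
    have hkc : ∀ g : L, g * kL = kL * g := fun g => Subtype.ext (hkcen g)
    have hcntL : cnt L 7 = 13824 := by
      rw [← hcnt]
      exact Nat.card_congr
        { toFun := fun g => ⟨g.1.1, by rw [Subgroup.orderOf_coe]; exact g.2⟩
          invFun := fun g => ⟨⟨g.1, hall g.1 g.2⟩, by rw [← Subgroup.orderOf_coe]; exact g.2⟩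
          left_inv := fun _ => rfl
          right_inv := fun _ => rfl }
    have hfL : (Nat.card L).factorization 7 = 1 :=
      le_antisymm (hf7 ▸ (Nat.factorization_le_iff_dvd Nat.card_pos.ne' Nat.card_pos.ne').2 (card_subgroup_dvd_card L) 7)
        (((show Nat.Prime 7 by norm_num).dvd_iff_one_le_factorization Nat.card_pos.ne').1 hL7)
    let P : Sylow 7 L := Sylow.ofCard (zpowers yL) (by
      rw [Nat.card_zpowers, ← Subgroup.orderOf_coe, hfL, pow_one]; exact hy')
    have h2 : Nat.card (Sylow 7 L) = (normalizer (zpowers yL : Set L)).index := P.card_eq_index_normalizer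
    have h3 := (normalizer (zpowers yL : Set L)).card_mul_index
    have h4 := CfsgLib.Nse.card_sylow_prime hfL
    rw [hcntL] at h4
    rw [← h2, show Nat.card (Sylow 7 L) = 2304 by omega] at h3
    have hmapz : ∀ a : L, a ∈ zpowers yL ↔ (a : cz k) ∈ zpowers y' := fun a => by
      rw [mem_zpowers_iff, mem_zpowers_iff]
      exact exists_congr fun j => by rw [Subtype.ext_iff, SubgroupClass.coe_zpow]
    have hd42 : Nat.card (normalizer (zpowers yL : Set L)) ∣ 42 := by
      rw [← hN42, ← card_map_of_injective L.subtype_injective]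
      refine card_dvd_of_le ?_
      rintro _ ⟨n, hn, rfl⟩
      refine mem_normalizer_iff.2 fun a => ⟨fun ha => ?_, fun ha => ?_⟩
      · have haL : a ∈ L := zpowers_le.2 hyL ha
        exact (hmapz _).1 ((mem_normalizer_iff.1 hn ⟨a, haL⟩).1 ((hmapz ⟨a, haL⟩).2 ha))
      · have haL : a ∈ L := by
          have := mul_mem (mul_mem (inv_mem n.2) (zpowers_le.2 hyL ha)) n.2
          simpa [mul_assoc] using this
        exact (hmapz ⟨a, haL⟩).1 ((mem_normalizer_iff.1 hn ⟨a, haL⟩).2 ((hmapz _).2 ha))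
    have hmemk : kL ∈ normalizer (zpowers yL : Set L) := mem_normalizer_iff.2 fun a => by
      rw [show kL * a * kL⁻¹ = a from mul_inv_eq_iff_eq_mul.2 (hkc a).symm]
    have hmemy : yL ∈ normalizer (zpowers yL : Set L) := (le_normalizer : zpowers yL ≤ _) (mem_zpowers yL)
    have hcomm : yL * kL = kL * yL := hkc yL
    have okL : orderOf kL = 2 := by rw [← Subgroup.orderOf_coe]; exact hk'
    have oyL : orderOf yL = 7 := by rw [← Subgroup.orderOf_coe]; exact hy'
    have hky : orderOf (kL * yL) = 14 := by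
      rw [(show Commute kL yL from hcomm.symm).orderOf_mul_eq_mul_orderOf_of_coprime (by
        rw [okL, oyL]; norm_num), okL, oyL]
    have h14 : 14 ∣ Nat.card (normalizer (zpowers yL : Set L)) :=
      hky ▸ Subgroup.orderOf_dvd_natCard _ (mul_mem hmemk hmemy)
    have key : ∀ n ∈ Nat.divisors 42, 14 ∣ n → n = 14 ∨ n = 42 := by decide +kernel
    rcases key _ (Nat.mem_divisors.2 ⟨hd42, by norm_num⟩) h14 with e14 | e42
    swap
    · exact hLt (Subgroup.eq_top_of_le_card _ (by rw [h96]; omega))
    -- the normaliser is abelian, so there is a normal complement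
    have hcyc : ∀ n ∈ normalizer (zpowers yL : Set L), n * yL = yL * n := by
      intro n hn
      have htop : zpowers (kL * yL) = normalizer (zpowers yL : Set L) :=
        Subgroup.eq_of_le_of_card_ge (zpowers_le.2 (mul_mem hmemk hmemy)) (by rw [Nat.card_zpowers, hky, e14])
      rw [← htop] at hn
      obtain ⟨i, rfl⟩ := mem_zpowers_iff.1 hn
      exact (((show Commute kL yL from hcomm.symm).mul_left (Commute.refl yL)).zpow_left i).eq
    have hNC : normalizer ((P : Subgroup L) : Set L) ≤ centralizer ((P : Subgroup L) : Set L) := fun n hn =>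
      mem_centralizer_iff.2 fun a ha => by
        obtain ⟨i, rfl⟩ := mem_zpowers_iff.1 (show a ∈ zpowers yL from ha)
        exact ((show Commute n yL from hcyc n hn).zpow_right i).eq.symm
    let K := (MonoidHom.transferSylow P hNC).ker
    have hKc : Nat.card K * 7 = Nat.card L := by
      rw [show (7 : ℕ) = Nat.card (P : Subgroup L) by rw [P.card_eq_multiplicity, hfL, pow_one]]
      exact (MonoidHom.ker_transferSylow_isComplement' P hNC).card_mul_card
    have hLc : Nat.card L = 32256 := by rw [e14] at h3; omega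
    have hK8 : Nat.card K = 4608 := by omega
    have hKi : K.index = 7 := by
      have := K.card_mul_index
      rw [hK8, hLc] at this
      omega
    have hchar : ∀ a : L, a ∈ K ↔ a ^ 4608 = 1 := by
      intro a
      constructor
      · intro ha
        have := pow_card_eq_one' (x := (⟨a, ha⟩ : K))
        rw [hK8] at this
        exact congrArg Subtype.val this
      · intro ha
        rw [← QuotientGroup.eq_one_iff, ← orderOf_eq_one_iff]
        have d1 : orderOf (a : L ⧸ K) ∣ 4608 := (orderOf_map_dvd (QuotientGroup.mk' K) a).trans (orderOf_dvd_of_pow_eq_one ha)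
        have d2 : orderOf (a : L ⧸ K) ∣ 7 := by
          have := _root_.orderOf_dvd_natCard (a : L ⧸ K)
          rwa [← index_eq_card, hKi] at this
        exact Nat.eq_one_of_dvd_coprimes (by norm_num) d1 d2
    let K' : Subgroup (cz k) := K.map L.subtype
    have hK'c : Nat.card K' = 4608 := by rw [card_map_of_injective L.subtype_injective, hK8]
    have hK'n : K'.Normal := ⟨by
      rintro _ ⟨a, ha, rfl⟩ c
      refine ⟨⟨c * (a : cz k) * c⁻¹, hLn.conj_mem _ a.2 c⟩, (hchar _).2 (Subtype.ext ?_), rfl⟩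
      show (c * (a : cz k) * c⁻¹) ^ 4608 = 1
      rw [conj_pow, show (a : cz k) ^ 4608 = 1 from congrArg Subtype.val ((hchar a).1 ha), mul_one, mul_inv_cancel]⟩
    have hMK : M ≤ K' := fun g hg => ⟨⟨g, hML hg⟩, (hchar _).2 (Subtype.ext (by
      show g ^ 4608 = 1
      refine orderOf_dvd_iff_pow_eq_one.1 ((orderOf_dvd_of_pow_eq_one (hMpow g hg)).trans ?_)
      exact (pow_dvd_pow 2 hm9).trans (by norm_num))), rfl⟩
    have hKM := hmax K' hK'n (by rw [hK'c]; norm_num) hMK
    exact hM3 (by rw [← hKM, hK'c]; norm_num)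
  have hna : ¬ IsMulCommutative (cz k ⧸ M) := fun hc' => by
    letI : CommGroup (cz k ⧸ M) := { (inferInstance : Group (cz k ⧸ M)) with mul_comm := hc'.is_comm.comm }
    have hp := IsSimpleGroup.prime_card (α := cz k ⧸ M)
    rcases hcases with e | e | e <;> rw [e] at hq
    · rw [show Nat.card (cz k ⧸ M) = 48384 by omega] at hp; norm_num at hp
    · rw [show Nat.card (cz k ⧸ M) = 6048 by omega] at hp; norm_num at hp
    · rw [show Nat.card (cz k ⧸ M) = 756 by omega] at hp; norm_num at hp
  rcases hcases with e | e | e <;> rw [e] at hq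
  · -- an involution centralises a Sylow three-subgroup
    obtain ⟨z, P, hz, hzk, hP, hPk, hPz, hzc⟩ := h.exists_big_involution hk hy hc h96
    have hMk : M = zpowers k' := (Subgroup.eq_of_le_of_card_ge (zpowers_le.2 hkM)
      (by rw [e, Nat.card_zpowers, hk'])).symm
    let zH : cz k := ⟨z, mem_cz.2 hzc⟩
    have hzM : zH ∉ M := fun hm => hzk (congrArg Subtype.val (eq_of_mem_zpowers_two hk'
      (show zH ∈ zpowers k' from hMk ▸ hm) fun e1 => by
        have : z = 1 := congrArg Subtype.val e1
        rw [this, orderOf_one] at hz; norm_num at hz))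
    let PH : Subgroup (cz k) := P.subgroupOf (cz k)
    let f : PH →* cz k ⧸ M := (QuotientGroup.mk' M).comp PH.subtype
    have hPH : Nat.card PH = 27 := by rw [Nat.card_congr (subgroupOfEquivOfLe hPk).toEquiv, hP]
    have hf : Function.Injective f := (injective_iff_map_eq_one f).2 fun a ha => by
      have d1 : orderOf (a : cz k) ∣ 27 := hPH ▸ Subgroup.orderOf_dvd_natCard PH a.2
      have d2 : orderOf (a : cz k) ∣ 2 := e ▸ Subgroup.orderOf_dvd_natCard M ((QuotientGroup.eq_one_iff (a : cz k)).1 ha)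
      exact Subtype.ext (orderOf_eq_one_iff.1 (Nat.eq_one_of_dvd_coprimes (by norm_num) d1 d2))
    refine no_big_involution hna (show Nat.card (cz k ⧸ M) = 48384 by omega) (z := (zH : cz k ⧸ M)) ?_ f.range
      ?_ ?_
    · refine orderOf_eq_prime ?_ fun e1 => hzM ((QuotientGroup.eq_one_iff zH).1 e1)
      rw [← QuotientGroup.mk_pow, show zH ^ 2 = 1 from Subtype.ext (by
        show z ^ 2 = 1
        rw [← hz, pow_orderOf_eq_one])]
      rfl
    · rw [← hPH]; exact (Nat.card_congr (MonoidHom.ofInjective hf).toEquiv).symm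
    · rintro _ ⟨a, rfl⟩
      refine mem_cz.2 ?_
      show ((a : cz k) : cz k ⧸ M) * (zH : cz k ⧸ M) = (zH : cz k ⧸ M) * ((a : cz k) : cz k ⧸ M)
      rw [← QuotientGroup.mk_mul, ← QuotientGroup.mk_mul,
        show (a : cz k) * zH = zH * (a : cz k) from Subtype.ext (mem_cz.1 (hPz (mem_subgroupOf.1 a.2)))]
  · -- an action on seven cosets
    let K2 : Subgroup (cz k) := zpowers k'
    haveI hK2n : K2.Normal := ⟨fun a ha g => by
      obtain ⟨i, rfl⟩ := mem_zpowers_iff.1 ha
      rw [((show Commute g k' from hkcen g).zpow_right i).eq, mul_inv_cancel_right]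
      exact zpow_mem (mem_zpowers k') i⟩
    let π : cz k →* cz k ⧸ K2 := QuotientGroup.mk' K2
    let B : Subgroup (cz k ⧸ K2) := M.map π
    haveI hBn : B.Normal := Subgroup.Normal.map hMn π (QuotientGroup.mk'_surjective K2)
    have hK2M : K2 ≤ M := zpowers_le.2 hkM
    have hB : Nat.card B = 8 := by
      let fM : M →* cz k ⧸ K2 := π.comp M.subtype
      have hker : fM.ker = K2.subgroupOf M := by
        ext g
        rw [MonoidHom.mem_ker, mem_subgroupOf]
        exact QuotientGroup.eq_one_iff (g : cz k)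
      have h1 := Subgroup.card_eq_card_quotient_mul_card_subgroup fM.ker
      rw [Nat.card_congr (QuotientGroup.quotientKerEquivRange fM).toEquiv, e] at h1
      rw [show fM.range = B by rw [MonoidHom.range_comp, Subgroup.range_subtype], hker,
        Nat.card_congr (subgroupOfEquivOfLe hK2M).toEquiv,
        show Nat.card K2 = 2 from by rw [Nat.card_zpowers, hk']] at h1
      omega
    let Ω : Type u := {q : cz k ⧸ K2 // q ∈ B ∧ q ≠ 1}
    have hΩ : Nat.card Ω = 7 := by
      have h1 := card_split (fun q : cz k ⧸ K2 => q ∈ B) (fun q => q ≠ 1)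
      rw [show Nat.card {q : cz k ⧸ K2 // q ∈ B} = 8 from hB,
        show Nat.card {q : cz k ⧸ K2 // q ∈ B ∧ ¬ q ≠ 1} = 1 from Nat.card_eq_one_iff_unique.2
          ⟨⟨fun p q => Subtype.ext ((not_not.1 p.2.2).trans (not_not.1 q.2.2).symm)⟩,
            ⟨⟨1, one_mem _, not_not.2 rfl⟩⟩⟩] at h1
      show Nat.card {q : cz k ⧸ K2 // q ∈ B ∧ q ≠ 1} = 7
      omega
    let φ : cz k →* Equiv.Perm Ω :=
      { toFun := fun g => conjEquiv (π g) _ _ fun q => by
          constructor
          · exact fun hq => ⟨hBn.conj_mem q hq.1 (π g), fun e1 => hq.2 (conj_eq_one_iff.1 e1)⟩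
          · intro hq
            refine ⟨?_, fun e1 => hq.2 (by rw [e1]; simp)⟩
            simpa [mul_assoc] using hBn.conj_mem _ hq.1 (π g)⁻¹
        map_one' := by ext q; simp [conjEquiv]
        map_mul' := fun a b => by ext q; simp [conjEquiv, mul_assoc] }
    have hrange : Nat.card φ.range ∣ 5040 := by
      have h1 := card_subgroup_dvd_card φ.range
      rw [Nat.card_perm, hΩ] at h1
      exact h1
    have h7 : ¬ 7 ∣ Nat.card φ.ker := fun h7 => by
      have hy1 : φ y' = 1 := hconj7 φ.ker φ.normal_ker h7 y' hy'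
      obtain ⟨g, hgM, hgK⟩ : ∃ g ∈ M, g ∉ K2 := by
        by_contra hcon
        push Not at hcon
        have := Subgroup.card_le_of_le (show M ≤ K2 from hcon)
        rw [e, Nat.card_zpowers, hk'] at this
        norm_num at this
      have hgB : π g ∈ B ∧ π g ≠ 1 := ⟨⟨g, hgM, rfl⟩, fun e1 => hgK ((QuotientGroup.eq_one_iff g).1 e1)⟩
      have hfixq : π y' * π g * (π y')⁻¹ = π g :=
        congrArg (fun σ : Equiv.Perm Ω => ((σ ⟨π g, hgB⟩).1 : cz k ⧸ K2)) hy1
      set d := g⁻¹ * (y' * g * y'⁻¹) with hd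
      have hdK : d ∈ K2 := by
        rw [← QuotientGroup.eq_one_iff]
        show π (g⁻¹ * (y' * g * y'⁻¹)) = 1
        rw [map_mul, map_mul, map_mul, map_inv, map_inv, hfixq, inv_mul_cancel]
      have hdc : ∀ a : cz k, a * d = d * a := fun a => by
        obtain ⟨i, hi⟩ := mem_zpowers_iff.1 hdK
        rw [← hi]; exact ((show Commute a k' from hkcen a).zpow_right i).eq
      have hd2 : d * d = 1 := by
        obtain ⟨i, hi⟩ := mem_zpowers_iff.1 hdK
        rw [← hi, ← zpow_add, ← two_mul, zpow_mul, show k' ^ (2 : ℤ) = 1 by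
          rw [show (2 : ℤ) = ((2 : ℕ) : ℤ) from rfl, zpow_natCast, ← hk', pow_orderOf_eq_one], one_zpow]
      have hone : y' * g * y'⁻¹ = g * d := by rw [hd]; group
      have htwo : y' ^ 2 * g * (y' ^ 2)⁻¹ = g := by
        calc y' ^ 2 * g * (y' ^ 2)⁻¹ = (y' * y') * g * (y' * y')⁻¹ := by rw [pow_two]
          _ = y' * (y' * g * y'⁻¹) * y'⁻¹ := by group
          _ = y' * (g * d) * y'⁻¹ := by rw [hone]
          _ = (y' * g * y'⁻¹) * (y' * d * y'⁻¹) := by group
          _ = g := by rw [hone, mul_inv_eq_iff_eq_mul.2 (hdc y'), mul_assoc, hd2, mul_one]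
      have hy8 : (y' ^ 2) ^ 4 = y' := by
        rw [← pow_mul, pow_eq_pow_mod (2 * 4) (hy' ▸ pow_orderOf_eq_one y' : y' ^ 7 = 1)]; simp
      have hcom : Commute (y' ^ 2) g := mul_inv_eq_iff_eq_mul.1 htwo
      have hc4 := hcom.pow_left 4
      rw [hy8] at hc4
      rcases hfix g m (hMpow g hgM) hc4.eq.symm with e1 | e1
      · exact hgK (e1 ▸ one_mem _)
      · exact hgK (e1 ▸ mem_zpowers k')
    have hkerM : Nat.card φ.ker ≤ 16 := by
      have hp := hmax (M ⊔ φ.ker) inferInstance (fun h7' => by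
        have hd := CfsgLib.Solvable.card_sup_mul_card_inf (A := M) (K := φ.ker)
          (normalizer_eq_top (H := φ.ker) ▸ le_top)
        have h16 : 7 ∣ Nat.card M * Nat.card φ.ker := hd ▸ Dvd.dvd.mul_right h7' _
        rcases (show Nat.Prime 7 by norm_num).dvd_mul.1 h16 with h' | h'
        · exact hM7 h'
        · exact h7 h') le_sup_left
      exact (Subgroup.card_le_of_le ((le_sup_right : φ.ker ≤ M ⊔ φ.ker).trans hp.le)).trans e.le
    have h1 := Subgroup.card_eq_card_quotient_mul_card_subgroup φ.ker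
    rw [Nat.card_congr (QuotientGroup.quotientKerEquivRange φ).toEquiv, h96] at h1
    have h2 := Nat.le_of_dvd (by norm_num) hrange
    nlinarith
  · have h756 : Nat.card (cz k ⧸ M) = 756 := by omega
    rcases Cfsg.Agent.S0496.result hna (by omega) with e' | e' | e' | e' | e' | e' <;> omega

/-- An involution commuting with an element of order seven has the smaller centraliser. -/
theorem small : Small G := fun _ _ hk hy hc => (h.cz_seven hk hy hc).resolve_right (h.cz_seven_ne hk hy hc)

end Local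

end CfsgLib.M24Nse
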