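import Cfsg.Agent.M24Nse.Cent
import Cfsg.Agent.M24Nse.Endgame

/-!
The centraliser of the central involution is an extension of an extraspecial group by `L3(2)`.
-/

set_option autoImplicit false
set_option linter.style.haveILetI false
set_option linter.unusedSectionVars false
set_option maxHeartbeats 600000

namespace CfsgLib.M24Nse

open Subgroup CfsgLib.ThreeCounts CfsgLib.M12Nse

universe u

/-- In a group of order 168 that is simple, the normaliser of a subgroup of order three has order six. -/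
theorem card_norm_three_168 {Q : Type*} [Group Q] [Finite Q] [IsSimpleGroup Q] (hQ : Nat.card Q = 168) {x : Q}
    (hx : orderOf x = 3) : Nat.card (normalizer (zpowers x : Set Q)) = 6 := by
  haveI : Fact (Nat.Prime 3) := ⟨Nat.prime_three⟩
  have h3 : cnt Q 3 = 56 := (Cfsg.Agent.S1006.result hQ).1
  have hf : (Nat.card Q).factorization 3 = 1 :=
    factorization_one Nat.prime_three (show 3 * 56 = _ by rw [hQ]) (by norm_num)
  let P : Sylow 3 Q := Sylow.ofCard (zpowers x) (by rw [Nat.card_zpowers, hx, hf, pow_one])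
  have h2 : Nat.card (Sylow 3 Q) = (normalizer (zpowers x : Set Q)).index := P.card_eq_index_normalizer
  have h4 := (normalizer (zpowers x : Set Q)).card_mul_index
  rw [CfsgLib.Nse.card_sylow_prime hf] at h3
  rw [← h2, hQ, show Nat.card (Sylow 3 Q) = 28 by omega] at h4
  omega

namespace Local

variable {G : Type u} [Group G] [Finite G] (h : Local G) (hK : Small G)
include h hK

variable {k y : G} (hk : orderOf k = 2) (hy : orderOf y = 7) (hc : k * y = y * k)
include hk hy hc

/-- The centraliser of the central involution. -/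
theorem exists_core : ∃ (M : Subgroup (cz k)) (_ : M.Normal), Cfsg.IsExtraspecial 2 M ∧ Nat.card M = 2 ^ 7 ∧
    centralizer (M : Set (cz k)) ≤ M ∧
    Nonempty (cz k ⧸ M ≃* Matrix.SpecialLinearGroup (Fin 3) (ZMod 2)) := by
  classical
  haveI : Fact (Nat.Prime 2) := ⟨Nat.prime_two⟩
  haveI : Fact (Nat.Prime 3) := ⟨Nat.prime_three⟩
  haveI : Fact (Nat.Prime 7) := ⟨by norm_num⟩
  obtain ⟨M, hMn, ⟨e, hMe⟩, hkM, hsimple⟩ := h.exists_quot hK hk hy hc
  haveI := hMn
  haveI := hsimple
  set y' : cz k := ⟨y, mem_cz.2 hc.symm⟩ with hy'def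
  set k' : cz k := ⟨k, self_mem_cz k⟩ with hk'def
  have hy' : orderOf y' = 7 := by rw [← Subgroup.orderOf_coe]; exact hy
  have hk' : orderOf k' = 2 := by rw [← Subgroup.orderOf_coe]; exact hk
  have hcard := hK k y hk hy hc
  have hq := Subgroup.card_eq_card_quotient_mul_card_subgroup M
  rw [hcard, hMe] at hq
  have he : e ≤ 10 := by
    have hd : 2 ^ e ∣ 1024 * 21 := ⟨Nat.card (cz k ⧸ M), (show 1024 * 21 = _ from hq).trans (mul_comm _ _)⟩
    exact Nat.pow_dvd_pow_iff_le_right'.1 (show 2 ^ e ∣ 2 ^ 10 from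
      (Nat.Coprime.pow_left e (show Nat.Coprime 2 21 by norm_num)).dvd_of_dvd_mul_right hd)
  have hqc : Nat.card (cz k ⧸ M) = 7 * 2 ^ (10 - e) * 3 := by
    have h2 : 2 ^ (10 - e) * 2 ^ e = 1024 := by rw [← pow_add, show 10 - e + e = 10 by omega]; norm_num
    refine Nat.eq_of_mul_eq_mul_right (pow_pos two_pos e) ?_
    calc Nat.card (cz k ⧸ M) * 2 ^ e = 21 * (2 ^ (10 - e) * 2 ^ e) := by rw [h2, ← hq]
      _ = _ := by ring
  -- the quotient
  have hncy : ¬ IsCyclic (cz k ⧸ M) := fun hc' => by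
    letI : CommGroup (cz k ⧸ M) := IsCyclic.commGroup
    have hp := IsSimpleGroup.prime_card (α := cz k ⧸ M)
    rw [hqc] at hp
    rcases Nat.prime_mul_iff.1 hp with ⟨-, h'⟩ | ⟨-, h'⟩
    · norm_num at h'
    · have h7 : 7 ∣ 7 * 2 ^ (10 - e) := dvd_mul_right 7 _
      rw [h'] at h7
      norm_num at h7
  obtain ⟨F, _, _, hF, ⟨iso⟩⟩ : ∃ (F : Type) (_ : Field F) (_ : Fintype F), Fintype.card F = 7 ∧
      Nonempty (cz k ⧸ M ≃* Matrix.ProjectiveSpecialLinearGroup (Fin 2) F) := by
    rcases Cfsg.Agent.S0997.result hncy 7 2 (10 - e) 3 (by norm_num) Nat.prime_two (by norm_num) hqc (by norm_num) with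
      ⟨m, F, i1, i2, hF, -, hiso⟩ | ⟨m, F, i1, i2, -, hm, -, -⟩
    · exact ⟨F, i1, i2, hF, hiso⟩
    · exfalso
      rcases Nat.lt_or_ge m 3 with hm3 | hm3
      · interval_cases m <;> norm_num at hm
      · have := Nat.pow_le_pow_right (show 0 < 2 by norm_num) hm3
        omega
  obtain ⟨i2⟩ := Cfsg.Agent.S0255.result (F := F) (K := ZMod 2) hF (ZMod.card 2)
  let psl : Matrix.ProjectiveSpecialLinearGroup (Fin 3) (ZMod 2) ≃* Matrix.SpecialLinearGroup (Fin 3) (ZMod 2) :=
    (QuotientGroup.quotientMulEquivOfEq center_sl3_two).trans QuotientGroup.quotientBot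
  let eQ : cz k ⧸ M ≃* Matrix.SpecialLinearGroup (Fin 3) (ZMod 2) := (iso.trans i2).trans psl
  have h168 : Nat.card (cz k ⧸ M) = 168 := by rw [Nat.card_congr eQ.toEquiv]; exact CfsgLib.HeldMod.l32_card
  have hM : Nat.card M = 128 := by
    rw [h168] at hq
    rw [hMe]
    omega
  have hM7 : Nat.card M = 2 ^ 7 := by rw [hM]; norm_num
  have hMp : IsPGroup 2 M := IsPGroup.of_card hM7
  have hpow : ∀ m ∈ M, m ^ 2 ^ 7 = 1 := fun m hm => by
    have := pow_card_eq_one' (x := (⟨m, hm⟩ : M))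
    rw [hM7] at this
    exact congrArg Subtype.val this
  have hfix : ∀ m ∈ M, m * y' = y' * m → m = 1 ∨ m = k' := fun m hm e' =>
    h.fix_two hK hk hy hc (hpow m hm) (congrArg Subtype.val e')
  have hkcen : ∀ g : cz k, g * k' = k' * g := fun g => Subtype.ext (mem_cz.1 g.2)
  -- self-centralising
  have hC : centralizer (M : Set (cz k)) ≤ M := by
    set C := centralizer (M : Set (cz k)) with hCdef
    haveI hCn : C.Normal := ⟨fun c hc' g => mem_centralizer_iff.2 fun m hm => by
      have := mem_centralizer_iff.1 hc' (g⁻¹ * m * g) (by simpa using hMn.conj_mem m hm g⁻¹)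
      calc m * (g * c * g⁻¹) = g * (g⁻¹ * m * g * c) * g⁻¹ := by group
        _ = _ := by rw [this]; group⟩
    have hn : (C.map (QuotientGroup.mk' M)).Normal := Subgroup.Normal.map inferInstance _ (QuotientGroup.mk'_surjective M)
    rcases hn.eq_bot_or_eq_top with hb | ht
    · rwa [Subgroup.map_eq_bot_iff, QuotientGroup.ker_mk'] at hb
    · exfalso
      have h7 : 7 ∣ Nat.card C := by
        refine dvd_trans (show 7 ∣ Nat.card (C.map (QuotientGroup.mk' M)) from ?_) (card_map_dvd _ _)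
        rw [ht, Subgroup.card_top, h168]; norm_num
      obtain ⟨⟨c, hcC⟩, hc7⟩ := exists_prime_orderOf_dvd_card' (G := C) 7 h7
      rw [Subgroup.orderOf_mk] at hc7
      have hf7 : (Nat.card (cz k)).factorization 7 = 1 :=
        factorization_one (by norm_num) (show 7 * 3072 = _ by rw [hcard]) (by norm_num)
      obtain ⟨g, hg⟩ := exists_conj_mem hf7 hc7 hy'
      have hg1 : g * c * g⁻¹ ≠ 1 := fun e' => by
        rw [conj_eq_one_iff] at e'
        rw [e', orderOf_one] at hc7
        norm_num at hc7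
      have hle : M ≤ zpowers k' := fun m hm => by
        rcases hfix m hm (commute_of_mem_zpowers hy' hg hg1 (mem_centralizer_iff.1 (hCn.conj_mem c hcC g) m hm)) with e' | e'
        · rw [e']; exact one_mem _
        · rw [e']; exact mem_zpowers k'
      have := Subgroup.card_le_of_le hle
      rw [hM, Nat.card_zpowers, hk'] at this
      norm_num at this
  -- the element of order three
  obtain ⟨r, hr, hry⟩ := h.exists_rotor hK hk hy hc
  rw [← hy'def] at hry
  have hru : orderOf (r : G) = 3 := (Subgroup.orderOf_coe r).trans hr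
  have hN48 := h.card_norm_three hK hk r hr
  set N := normalizer (zpowers r : Set (cz k)) with hNdef
  let π : N →* cz k ⧸ M := (QuotientGroup.mk' M).comp N.subtype
  have hker : Nat.card π.ker ≤ Nat.card ↥(M ⊓ cz r) := by
    have hkm : ∀ n : π.ker, ((n : N) : cz k) ∈ M := fun n =>
      (QuotientGroup.eq_one_iff _).1 (MonoidHom.mem_ker.1 n.2)
    refine Nat.card_le_card_of_injective (fun n => (⟨((n : N) : cz k), hkm n, mem_cz.2 ?_⟩ : ↥(M ⊓ cz r)))
      fun a b e' => Subtype.ext (Subtype.ext (congrArg (fun z : ↥(M ⊓ cz r) => (z : cz k)) e'))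
    set m := ((n : N) : cz k) with hm
    have hmN : m ∈ N := (n : N).2
    have hz : m * r * m⁻¹ * r⁻¹ ∈ zpowers r :=
      mul_mem ((mem_normalizer_iff.1 hmN r).1 (mem_zpowers r)) (inv_mem (mem_zpowers r))
    have hzM : m * r * m⁻¹ * r⁻¹ ∈ M := by
      rw [show m * r * m⁻¹ * r⁻¹ = m * (r * m⁻¹ * r⁻¹) by group]
      exact mul_mem (hkm n) (hMn.conj_mem _ (inv_mem (hkm n)) r)
    have d1 := Subgroup.orderOf_dvd_natCard _ hz
    rw [Nat.card_zpowers, hr] at d1
    have d2 : orderOf (m * r * m⁻¹ * r⁻¹) ∣ 128 := hM ▸ Subgroup.orderOf_dvd_natCard _ hzM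
    exact mul_inv_eq_iff_eq_mul.1 (mul_inv_eq_one.1
      (orderOf_eq_one_iff.1 (Nat.eq_one_of_dvd_coprimes (by norm_num) d1 d2)))
  have hr' : orderOf (r : cz k ⧸ M) = 3 := by
    refine orderOf_eq_prime ?_ fun e' => ?_
    · rw [← QuotientGroup.mk_pow, ← hr, pow_orderOf_eq_one]; rfl
    · have d : orderOf r ∣ 128 := hM ▸ Subgroup.orderOf_dvd_natCard _ ((QuotientGroup.eq_one_iff r).1 e')
      rw [hr] at d
      norm_num at d
  have hrange : Nat.card π.range ≤ 6 := by
    rw [← card_norm_three_168 h168 hr']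
    refine Subgroup.card_le_of_le ?_
    rintro _ ⟨n, rfl⟩
    have hone : ∀ n : N, ∀ z ∈ zpowers (r : cz k ⧸ M), π n * z * (π n)⁻¹ ∈ zpowers (r : cz k ⧸ M) := by
      intro n z hz
      obtain ⟨i, rfl⟩ := mem_zpowers_iff.1 hz
      obtain ⟨j, hj⟩ := mem_zpowers_iff.1 ((mem_normalizer_iff.1 n.2 _).1 (zpow_mem (mem_zpowers r) i))
      refine mem_zpowers_iff.2 ⟨j, ?_⟩
      show _ = ((n : cz k) : cz k ⧸ M) * _ * _
      rw [← QuotientGroup.mk_zpow, hj, QuotientGroup.mk_mul, QuotientGroup.mk_mul, QuotientGroup.mk_inv, QuotientGroup.mk_zpow]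
      rfl
    refine mem_normalizer_iff.2 fun z => ⟨hone n z, fun hz => ?_⟩
    have := hone n⁻¹ _ hz
    simpa [mul_assoc] using this
  have h24 : Nat.card (cz r) = 24 := by
    rw [card_cz_sub]; exact h.inf_eq hK hk hru (mem_cz.1 r.2)
  have h8 : Nat.card ↥(M ⊓ cz r) = 8 := by
    have hd : Nat.card ↥(M ⊓ cz r) ∣ 8 := by
      have := Nat.dvd_gcd (show Nat.card ↥(M ⊓ cz r) ∣ 128 from hM ▸ card_dvd_of_le inf_le_left)
        (show Nat.card ↥(M ⊓ cz r) ∣ 24 from h24 ▸ card_dvd_of_le inf_le_right)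
      simpa using this
    have hle := Nat.le_of_dvd (by norm_num) hd
    have hcount := Subgroup.card_eq_card_quotient_mul_card_subgroup π.ker
    rw [hN48, Nat.card_congr (QuotientGroup.quotientKerEquivRange π).toEquiv] at hcount
    have h48 : 48 ≤ 6 * Nat.card ↥(M ⊓ cz r) := hcount ▸ Nat.mul_le_mul hrange hker
    omega
  have hnonab : ∃ a ∈ M ⊓ cz r, ∃ b ∈ M ⊓ cz r, a * b ≠ b * a := by
    by_contra hcon
    push Not at hcon
    refine h.not_comm_three hK hru ((M ⊓ cz r).map (cz k).subtype) ?_ ?_ ?_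
    · rintro _ ⟨s, hs, rfl⟩
      exact mem_cz.2 (congrArg Subtype.val (mem_cz.1 hs.2))
    · rw [card_map_of_injective (cz k).subtype_injective, h8]
    · rintro _ ⟨a, ha, rfl⟩ _ ⟨b, hb, rfl⟩
      exact congrArg Subtype.val (hcon a ha b hb)
  -- the centre
  have hcenter : ∀ m ∈ M, (∀ a ∈ M, a * m = m * a) → m = 1 ∨ m = k' := by
    let Z : Subgroup (cz k) := M ⊓ centralizer (M : Set (cz k))
    have hZ : ∀ g, g ∈ Z ↔ g ∈ M ∧ ∀ a ∈ M, a * g = g * a := fun g =>
      and_congr Iff.rfl mem_centralizer_iff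
    intro m hm hma
    by_contra hne
    have hmZ : m ∈ Z := (hZ m).2 ⟨hm, hma⟩
    have hkZ : k' ∈ Z := (hZ k').2 ⟨hkM, fun a _ => hkcen a⟩
    have hconj : ∀ c g, g ∈ Z → c * g * c⁻¹ ∈ Z := fun c g hg => by
      refine (hZ _).2 ⟨hMn.conj_mem g hg.1 c, fun a ha => ?_⟩
      have := ((hZ g).1 hg).2 (c⁻¹ * a * c) (by simpa using hMn.conj_mem a ha c⁻¹)
      calc a * (c * g * c⁻¹) = c * (c⁻¹ * a * c * g) * c⁻¹ := by group
        _ = _ := by rw [this]; group
    have hiff : ∀ c g, g ∈ Z ↔ c * g * c⁻¹ ∈ Z := fun c g => ⟨hconj c g, fun hg => by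
      simpa [mul_assoc] using hconj c⁻¹ _ hg⟩
    have hd : Nat.card Z ∣ 128 := hM ▸ card_dvd_of_le inf_le_left
    have h7 : Nat.card Z % 7 = 2 % 7 := by
      have hmod := card_modEq_fixed (p := 7) (n := 1) (x := y') (by rw [pow_one, ← hy', pow_orderOf_eq_one])
        (fun g => g ∈ Z) (hiff y')
      rw [show Nat.card {g : cz k // g ∈ Z ∧ g * y' = y' * g} = 2 from by
        rw [Nat.card_congr (Equiv.subtypeEquivRight (q := fun g => g ∈ ({1, k'} : Set (cz k))) fun g => ?_),
          Nat.card_coe_set_eq, Set.ncard_pair (fun e' => by rw [← e', orderOf_one] at hk'; norm_num at hk')]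
        constructor
        · exact fun hg => hfix g hg.1.1 hg.2
        · rintro (rfl | rfl)
          · exact ⟨one_mem _, by simp⟩
          · exact ⟨hkZ, (hkcen y').symm⟩] at hmod
      exact hmod
    have hgt : 2 < Nat.card Z := by
      have hsub : ({1, k', m} : Set (cz k)) ⊆ (Z : Set (cz k)) := by
        rintro g (rfl | rfl | rfl)
        · exact one_mem _
        · exact hkZ
        · exact hmZ
      have h3 : ({1, k', m} : Set (cz k)).ncard = 3 := Set.ncard_eq_three.2 ⟨1, k', m,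
        fun e' => by rw [← e', orderOf_one] at hk'; norm_num at hk', fun e' => hne (Or.inl e'.symm),
        fun e' => hne (Or.inr e'.symm), rfl⟩
      have := Set.ncard_le_ncard hsub
      rw [h3, ← Nat.card_coe_set_eq (Z : Set (cz k))] at this
      exact this
    have key : ∀ n ∈ Nat.divisors 128, n % 7 = 2 % 7 → 2 < n → n = 16 ∨ n = 128 := by decide +kernel
    obtain ⟨a, ha, b, hb, hne'⟩ := hnonab
    rcases key _ (Nat.mem_divisors.2 ⟨hd, by norm_num⟩) h7 hgt with e16 | e128
    · -- a third fixed central element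
      let W : Subgroup (cz k) := Z ⊓ cz r
      have hmod := card_modEq_fixed (p := 3) (n := 1) (x := r) (by rw [pow_one, ← hr, pow_orderOf_eq_one])
        (fun g => g ∈ Z) (hiff r)
      rw [show Nat.card {g : cz k // g ∈ Z} = 16 from e16,
        show Nat.card {g : cz k // g ∈ Z ∧ g * r = r * g} = Nat.card W from
          Nat.card_congr (Equiv.subtypeEquivRight fun g => by simp only [W, Subgroup.mem_inf, mem_cz])] at hmod
      have hW2 : 2 ∣ Nat.card W := by
        rw [← hk']; exact Subgroup.orderOf_dvd_natCard W ⟨hkZ, mem_cz.2 (hkcen r).symm⟩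
      let C : Subgroup (cz k) := (M ⊓ cz r) ⊓ cz a
      have hWC : W ≤ C := fun g hg => ⟨⟨hg.1.1, hg.2⟩, mem_cz.2 ((((hZ g).1 hg.1).2 a ha.1).symm)⟩
      have haC : a ∈ C := ⟨ha, self_mem_cz a⟩
      have hC8 : Nat.card C ∣ 8 := h8 ▸ card_dvd_of_le inf_le_left
      have hWd : Nat.card W ∣ Nat.card C := card_dvd_of_le hWC
      have haW : a ∉ W := fun haW => hne' (((hZ a).1 haW.1).2 b hb.1).symm
      have hlt : Nat.card W ≠ Nat.card C := fun e' => haW
        (Subgroup.eq_of_le_of_card_ge hWC e'.ge ▸ haC)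
      have key2 : ∀ w ∈ Nat.divisors 8, ∀ c ∈ Nat.divisors 8, 16 % 3 = w % 3 → 2 ∣ w → w ∣ c → w ≠ c → c = 8 := by
        decide +kernel
      have hCeq : C = M ⊓ cz r := Subgroup.eq_of_le_of_card_ge inf_le_left (by
        rw [h8, key2 _ (Nat.mem_divisors.2 ⟨hWd.trans hC8, by norm_num⟩) _ (Nat.mem_divisors.2 ⟨hC8, by norm_num⟩)
          hmod hW2 hWd hlt])
      exact hne' (mem_cz.1 (show b ∈ C from hCeq.symm ▸ hb).2).symm
    · have hZM : Z = M := Subgroup.eq_of_le_of_card_ge inf_le_left (by rw [e128, hM])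
      exact hne' (((hZ b).1 (hZM.symm ▸ hb.1)).2 a ha.1)
  have D : Extra.Data M k' y' r :=
    { normal := hMn
      card := hM
      k_mem := hkM
      k_order := hk'
      k_cent := hkcen
      y_pow := by rw [← hy', pow_orderOf_eq_one]
      rel := hry
      r_pow := by rw [← hr, pow_orderOf_eq_one]
      fix := hfix
      center := hcenter
      card_r := h8
      nonab := hnonab }
  exact ⟨M, hMn, D.isExtraspecial, hM7, hC, ⟨eQ⟩⟩

end Local

/-- A group with the local data is the Mathieu group. -/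
theorem Local.iso_m24 {G : Type u} [Group G] [Finite G] (h : Local G) (hK : Small G) :
    Nonempty (G ≃* Cfsg.M24) := by
  haveI := h.simple
  haveI : Fact (Nat.Prime 7) := ⟨by norm_num⟩
  obtain ⟨y, hy⟩ := h.exists_order (p := 7) (by norm_num)
  obtain ⟨⟨k, hk, hky⟩⟩ := (Nat.card_ne_zero.1 (show Nat.card {g : G // orderOf g = 2 ∧ g * y = y * g} ≠ 0 by
    rw [h.seven_two y hy]; norm_num)).1
  obtain ⟨M, hMn, hE, hM, hC, ⟨e⟩⟩ := h.exists_core hK hk hy hky
  haveI := hMn
  exact iso_m24_of_cent h.card k hk M hE hM hC e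

end CfsgLib.M24Nse
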