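import Cfsg.Agent.M24Nse.Invol

/-!
The centralisers of elements of order three, from the number of elements of order six.
-/

set_option autoImplicit false
set_option linter.style.haveILetI false
set_option linter.unusedSectionVars false
set_option maxHeartbeats 400000

namespace CfsgLib.M24Nse

open Subgroup CfsgLib.ThreeCounts CfsgLib.M12Nse

universe u

variable {G : Type u} [Group G] [Finite G]

/-- The hypothesis excluding the smaller class of involutions. -/
def Small (G : Type u) [Group G] : Prop :=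
  ∀ k y : G, orderOf k = 2 → orderOf y = 7 → k * y = y * k → Nat.card (cz k) = 21504

theorem card_inf_cz (a b : G) :
    Nat.card ↥(cz a ⊓ cz b) = Nat.card {g : G // g * a = a * g ∧ g * b = b * g} :=
  Nat.card_congr (Equiv.subtypeEquivRight fun g => by simp only [Subgroup.mem_inf, mem_cz])

theorem card_cz_sub {a : G} (x : cz a) : Nat.card (cz x) = Nat.card ↥(cz a ⊓ cz (x : G)) :=
  Nat.card_congr
    { toFun := fun g => ⟨g.1.1, g.1.2, mem_cz.2 (congrArg Subtype.val (mem_cz.1 g.2))⟩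
      invFun := fun g => ⟨⟨g.1, g.2.1⟩, mem_cz.2 (Subtype.ext (mem_cz.1 g.2.2))⟩
      left_inv := fun _ => rfl
      right_inv := fun _ => rfl }

theorem factorization_one {n p m : ℕ} (hp : p.Prime) (he : p * m = n) (hm : ¬ p ∣ m) : n.factorization p = 1 := by
  have hm0 : m ≠ 0 := fun e => hm (by rw [e]; exact dvd_zero p)
  rw [← he, Nat.factorization_mul hp.ne_zero hm0, Finsupp.add_apply, hp.factorization_self,
    Nat.factorization_eq_zero_of_not_dvd hm]

/-- A subtype split by a predicate. -/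
theorem card_split {α : Type*} [Finite α] (P A : α → Prop) :
    Nat.card {x // P x} = Nat.card {x // P x ∧ A x} + Nat.card {x // P x ∧ ¬ A x} := by
  classical
  rw [← Nat.card_sum]
  refine Nat.card_congr ((Equiv.sumCompl fun x : {x // P x} => A x.1).symm.trans (Equiv.sumCongr ?_ ?_))
  · exact Equiv.subtypeSubtypeEquivSubtypeInter P A
  · exact Equiv.subtypeSubtypeEquivSubtypeInter P fun x => ¬ A x

/-- Counts in centralisers of conjugate elements agree. -/
theorem cnt_cz_eq {a b : G} (hab : IsConj a b) (n : ℕ) : cnt ↥(cz b) n = cnt ↥(cz a) n := by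
  obtain ⟨c, rfl⟩ := isConj_iff.1 hab
  rw [cnt_cz, cnt_cz]
  refine (Nat.card_congr (conjEquiv c _ _ fun g => ?_)).symm
  refine and_congr (by rw [show orderOf (c * g * c⁻¹) = orderOf g from (MulAut.conj c).orderOf_eq g]) ?_
  constructor
  · intro e
    calc c * g * c⁻¹ * (c * a * c⁻¹) = c * (g * a) * c⁻¹ := by group
      _ = _ := by rw [e]; group
  · intro e
    have := congrArg (fun v => c⁻¹ * v * c) e
    simpa [mul_assoc] using this

/-- The arithmetic of the centraliser order of an element commuting with one of order five and seven. -/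
theorem both_arith {n m m' : ℕ} (hn : n ∣ 15120) (h9 : 9 ∣ n) (h5 : 5 ∣ n) (h7 : 7 ∣ n) (h32 : ¬ 32 ∣ n)
    (e : 2 * n = 15 * m) (e' : 2 * n = 21 * m') (a : 4 ∣ m) (b : 5 ∣ m + 1) (b' : 7 ∣ m' + 1) : False := by
  obtain ⟨j, rfl⟩ : 315 ∣ n :=
    Nat.Coprime.mul_dvd_of_dvd_of_dvd (show Nat.Coprime 63 5 by norm_num) (Nat.Coprime.mul_dvd_of_dvd_of_dvd (show Nat.Coprime 9 7 by norm_num) h9 h7) h5
  have hj : j ∣ 48 := Nat.dvd_of_mul_dvd_mul_left (k := 315) (by norm_num) (by norm_num; exact hn)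
  have key : ∀ k ∈ Nat.divisors 48, k % 32 ≠ 0 →
      (42 * k) % 4 = 0 → (42 * k + 1) % 5 = 0 → (30 * k + 1) % 7 = 0 → False := by decide +kernel
  obtain rfl : m = 42 * j := Nat.eq_of_mul_eq_mul_left (show 0 < 15 by norm_num) (by rw [← e, ← mul_assoc, ← mul_assoc]; norm_num)
  obtain rfl : m' = 30 * j := Nat.eq_of_mul_eq_mul_left (show 0 < 21 by norm_num) (by rw [← e', ← mul_assoc, ← mul_assoc]; norm_num)
  exact key j (Nat.mem_divisors.2 ⟨hj, by norm_num⟩)
    (fun h => h32 ((Nat.dvd_of_mod_eq_zero h).trans (dvd_mul_left j 315)))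
    (Nat.mod_eq_zero_of_dvd a) (Nat.mod_eq_zero_of_dvd b) (Nat.mod_eq_zero_of_dvd b')

/-- The arithmetic of the centraliser order of an element commuting with one of order five. -/
theorem five_arith {n m c : ℕ} (hn : n ∣ 15120) (h9 : 9 ∣ n) (h5 : 5 ∣ n) (h7 : ¬ 7 ∣ n) (h32 : ¬ 32 ∣ n)
    (hc : c = 1 ∨ c = 2) (e : 2 * n = 15 * (c * m)) (a : 4 ∣ m) (b : 5 ∣ m + 1) (hm : 46 ≤ m) :
    c = 1 ∧ n = 1080 ∨ c = 2 ∧ n = 2160 := by
  obtain ⟨j, rfl⟩ : 45 ∣ n := Nat.Coprime.mul_dvd_of_dvd_of_dvd (show Nat.Coprime 9 5 by norm_num) h9 h5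
  have hj : j ∣ 336 := Nat.dvd_of_mul_dvd_mul_left (k := 45) (by norm_num) (by norm_num; exact hn)
  have key : ∀ k ∈ Nat.divisors 336, k % 7 ≠ 0 → k % 32 ≠ 0 →
      ((6 * k) % 4 = 0 → (6 * k + 1) % 5 = 0 → 46 ≤ 6 * k → k = 24) ∧
      ((3 * k) % 4 = 0 → (3 * k + 1) % 5 = 0 → 46 ≤ 3 * k → k = 48) := by decide +kernel
  have k1 := key j (Nat.mem_divisors.2 ⟨hj, by norm_num⟩)
    (fun h => h7 ((Nat.dvd_of_mod_eq_zero h).trans (dvd_mul_left j 45)))
    (fun h => h32 ((Nat.dvd_of_mod_eq_zero h).trans (dvd_mul_left j 45)))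
  rcases hc with rfl | rfl
  · obtain rfl : m = 6 * j := Nat.eq_of_mul_eq_mul_left (show 0 < 15 by norm_num)
      (by rw [one_mul] at e; omega)
    exact Or.inl ⟨rfl, by rw [k1.1 (Nat.mod_eq_zero_of_dvd a) (Nat.mod_eq_zero_of_dvd b) hm]⟩
  · obtain rfl : m = 3 * j := Nat.eq_of_mul_eq_mul_left (show 0 < 30 by norm_num)
      (by rw [← mul_assoc 15] at e; norm_num at e; omega)
    exact Or.inr ⟨rfl, by rw [k1.2 (Nat.mod_eq_zero_of_dvd a) (Nat.mod_eq_zero_of_dvd b) hm]⟩

namespace Local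

variable (h : Local G) (hK : Small G)
include h hK

theorem inv_class_eq {u u' : G} (hu : orderOf u = 2) (hu' : orderOf u' = 2)
    (he : Nat.card (cz u) = Nat.card (cz u')) : IsConj u u' := by
  rcases h.inv_cases hK hu with ⟨e1, y, hy, hc⟩ | ⟨e1, y, hy, hc⟩ <;>
    rcases h.inv_cases hK hu' with ⟨e2, y', hy', hc'⟩ | ⟨e2, y', hy', hc'⟩
  · exact h.isConj_seven hu hu' hy hy' hc hc'
  · rw [e1, e2] at he; norm_num at he
  · rw [e1, e2] at he; norm_num at he
  · exact h.isConj_five hu hu' hy hy' hc hc'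

/-- The normaliser of a subgroup of order three in the centraliser of an involution. -/
theorem card_norm_three {u : G} (hu : orderOf u = 2) (x : cz u) (hx : orderOf x = 3) :
    Nat.card (normalizer (zpowers x : Set (cz u))) = 48 := by
  classical
  haveI : Fact (Nat.Prime 3) := ⟨Nat.prime_three⟩
  haveI : Fact (Nat.Prime 5) := ⟨by norm_num⟩
  haveI : Fact (Nat.Prime 7) := ⟨by norm_num⟩
  obtain ⟨v, hv⟩ := h.exists_order (p := 5) (by norm_num)
  obtain ⟨w, hw⟩ := h.exists_order (p := 7) (by norm_num)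
  obtain ⟨⟨t, ht, htv⟩⟩ := (Nat.card_ne_zero.1 (show Nat.card {g : G // orderOf g = 2 ∧ g * v = v * g} ≠ 0 by
    rw [h.five_two v hv]; norm_num)).1
  obtain ⟨⟨k, hk, hkw⟩⟩ := (Nat.card_ne_zero.1 (show Nat.card {g : G // orderOf g = 2 ∧ g * w = w * g} ≠ 0 by
    rw [h.seven_two w hw]; norm_num)).1
  have hkc : Nat.card (cz k) = 21504 := hK k w hk hw hkw
  have htc : Nat.card (cz t) = 7680 := h.cz_five ht hv htv
  have hki : (cz k).index = 11385 := by have := index_eq_div hkc; rw [h.card] at this; omega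
  have hti : (cz t).index = 31878 := by have := index_eq_div htc; rw [h.card] at this; omega
  have fk : (Nat.card (cz k)).factorization 3 = 1 :=
    factorization_one Nat.prime_three (show 3 * 7168 = _ by rw [hkc]) (by norm_num)
  have ft : (Nat.card (cz t)).factorization 3 = 1 :=
    factorization_one Nat.prime_three (show 3 * 2560 = _ by rw [htc]) (by norm_num)
  set a := Nat.card (Sylow 3 (cz k))
  set b := Nat.card (Sylow 3 (cz t))
  have hcl : ∀ g : G, orderOf g = 2 → ¬ IsConj k g → IsConj t g := by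
    intro g hg hn
    rcases h.inv_cases hK hg with ⟨e, -⟩ | ⟨e, -⟩
    · exact absurd (h.inv_class_eq hK hk hg (hkc.trans e.symm)) hn
    · exact h.inv_class_eq hK ht hg (htc.trans e.symm)
  have hnkt : ¬ IsConj k t := fun e => by
    have := card_cz_conj e
    rw [hkc, htc] at this
    norm_num at this
  have six : 20401920 = 11385 * (a * (3 - 1)) + 31878 * (b * (3 - 1)) := by
    rw [← h.six_count, show (6 : ℕ) = 2 * 3 from rfl,
      show cnt G (2 * 3) = Nat.card {p : G × G // orderOf p.1 = 2 ∧ orderOf p.2 = 3 ∧ Commute p.1 p.2} from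
        CfsgLib.M12Nse.cnt_mul (G := G) (a := 2) (b := 3) (by norm_num) (by norm_num) (by norm_num),
      card_split _ (fun q : G × G => IsConj k q.1), ← hki, ← hti, ← card_conj, ← card_conj,
      ← CfsgLib.Nse.card_sylow_prime fk, ← CfsgLib.Nse.card_sylow_prime ft,
      ← card_pairs (IsConj k) (fun g b => orderOf b = 3 ∧ Commute g b) (m := cnt ↥(cz k) 3),
      ← card_pairs (IsConj t) (fun g b => orderOf b = 3 ∧ Commute g b) (m := cnt ↥(cz t) 3)]
    · congr 1
      · exact Nat.card_congr (Equiv.subtypeEquivRight fun q => ⟨fun e => ⟨e.2, e.1.2⟩,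
          fun e => ⟨⟨(orderOf_eq_of_isConj e.1).trans hk, e.2⟩, e.1⟩⟩)
      · exact Nat.card_congr (Equiv.subtypeEquivRight fun q => ⟨fun e => ⟨hcl _ e.1.1 e.2, e.1.2⟩,
          fun e => ⟨⟨(orderOf_eq_of_isConj e.1).trans ht, e.2⟩, fun e' => hnkt (e'.trans e.1.symm)⟩⟩)
    · intro g hg
      rw [← cnt_cz_eq hg, cnt_cz]
      exact Nat.card_congr (Equiv.subtypeEquivRight fun q => and_congr Iff.rfl ⟨Eq.symm, Eq.symm⟩)
    · intro g hg
      rw [← cnt_cz_eq hg, cnt_cz]
      exact Nat.card_congr (Equiv.subtypeEquivRight fun q => and_congr Iff.rfl ⟨Eq.symm, Eq.symm⟩)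
  have hd : ∀ (H : Subgroup G) (n : ℕ), Nat.card H = 3 * n → (Nat.card H).factorization 3 = 1 →
      Nat.card (Sylow 3 H) ∣ n := fun H n hn hf => by
    obtain ⟨P⟩ : Nonempty (Sylow 3 H) := inferInstance
    have h1 := P.card_dvd_index
    have h2 := (P : Subgroup H).card_mul_index
    rw [P.card_eq_multiplicity, hf, pow_one, hn] at h2
    rwa [Nat.eq_of_mul_eq_mul_left (by norm_num) h2] at h1
  have hab : a = 448 ∧ b = 160 := by
    have key : ∀ x ∈ Nat.divisors 7168, ∀ y ∈ Nat.divisors 2560, 5 * x + 14 * y = 4480 → x = 448 ∧ y = 160 := by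
      decide +kernel
    exact key a (Nat.mem_divisors.2 ⟨hd _ _ hkc fk, by norm_num⟩) b
      (Nat.mem_divisors.2 ⟨hd _ _ htc ft, by norm_num⟩) (by omega)
  have fu : (Nat.card (cz u)).factorization 3 = 1 := by
    rcases h.inv_cases hK hu with ⟨e, -⟩ | ⟨e, -⟩
    · rw [e, ← hkc]; exact fk
    · rw [e, ← htc]; exact ft
  let P : Sylow 3 (cz u) := Sylow.ofCard (zpowers x) (by rw [Nat.card_zpowers, hx, fu, pow_one])
  have h2 : Nat.card (Sylow 3 (cz u)) = (normalizer (zpowers x : Set (cz u))).index := P.card_eq_index_normalizer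
  have h3 := (normalizer (zpowers x : Set (cz u))).card_mul_index
  have hc3 := CfsgLib.Nse.card_sylow_prime fu
  rcases h.inv_cases hK hu with ⟨e, -⟩ | ⟨e, -⟩
  · have hconj := h.inv_class_eq hK hk hu (hkc.trans e.symm)
    rw [cnt_cz_eq hconj, CfsgLib.Nse.card_sylow_prime fk] at hc3
    rw [← h2, e, show Nat.card (Sylow 3 (cz u)) = 448 by omega] at h3
    omega
  · have hconj := h.inv_class_eq hK ht hu (htc.trans e.symm)
    rw [cnt_cz_eq hconj, CfsgLib.Nse.card_sylow_prime ft] at hc3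
    rw [← h2, e, show Nat.card (Sylow 3 (cz u)) = 160 by omega] at h3
    omega

theorem inf_dvd {u r : G} (hu : orderOf u = 2) (hr : orderOf r = 3) (hc : r * u = u * r) :
    Nat.card ↥(cz u ⊓ cz r) ∣ 48 := by
  set x : cz u := ⟨r, mem_cz.2 hc⟩ with hxdef
  have hx : orderOf x = 3 := by rw [← Subgroup.orderOf_coe]; exact hr
  rw [show cz r = cz (x : G) from rfl, ← card_cz_sub, ← h.card_norm_three hK hu x hx]
  refine card_dvd_of_le fun g hg => centralizer_le_normalizer _ (mem_centralizer_iff.2 ?_)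
  rintro _ ⟨n, rfl⟩
  exact ((show Commute g x from mem_cz.1 hg).zpow_right n).eq.symm

/-- No group of order nine is centralised by an involution. -/
theorem not_nine {u r : G} (hu : orderOf u = 2) (hr : orderOf r = 3) (hc : r * u = u * r) :
    ¬ 9 ∣ Nat.card ↥(cz u ⊓ cz r) := fun hd => by
  have := hd.trans (h.inf_dvd hK hu hr hc)
  norm_num at this

theorem cz_three_two {r : G} (hr : orderOf r = 3) : ¬ 32 ∣ Nat.card (cz r) := by
  haveI : Fact (Nat.Prime 2) := ⟨Nat.prime_two⟩
  intro hd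
  obtain ⟨S, hS⟩ := Sylow.exists_subgroup_card_pow_prime (G := cz r) 2 (n := 5) hd
  have hS' : IsPGroup 2 S := IsPGroup.of_card hS
  haveI : Nontrivial S := Finite.one_lt_card_iff_nontrivial.1 (by rw [hS]; norm_num)
  haveI := hS'.center_nontrivial
  obtain ⟨⟨c, hc⟩, hco⟩ := exists_prime_orderOf_dvd_card' (G := center S) 2 (by
    obtain ⟨n, hn⟩ := IsPGroup.iff_card.1 (hS'.to_subgroup (center S))
    have : 1 < Nat.card (center S) := Finite.one_lt_card
    rw [hn]
    exact dvd_pow_self 2 (fun e => by rw [hn, e] at this; norm_num at this))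
  rw [Subgroup.orderOf_mk] at hco
  have hu : orderOf ((c : cz r) : G) = 2 := by rw [Subgroup.orderOf_coe, Subgroup.orderOf_coe]; exact hco
  have hle : S.map (cz r).subtype ≤ cz ((c : cz r) : G) ⊓ cz r := by
    rintro _ ⟨g, hg, rfl⟩
    exact ⟨mem_cz.2 (congrArg (fun v : S => ((v : cz r) : G)) (mem_center_iff.1 hc ⟨g, hg⟩)), g.2⟩
  have h32 := card_dvd_of_le hle
  rw [card_map_of_injective (cz r).subtype_injective, hS] at h32
  have := h32.trans (h.inf_dvd hK hu hr (mem_cz.1 c.1.2).symm)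
  norm_num at this

theorem cz_three_dvd {r : G} (hr : orderOf r = 3) : Nat.card (cz r) ∣ 15120 := by
  set n := Nat.card (cz r)
  have hd := h.cz_dvd hr (by norm_num) (by norm_num)
  have e : n.gcd (1024 * 945) = n.gcd 1024 * n.gcd 945 :=
    Nat.Coprime.gcd_mul n (by norm_num)
  rw [show 1024 * 945 = 967680 from rfl, Nat.gcd_eq_left hd] at e
  show n ∣ 15120
  rw [show n = n.gcd 1024 * n.gcd 945 from e, show (15120 : ℕ) = 16 * 945 from rfl]
  refine Nat.mul_dvd_mul ?_ (Nat.gcd_dvd_right n 945)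
  obtain ⟨i, -, hi⟩ := (Nat.dvd_prime_pow Nat.prime_two).1 (show n.gcd 1024 ∣ 2 ^ 10 from Nat.gcd_dvd_right n 1024)
  rw [hi, show (16 : ℕ) = 2 ^ 4 from rfl]
  refine pow_dvd_pow 2 ?_
  by_contra hlt
  exact h.cz_three_two hK hr ((show 32 ∣ 2 ^ i from pow_dvd_pow 2 (show 5 ≤ i by omega)).trans
    (hi ▸ Nat.gcd_dvd_left n 1024))

theorem nine_dvd {r : G} (hr : orderOf r = 3) : 9 ∣ Nat.card (cz r) := by
  haveI : Fact (Nat.Prime 3) := ⟨Nat.prime_three⟩
  by_contra hn
  have hrC : r ∈ cz r := self_mem_cz r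
  have h3 : 3 ∣ Nat.card (cz r) := hr ▸ dvd_cz_of_commute rfl
  have hk : (Nat.card (cz r)).factorization 3 = 1 := by
    refine le_antisymm ?_ ((Nat.prime_three.dvd_iff_one_le_factorization Nat.card_pos.ne').1 h3)
    by_contra hle
    exact hn ((Nat.prime_three.pow_dvd_iff_le_factorization (k := 2) Nat.card_pos.ne').2 (by omega))
  have hp : IsPGroup 3 (zpowers r) := IsPGroup.of_card (n := 1) (by rw [Nat.card_zpowers, hr, pow_one])
  obtain ⟨P, hP⟩ := hp.exists_le_sylow
  have hrP : r ∈ (P : Subgroup G) := hP (mem_zpowers r)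
  have hcP : Nat.card (P : Subgroup G) = 27 := by
    rw [P.card_eq_multiplicity, h.card, show 244823040 = 3 ^ 3 * 9067520 by norm_num,
      Nat.factorization_mul (by norm_num) (by norm_num), Finsupp.add_apply, Nat.prime_three.factorization_pow,
      Finsupp.single_eq_same, Nat.factorization_eq_zero_of_not_dvd (by norm_num)]
    norm_num
  by_cases hz : ∀ g ∈ (P : Subgroup G), g * r = r * g
  · exact hn ((show 9 ∣ 27 by norm_num).trans (hcP ▸ card_dvd_of_le fun g hg => mem_cz.2 (hz g hg)))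
  haveI : Nontrivial (P : Subgroup G) := Finite.one_lt_card_iff_nontrivial.1 (by rw [hcP]; norm_num)
  haveI := P.isPGroup'.center_nontrivial
  obtain ⟨⟨z, hzc⟩, hzne⟩ := exists_ne (1 : center (P : Subgroup G))
  have hzr : (z : G) * r = r * z :=
    (congrArg Subtype.val (mem_center_iff.1 hzc ⟨r, hrP⟩)).symm
  let s : cz r := ⟨r, hrC⟩
  have hs : orderOf s = 3 := by rw [← Subgroup.orderOf_coe]; exact hr
  let Q : Sylow 3 (cz r) := Sylow.ofCard (zpowers s) (by rw [Nat.card_zpowers, hs, hk, pow_one])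
  have hzp : IsPGroup 3 (zpowers (⟨z, mem_cz.2 hzr⟩ : cz r)) := by
    refine IsPGroup.of_injective (P.isPGroup'.to_subgroup (zpowers z))
      (⟨⟨fun g => ⟨⟨(g.1 : cz r).1, ?_⟩, ?_⟩, ?_⟩, ?_⟩ : _ →* zpowers z) ?_
    · obtain ⟨n, hn⟩ := mem_zpowers_iff.1 g.2
      rw [← hn]; exact SetLike.coe_mem (z ^ n)
    · obtain ⟨n, hn⟩ := mem_zpowers_iff.1 g.2
      refine mem_zpowers_iff.2 ⟨n, Subtype.ext ?_⟩
      show _ = ((g.1 : cz r) : G)
      rw [← hn]; rfl
    · rfl
    · intro a b; rfl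
    · intro a b e
      exact Subtype.ext (Subtype.ext (congrArg (fun v : zpowers z => ((v : (P : Subgroup G)) : G)) e))
  obtain ⟨Q', hQ'⟩ := hzp.exists_le_sylow
  obtain ⟨g, hg⟩ := MulAction.exists_smul_eq (cz r) Q Q'
  have hmap : (zpowers s).map (MulAut.conj g).toMonoidHom = (Q' : Subgroup (cz r)) :=
    congrArg (fun R : Sylow 3 (cz r) => (R : Subgroup (cz r))) hg
  obtain ⟨w, hw, hwz⟩ := hmap ▸ hQ' (mem_zpowers (⟨z, mem_cz.2 hzr⟩ : cz r))
  obtain ⟨n, rfl⟩ := mem_zpowers_iff.1 hw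
  have hfix : g * s * g⁻¹ = s := mul_inv_eq_iff_eq_mul.2 (Subtype.ext (mem_cz.1 g.2))
  have hzs : (z : G) = r ^ n := by
    have e := congrArg Subtype.val hwz
    rw [show (MulAut.conj g).toMonoidHom (s ^ n) = (g * s * g⁻¹) ^ n by rw [map_zpow]; rfl, hfix] at e
    exact e.symm
  -- so the centre of the Sylow subgroup contains the element
  have hz1 : (z : G) ≠ 1 := fun e => hzne (Subtype.ext (Subtype.ext e))
  refine hz fun q hq => ?_
  exact commute_of_mem_zpowers hr (mem_zpowers_iff.2 ⟨n, hzs.symm⟩) hz1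
    (congrArg Subtype.val (mem_center_iff.1 hzc ⟨q, hq⟩))

/-- Elements of order three commuting with elements of order seven form a single class when real. -/
theorem class_pairs_three {r v : G} (hr : orderOf r = 3) (hv : orderOf v = 7) (hc : r * v = v * r)
    (hreal : IsConj r r⁻¹) : (cz r).index * cnt ↥(cz r) 7 = 23316480 := by
  haveI : Fact (Nat.Prime 7) := ⟨by norm_num⟩
  have hr' : orderOf r⁻¹ = 3 := by rw [orderOf_inv]; exact hr
  have hone : ∀ g w : G, orderOf g = 3 → orderOf w = 7 → g * w = w * g → IsConj r g := by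
    intro g w hg hw hgw
    obtain ⟨c, hcm⟩ := exists_conj_mem h.fac7 hw hv
    have hne : c * w * c⁻¹ ≠ 1 := fun e => by
      rw [conj_eq_one_iff.1 e, orderOf_one] at hw; norm_num at hw
    have hgv : c * g * c⁻¹ * v = v * (c * g * c⁻¹) := commute_of_mem_zpowers hv hcm hne (by
      calc c * g * c⁻¹ * (c * w * c⁻¹) = c * (g * w) * c⁻¹ := by group
        _ = c * (w * g) * c⁻¹ := by rw [hgw]
        _ = _ := by group)
    have hrr : r⁻¹ ≠ r := fun e => by
      have h2 : r ^ 2 = 1 := by rw [sq]; exact inv_eq_iff_mul_eq_one.1 e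
      have := orderOf_dvd_of_pow_eq_one h2
      rw [hr] at this; norm_num at this
    by_contra hn
    have n1 : c * g * c⁻¹ ≠ r := fun e => hn (IsConj.symm (isConj_iff.2 ⟨c, e⟩))
    have n2 : c * g * c⁻¹ ≠ r⁻¹ := fun e => hn (hreal.trans (IsConj.symm (isConj_iff.2 ⟨c, e⟩)))
    let f : Fin 3 → {g : G // orderOf g = 3 ∧ g * v = v * g} :=
      ![⟨r, hr, hc⟩, ⟨r⁻¹, hr', ((show Commute r v from hc).inv_left).eq⟩,
        ⟨c * g * c⁻¹, ((MulAut.conj c).orderOf_eq g).trans hg, hgv⟩]
    have hf : Function.Injective f := by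
      intro i j e
      have e' : (f i).1 = (f j).1 := congrArg Subtype.val e
      fin_cases i <;> fin_cases j <;>
        first
          | rfl
          | exact absurd e' hrr | exact absurd e'.symm hrr | exact absurd e' n1 | exact absurd e'.symm n1
          | exact absurd e' n2 | exact absurd e'.symm n2
    have := Nat.card_le_card_of_injective f hf
    rw [Nat.card_fin, h.seven_three v hv] at this
    omega
  rw [show (23316480 : ℕ) = cnt G 7 * 2 by rw [h.cnt7], ← card_conj,
    ← card_pairs (IsConj r) (fun a b => orderOf b = 7 ∧ b * a = a * b)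
      (fun a ha => by rw [← cnt_cz_eq ha, cnt_cz]), cnt,
    ← card_pairs (fun a => orderOf a = 7) (fun a b => orderOf b = 3 ∧ b * a = a * b) h.seven_three]
  exact Nat.card_congr
    { toFun := fun q => ⟨(q.1.2, q.1.1), q.2.2.1, (orderOf_eq_of_isConj q.2.1).trans hr, q.2.2.2.symm⟩
      invFun := fun q => ⟨(q.1.2, q.1.1), hone _ _ q.2.2.1 q.2.1 q.2.2.2, q.2.1, q.2.2.2.symm⟩
      left_inv := fun _ => rfl
      right_inv := fun _ => rfl }

theorem five_type {r y : G} (hr : orderOf r = 3) (hy : orderOf y = 5) (hc : r * y = y * r) :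
    (IsConj r r⁻¹ ∧ Nat.card (cz r) = 1080 ∨ ¬ IsConj r r⁻¹ ∧ Nat.card (cz r) = 2160) ∧
      Nat.card {g : G // IsConj r g ∨ IsConj r⁻¹ g} = 226688 := by
  classical
  haveI : Fact (Nat.Prime 3) := ⟨Nat.prime_three⟩
  haveI : Fact (Nat.Prime 5) := ⟨by norm_num⟩
  haveI : Fact (Nat.Prime 7) := ⟨by norm_num⟩
  set A := fun g : G => IsConj r g ∨ IsConj r⁻¹ g
  have hr' : orderOf r⁻¹ = 3 := by rw [orderOf_inv]; exact hr
  -- every element of order three commuting with an element of order five is of this type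
  have hone : ∀ g v : G, orderOf g = 3 → orderOf v = 5 → g * v = v * g → A g := by
    intro g v hg hv hgv
    obtain ⟨c, hcm⟩ := exists_conj_mem h.fac5 hv hy
    have hne : c * v * c⁻¹ ≠ 1 := fun e => by
      rw [conj_eq_one_iff.1 e, orderOf_one] at hv; norm_num at hv
    have hgy : c * g * c⁻¹ * y = y * (c * g * c⁻¹) := commute_of_mem_zpowers hy hcm hne (by
      calc c * g * c⁻¹ * (c * v * c⁻¹) = c * (g * v) * c⁻¹ := by group
        _ = c * (v * g) * c⁻¹ := by rw [hgv]
        _ = _ := by group)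
    have fy : (Nat.card (cz y)).factorization 3 = 1 :=
      factorization_one Nat.prime_three (show 3 * 20 = _ from (h.five y hy).symm) (by norm_num)
    obtain ⟨d, hd⟩ := exists_conj_mem fy (x := (⟨c * g * c⁻¹, mem_cz.2 hgy⟩ : cz y))
      (y := (⟨r, mem_cz.2 hc⟩ : cz y))
      (by rw [← Subgroup.orderOf_coe]; exact ((MulAut.conj c).orderOf_eq g).trans hg)
      (by rw [← Subgroup.orderOf_coe]; exact hr)
    obtain ⟨n, hn⟩ := mem_zpowers_iff.1 hd
    have hn' : r ^ n = (d : G) * c * g * ((d : G) * c)⁻¹ := by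
      have e := congrArg Subtype.val hn
      simp only [SubgroupClass.coe_zpow, Subgroup.coe_mul, Subgroup.coe_inv] at e
      rw [e]; group
    rw [← zpow_mod_orderOf, hr] at hn'
    rcases (show n % ((3 : ℕ) : ℤ) = 0 ∨ n % ((3 : ℕ) : ℤ) = 1 ∨ n % ((3 : ℕ) : ℤ) = 2 by omega) with e | e | e <;>
      rw [e] at hn'
    · rw [zpow_zero] at hn'
      rw [conj_eq_one_iff.1 hn'.symm, orderOf_one] at hg
      norm_num at hg
    · rw [zpow_one] at hn'
      exact Or.inl (IsConj.symm (isConj_iff.2 ⟨_, hn'.symm⟩))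
    · have e2 : r ^ (2 : ℤ) = r⁻¹ := by
        rw [zpow_two, eq_inv_iff_mul_eq_one, ← pow_three']
        exact hr ▸ pow_orderOf_eq_one r
      rw [e2] at hn'
      exact Or.inr (IsConj.symm (isConj_iff.2 ⟨_, hn'.symm⟩))
  have hcn : ∀ a, A a → cnt ↥(cz a) 5 = cnt ↥(cz r) 5 := by
    rintro a (e | e)
    · exact cnt_cz_eq e 5
    · rw [cnt_cz_eq e 5, cnt_cz, cnt_cz]
      exact Nat.card_congr (Equiv.subtypeEquivRight fun g => and_congr Iff.rfl
        ⟨fun e' => by simpa using ((show Commute g r⁻¹ from e').inv_right).eq,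
         fun e' => ((show Commute g r from e').inv_right).eq⟩)
  have horder : ∀ a, A a → orderOf a = 3 := by
    rintro a (e | e)
    · exact (orderOf_eq_of_isConj e).trans hr
    · exact (orderOf_eq_of_isConj e).trans hr'
  set m := cnt ↥(cz r) 5 with hmdef
  have hp : Nat.card {g : G // A g} * m = 32643072 := by
    rw [show (32643072 : ℕ) = cnt G 5 * 8 by rw [h.cnt5], ← card_pairs A (fun a b => orderOf b = 5 ∧ b * a = a * b)
      (fun a ha => by rw [← hcn a ha, cnt_cz]), cnt,
      ← card_pairs (fun a => orderOf a = 5) (fun a b => orderOf b = 3 ∧ b * a = a * b) h.five_three]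
    exact Nat.card_congr
      { toFun := fun q => ⟨(q.1.2, q.1.1), q.2.2.1, horder _ q.2.1, q.2.2.2.symm⟩
        invFun := fun q => ⟨(q.1.2, q.1.1), hone _ _ q.2.2.1 q.2.1 q.2.2.2, q.2.1, q.2.2.2.symm⟩
        left_inv := fun _ => rfl
        right_inv := fun _ => rfl }
  have hle : Nat.card {g : G // A g} ≤ 712448 := by
    rw [← h.three_count]
    exact Nat.card_le_card_of_injective (fun g => (⟨g.1, horder _ g.2⟩ : {g : G // orderOf g = 3}))
      fun a b e => Subtype.ext (congrArg Subtype.val e :)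
  have hi : (cz r).index * Nat.card (cz r) = 244823040 := by rw [index_eq_div rfl, h.card]
  obtain ⟨c, hcc, hA⟩ : ∃ c, (IsConj r r⁻¹ ∧ c = 1 ∨ ¬ IsConj r r⁻¹ ∧ c = 2) ∧
      Nat.card {g : G // A g} = (cz r).index * c := by
    by_cases hreal : IsConj r r⁻¹
    · refine ⟨1, Or.inl ⟨hreal, rfl⟩, ?_⟩
      rw [mul_one, ← card_conj]
      exact Nat.card_congr (Equiv.subtypeEquivRight fun g => ⟨fun e => e.elim id hreal.trans, Or.inl⟩)
    · refine ⟨2, Or.inr ⟨hreal, rfl⟩, ?_⟩
      rw [card_split A (IsConj r), mul_two]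
      have e' : (cz r⁻¹).index = (cz r).index := by
        congr 1; ext g
        rw [mem_cz, mem_cz]
        exact ⟨fun e => by simpa using ((show Commute g r⁻¹ from e).inv_right).eq,
          fun e => ((show Commute g r from e).inv_right).eq⟩
      congr 1
      · rw [← card_conj]; exact Nat.card_congr (Equiv.subtypeEquivRight fun g => ⟨fun e => e.2, fun e => ⟨Or.inl e, e⟩⟩)
      · rw [← e', ← card_conj]
        exact Nat.card_congr (Equiv.subtypeEquivRight fun g => ⟨fun e => e.1.resolve_left e.2,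
          fun e => ⟨Or.inr e, fun e1 => hreal (e1.trans e.symm)⟩⟩)
  have hC : 2 * Nat.card (cz r) = 15 * (c * m) := by
    have hi0 : 0 < (cz r).index := Nat.pos_of_ne_zero index_ne_zero_of_finite
    refine Nat.eq_of_mul_eq_mul_left hi0 ?_
    rw [hA, mul_assoc] at hp
    rw [mul_left_comm, hi, mul_left_comm _ 15, hp]
    all_goals norm_num
  have hm4 : 4 ∣ m := by
    have := totient_dvd_cnt (G := ↥(cz r)) (m := 5) (by norm_num)
    rwa [Nat.totient_prime (by norm_num)] at this
  have h5 : 5 ∣ Nat.card (cz r) := hy ▸ dvd_cz_of_commute hc.symm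
  have hm5 : 5 ∣ m + 1 := by
    have := CfsgLib.Nse.frob (G := ↥(cz r)) (n := 5) h5
    rwa [(by norm_num : Nat.Prime 5).divisors, Finset.sum_pair (by norm_num), cnt_one, add_comm] at this
  have hm : 46 ≤ m := by
    by_contra hlt
    have : Nat.card {g : G // A g} * m ≤ 712448 * 45 := Nat.mul_le_mul hle (by omega)
    omega
  have h32 := h.cz_three_two hK hr
  have h9 := h.nine_dvd hK hr
  have hdvd := h.cz_three_dvd hK hr
  have h7 : ¬ 7 ∣ Nat.card (cz r) := by
    intro h7
    obtain ⟨v, hv, hvr⟩ := exists_commuting h7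
    have hc1 : c = 1 := by
      rcases hcc with ⟨-, e⟩ | ⟨hn, -⟩
      · exact e
      exfalso
      obtain ⟨⟨k, hk, hkv⟩⟩ := (Nat.card_ne_zero.1 (show Nat.card {g : G // orderOf g = 2 ∧ g * v = v * g} ≠ 0 by
        rw [h.seven_two v hv]; norm_num)).1
      by_cases hkr : k * r = r * k
      · have h42 : 42 ∣ Nat.card ↥(cz k ⊓ cz r) := by
          refine (show 42 = 2 * 3 * 7 from rfl) ▸ Nat.Coprime.mul_dvd_of_dvd_of_dvd (by norm_num)
            (Nat.Coprime.mul_dvd_of_dvd_of_dvd (by norm_num) ?_ ?_) ?_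
          · exact hk ▸ Subgroup.orderOf_dvd_natCard _ ⟨self_mem_cz k, mem_cz.2 hkr⟩
          · exact hr ▸ Subgroup.orderOf_dvd_natCard _ ⟨mem_cz.2 hkr.symm, self_mem_cz r⟩
          · exact hv ▸ Subgroup.orderOf_dvd_natCard _ ⟨mem_cz.2 hkv.symm, mem_cz.2 hvr⟩
        have := h42.trans (h.inf_dvd hK hk hr hkr.symm)
        norm_num at this
      -- the involution moves the element inside the two members of the centraliser
      refine hn (isConj_iff.2 ⟨k, ?_⟩)
      by_contra hne
      have hk1 : k * r * k⁻¹ ≠ r := fun e => hkr (mul_inv_eq_iff_eq_mul.1 e)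
      have hrr : r⁻¹ ≠ r := fun e => by
        have h2 : r ^ 2 = 1 := by rw [sq]; exact inv_eq_iff_mul_eq_one.1 e
        have := orderOf_dvd_of_pow_eq_one h2
        rw [hr] at this; norm_num at this
      let f : Fin 3 → {g : G // orderOf g = 3 ∧ g * v = v * g} :=
        ![⟨r, hr, hvr.symm⟩, ⟨r⁻¹, hr', ((show Commute r v from hvr.symm).inv_left).eq⟩,
          ⟨k * r * k⁻¹, ((MulAut.conj k).orderOf_eq r).trans hr,
            (((show Commute k v from hkv).mul_left hvr.symm).mul_left (show Commute k v from hkv).inv_left).eq⟩]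
      have hf : Function.Injective f := by
        intro i j e
        have e' : (f i).1 = (f j).1 := congrArg Subtype.val e
        fin_cases i <;> fin_cases j <;>
          first
            | rfl
            | exact absurd e' hrr | exact absurd e'.symm hrr | exact absurd e' hk1 | exact absurd e'.symm hk1
            | exact absurd e' hne | exact absurd e'.symm hne
      have := Nat.card_le_card_of_injective f hf
      rw [Nat.card_fin, h.seven_three v hv] at this
      omega
    rw [hc1, one_mul] at hC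
    have hq := class_pairs_three h hK hr hv hvr.symm (hcc.elim (fun e => e.1) fun e => absurd e.2 (by omega))
    have hm7 : 7 ∣ cnt ↥(cz r) 7 + 1 := by
      have := CfsgLib.Nse.frob (G := ↥(cz r)) (n := 7) h7
      rwa [(by norm_num : Nat.Prime 7).divisors, Finset.sum_pair (by norm_num), cnt_one, add_comm] at this
    have hC7 : 2 * Nat.card (cz r) = 21 * cnt ↥(cz r) 7 := by
      refine Nat.eq_of_mul_eq_mul_left (Nat.pos_of_ne_zero (index_ne_zero_of_finite (H := cz r))) ?_
      rw [mul_left_comm, hi, mul_left_comm _ 21, hq]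
      all_goals norm_num
    exact both_arith hdvd h9 h5 h7 h32 hC hC7 hm4 hm5 hm7
  have hk := five_arith hdvd h9 h5 h7 h32 (hcc.elim (fun e => Or.inl e.2) fun e => Or.inr e.2) hC hm4 hm5 hm
  refine ⟨?_, ?_⟩
  · rcases hcc with ⟨hreal, rfl⟩ | ⟨hreal, rfl⟩ <;> rcases hk with ⟨e, e'⟩ | ⟨e, e'⟩ <;> try omega
    · exact Or.inl ⟨hreal, e'⟩
    · exact Or.inr ⟨hreal, e'⟩
  · rw [hA]
    rcases hk with ⟨rfl, e⟩ | ⟨rfl, e⟩ <;> rw [e] at hi <;> omega

end Local

end CfsgLib.M24Nse
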