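import Cfsg.Agent.M24Nse.Three
import Mathlib.GroupTheory.Transfer

/-!
There are two classes of elements of order three, both real, with centralisers of orders 1080 and 504.
-/

set_option autoImplicit false
set_option linter.style.haveILetI false
set_option linter.unusedSectionVars false
set_option maxHeartbeats 400000

namespace CfsgLib.M24Nse

open Subgroup CfsgLib.ThreeCounts CfsgLib.M12Nse

universe u

variable {G : Type u} [Group G] [Finite G]

/-- The arithmetic of the centraliser order of an element commuting with one of order seven. -/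
theorem seven_arith {n m : ℕ} (hn : n ∣ 15120) (h9 : 9 ∣ n) (h7 : 7 ∣ n) (h5 : ¬ 5 ∣ n) (h32 : ¬ 32 ∣ n)
    (e : 2 * n = 21 * m) (b : 7 ∣ m + 1) (hm : 33 ≤ m) : n = 504 := by
  obtain ⟨j, rfl⟩ : 63 ∣ n := Nat.Coprime.mul_dvd_of_dvd_of_dvd (show Nat.Coprime 9 7 by norm_num) h9 h7
  have hj : j ∣ 240 := Nat.dvd_of_mul_dvd_mul_left (k := 63) (by norm_num) (by norm_num; exact hn)
  have key : ∀ k ∈ Nat.divisors 240, k % 5 ≠ 0 → k % 32 ≠ 0 → (6 * k + 1) % 7 = 0 → 33 ≤ 6 * k → k = 8 := by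
    decide +kernel
  obtain rfl : m = 6 * j := Nat.eq_of_mul_eq_mul_left (show 0 < 21 by norm_num)
    (by rw [← e, ← mul_assoc, ← mul_assoc]; norm_num)
  rw [key j (Nat.mem_divisors.2 ⟨hj, by norm_num⟩)
    (fun h => h5 ((Nat.dvd_of_mod_eq_zero h).trans (dvd_mul_left j 63)))
    (fun h => h32 ((Nat.dvd_of_mod_eq_zero h).trans (dvd_mul_left j 63))) (Nat.mod_eq_zero_of_dvd b) hm]

namespace Local

variable (h : Local G) (hK : Small G)
include h hK

theorem seven_type {r y : G} (hr : orderOf r = 3) (hy : orderOf y = 7) (hc : r * y = y * r) :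
    IsConj r r⁻¹ ∧ Nat.card (cz r) = 504 := by
  classical
  haveI : Fact (Nat.Prime 5) := ⟨by norm_num⟩
  haveI : Fact (Nat.Prime 7) := ⟨by norm_num⟩
  obtain ⟨⟨k, hk, hkv⟩⟩ := (Nat.card_ne_zero.1 (show Nat.card {g : G // orderOf g = 2 ∧ g * y = y * g} ≠ 0 by
    rw [h.seven_two y hy]; norm_num)).1
  have hkr : ¬ k * r = r * k := fun hkr => by
    have h42 : 42 ∣ Nat.card ↥(cz k ⊓ cz r) := by
      refine (show 42 = 2 * 3 * 7 from rfl) ▸ Nat.Coprime.mul_dvd_of_dvd_of_dvd (by norm_num)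
        (Nat.Coprime.mul_dvd_of_dvd_of_dvd (by norm_num) ?_ ?_) ?_
      · exact hk ▸ Subgroup.orderOf_dvd_natCard _ ⟨self_mem_cz k, mem_cz.2 hkr⟩
      · exact hr ▸ Subgroup.orderOf_dvd_natCard _ ⟨mem_cz.2 hkr.symm, self_mem_cz r⟩
      · exact hy ▸ Subgroup.orderOf_dvd_natCard _ ⟨mem_cz.2 hkv.symm, mem_cz.2 hc.symm⟩
    have := h42.trans (h.inf_dvd hK hk hr hkr.symm)
    norm_num at this
  have hr' : orderOf r⁻¹ = 3 := by rw [orderOf_inv]; exact hr
  have hreal : IsConj r r⁻¹ := by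
    refine isConj_iff.2 ⟨k, ?_⟩
    by_contra hne
    have hk1 : k * r * k⁻¹ ≠ r := fun e => hkr (mul_inv_eq_iff_eq_mul.1 e)
    have hrr : r⁻¹ ≠ r := fun e => by
      have h2 : r ^ 2 = 1 := by rw [sq]; exact inv_eq_iff_mul_eq_one.1 e
      have := orderOf_dvd_of_pow_eq_one h2
      rw [hr] at this; norm_num at this
    let f : Fin 3 → {g : G // orderOf g = 3 ∧ g * y = y * g} :=
      ![⟨r, hr, hc⟩, ⟨r⁻¹, hr', ((show Commute r y from hc).inv_left).eq⟩,
        ⟨k * r * k⁻¹, ((MulAut.conj k).orderOf_eq r).trans hr,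
          (((show Commute k y from hkv).mul_left hc).mul_left (show Commute k y from hkv).inv_left).eq⟩]
    have hf : Function.Injective f := by
      intro i j e
      have e' : (f i).1 = (f j).1 := congrArg Subtype.val e
      fin_cases i <;> fin_cases j <;>
        first
          | rfl
          | exact absurd e' hrr | exact absurd e'.symm hrr | exact absurd e' hk1 | exact absurd e'.symm hk1
          | exact absurd e' hne | exact absurd e'.symm hne
    have := Nat.card_le_card_of_injective f hf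
    rw [Nat.card_fin, h.seven_three y hy] at this
    omega
  refine ⟨hreal, ?_⟩
  have h7 : 7 ∣ Nat.card (cz r) := hy ▸ dvd_cz_of_commute hc.symm
  have h5 : ¬ 5 ∣ Nat.card (cz r) := fun hd => by
    obtain ⟨v, hv, hvr⟩ := exists_commuting hd
    rcases (h.five_type hK hr hv hvr.symm).1 with ⟨-, e⟩ | ⟨-, e⟩ <;> rw [e] at h7 <;> norm_num at h7
  have hq := h.class_pairs_three hK hr hy hc hreal
  have hle : (cz r).index ≤ 712448 := by
    have := CfsgLib.Nse.index_centralizer_le r
    rwa [hr, h.three_count] at this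
  have hi := index_eq_div (g := r) rfl
  rw [h.card] at hi
  have hm : 33 ≤ cnt ↥(cz r) 7 := by
    by_contra hlt
    have : (cz r).index * cnt ↥(cz r) 7 ≤ 712448 * 32 := Nat.mul_le_mul hle (by omega)
    omega
  have hm7 : 7 ∣ cnt ↥(cz r) 7 + 1 := by
    have := CfsgLib.Nse.frob (G := ↥(cz r)) (n := 7) h7
    rwa [(by norm_num : Nat.Prime 7).divisors, Finset.sum_pair (by norm_num), cnt_one, add_comm] at this
  have hC7 : 2 * Nat.card (cz r) = 21 * cnt ↥(cz r) 7 := by
    refine Nat.eq_of_mul_eq_mul_left (Nat.pos_of_ne_zero (index_ne_zero_of_finite (H := cz r))) ?_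
    rw [mul_left_comm, hi, mul_left_comm _ 21, hq]
    all_goals norm_num
  exact seven_arith (h.cz_three_dvd hK hr) (h.nine_dvd hK hr) h7 h5 (h.cz_three_two hK hr) hC7 hm7 hm

theorem five_class {r y : G} (hr : orderOf r = 3) (hy : orderOf y = 5) (hc : r * y = y * r) {g : G}
    (hg : orderOf g = 3) : IsConj r g ∨ IsConj r⁻¹ g ∨ Nat.card (cz g) = 504 := by
  classical
  haveI : Fact (Nat.Prime 7) := ⟨by norm_num⟩
  haveI : Fact (Nat.Prime 3) := ⟨Nat.prime_three⟩
  by_contra hcon
  push Not at hcon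
  obtain ⟨hF1, hF2⟩ := h.five_type hK hr hy hc
  obtain ⟨w, hw⟩ := h.exists_order (p := 7) (by norm_num)
  obtain ⟨⟨x, hx, hxw⟩⟩ := (Nat.card_ne_zero.1 (show Nat.card {g : G // orderOf g = 3 ∧ g * w = w * g} ≠ 0 by
    rw [h.seven_three w hw]; norm_num)).1
  obtain ⟨-, hxc⟩ := h.seven_type hK hx hw hxw
  have hxi : (cz x).index = 485760 := by have := index_eq_div hxc; rw [h.card] at this; omega
  have hrc : Nat.card (cz r) ≠ 504 := by
    rcases hF1 with ⟨-, e⟩ | ⟨-, e⟩ <;> rw [e] <;> norm_num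
  have hrinv : Nat.card (cz r⁻¹) = Nat.card (cz r) := by
    congr 1; congr 1; ext v
    rw [mem_cz, mem_cz]
    exact ⟨fun e => by simpa using ((show Commute v r⁻¹ from e).inv_right).eq,
      fun e => ((show Commute v r from e).inv_right).eq⟩
  have hd : ∀ v, IsConj r v ∨ IsConj r⁻¹ v → ¬ IsConj x v := by
    intro v hv hxv
    have e := card_cz_conj hxv
    rcases hv with hv | hv
    · exact hrc (by rw [← card_cz_conj hv, e, hxc])
    · exact hrc (by rw [← hrinv, ← card_cz_conj hv, e, hxc])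
  have hgx : ¬ IsConj x g := fun e => hcon.2.2 (by rw [card_cz_conj e, hxc])
  have hle : Nat.card ({v : G // IsConj r v ∨ IsConj r⁻¹ v} ⊕ ({v : G // IsConj x v} ⊕ PUnit.{1})) ≤
      cnt G 3 := by
    refine Nat.card_le_card_of_injective (Sum.elim
      (fun v => (⟨v.1, v.2.elim (fun e => (orderOf_eq_of_isConj e).trans hr)
        fun e => (orderOf_eq_of_isConj e).trans (by rw [orderOf_inv]; exact hr)⟩ : {v : G // orderOf v = 3}))
      (Sum.elim (fun v => ⟨v.1, (orderOf_eq_of_isConj v.2).trans hx⟩) fun _ => ⟨g, hg⟩)) ?_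
    rintro (a | a | a) (b | b | b) e <;> simp only [Sum.elim_inl, Sum.elim_inr, Subtype.mk.injEq] at e
    · exact congrArg Sum.inl (Subtype.ext e)
    · exact absurd (e ▸ b.2) (hd _ a.2)
    · rcases a.2 with ha | ha
      · exact absurd (e ▸ ha) hcon.1
      · exact absurd (e ▸ ha) hcon.2.1
    · exact absurd (e ▸ a.2) (hd _ b.2)
    · exact congrArg (Sum.inr ∘ Sum.inl) (Subtype.ext e)
    · exact absurd (e ▸ a.2) hgx
    · rcases b.2 with ha | ha
      · exact absurd (e ▸ ha) hcon.1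
      · exact absurd (e ▸ ha) hcon.2.1
    · exact absurd (e ▸ b.2) hgx
    · rfl
  rw [Nat.card_sum, Nat.card_sum, hF2, card_conj, hxi, h.three_count,
    Nat.card_eq_fintype_card (α := PUnit.{1}), Fintype.card_punit] at hle
  omega

/-- An element of the centre of a Sylow subgroup commuting with an element of order seven type is real. -/
theorem five_real {r y : G} (hr : orderOf r = 3) (hy : orderOf y = 5) (hc : r * y = y * r) : IsConj r r⁻¹ := by
  classical
  haveI : Fact (Nat.Prime 3) := ⟨Nat.prime_three⟩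
  haveI : Fact (Nat.Prime 7) := ⟨by norm_num⟩
  haveI : Fact (Nat.Prime 2) := ⟨Nat.prime_two⟩
  obtain ⟨w, hw⟩ := h.exists_order (p := 7) (by norm_num)
  obtain ⟨⟨x, hx, hxw⟩⟩ := (Nat.card_ne_zero.1 (show Nat.card {g : G // orderOf g = 3 ∧ g * w = w * g} ≠ 0 by
    rw [h.seven_three w hw]; norm_num)).1
  obtain ⟨hxreal, hxc⟩ := h.seven_type hK hx hw hxw
  obtain ⟨E0⟩ : Nonempty (Sylow 3 (cz x)) := inferInstance
  have hE0 : Nat.card (E0 : Subgroup (cz x)) = 9 := by
    rw [E0.card_eq_multiplicity, hxc, show (504 : ℕ) = 3 ^ 2 * 56 from rfl,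
      Nat.factorization_mul (by norm_num) (by norm_num), Finsupp.add_apply, Nat.prime_three.factorization_pow,
      Finsupp.single_eq_same, Nat.factorization_eq_zero_of_not_dvd (by norm_num)]
    norm_num
  set E : Subgroup G := (E0 : Subgroup (cz x)).map (cz x).subtype with hEdef
  have hE : Nat.card E = 9 := by rw [hEdef, card_map_of_injective (cz x).subtype_injective, hE0]
  obtain ⟨P, hEP⟩ := (IsPGroup.of_card (p := 3) (n := 2) hE).exists_le_sylow
  have hP : Nat.card (P : Subgroup G) = 27 := by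
    rw [P.card_eq_multiplicity, h.card, show 244823040 = 3 ^ 3 * 9067520 by norm_num,
      Nat.factorization_mul (by norm_num) (by norm_num), Finsupp.add_apply, Nat.prime_three.factorization_pow,
      Finsupp.single_eq_same, Nat.factorization_eq_zero_of_not_dvd (by norm_num)]
    norm_num
  have hxE : x ∈ E := by
    -- the element is central in its centraliser, so lies in every Sylow subgroup there
    let s : cz x := ⟨x, self_mem_cz x⟩
    have hsc : s ∈ center (cz x) := mem_center_iff.2 fun g => Subtype.ext (mem_cz.1 g.2)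
    haveI : (zpowers s).Normal := ⟨fun n hn g => by
      obtain ⟨i, rfl⟩ := mem_zpowers_iff.1 hn
      rw [((show Commute g s from mem_center_iff.1 hsc g).zpow_right i).eq, mul_inv_cancel_right]
      exact zpow_mem (mem_zpowers s) i⟩
    obtain ⟨Q, hQ⟩ := (IsPGroup.of_card (p := 3) (n := 1) (G := zpowers s)
      (by rw [Nat.card_zpowers, ← Subgroup.orderOf_coe, hx, pow_one])).exists_le_sylow
    obtain ⟨g, hg⟩ := MulAction.exists_smul_eq (cz x) Q E0
    refine ⟨s, ?_, rfl⟩
    have e : (Q : Subgroup (cz x)).map (MulAut.conj g).toMonoidHom = (E0 : Subgroup (cz x)) :=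
      congrArg (fun R : Sylow 3 (cz x) => (R : Subgroup (cz x))) hg
    show s ∈ (E0 : Subgroup (cz x))
    rw [← e]
    exact ⟨s, hQ (mem_zpowers s), by
      show g * s * g⁻¹ = s
      rw [mem_center_iff.1 hsc g, mul_inv_cancel_right]⟩
  have hPx : (P : Subgroup G) ⊓ cz x = E := by
    refine (Subgroup.eq_of_le_of_card_ge (le_inf hEP (by rw [hEdef]; exact map_subtype_le _)) ?_).symm
    rw [hE]
    have d1 : Nat.card ↥((P : Subgroup G) ⊓ cz x) ∣ 27 := hP ▸ card_dvd_of_le inf_le_left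
    have d2 : Nat.card ↥((P : Subgroup G) ⊓ cz x) ∣ 504 := hxc ▸ card_dvd_of_le inf_le_right
    exact Nat.le_of_dvd (by norm_num) ((Nat.dvd_gcd d1 d2).trans (by norm_num))
  have hxP : x ∈ (P : Subgroup G) := hEP hxE
  set xP : (P : Subgroup G) := ⟨x, hxP⟩
  have hxZ : xP ∉ center (P : Subgroup G) := by
    intro hc'
    have : (P : Subgroup G) ≤ cz x := fun q hq =>
      mem_cz.2 (congrArg Subtype.val (mem_center_iff.1 hc' ⟨q, hq⟩))
    have := hP ▸ hxc ▸ card_dvd_of_le this
    norm_num at this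
  have hZE : ∀ c ∈ center (P : Subgroup G), (c : G) ∈ E := fun c hc' =>
    hPx ▸ ⟨c.2, mem_cz.2 (congrArg Subtype.val (mem_center_iff.1 hc' xP)).symm⟩
  have hZ3 : Nat.card (center (P : Subgroup G)) = 3 := by
    haveI : Nontrivial (P : Subgroup G) := Finite.one_lt_card_iff_nontrivial.1 (by rw [hP]; norm_num)
    haveI := P.isPGroup'.center_nontrivial
    obtain ⟨n, hn⟩ := IsPGroup.iff_card.1 (P.isPGroup'.to_subgroup (center (P : Subgroup G)))
    have h1 : 1 < Nat.card (center (P : Subgroup G)) := Finite.one_lt_card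
    have hlt : Nat.card (center (P : Subgroup G)) < 9 := by
      rw [← hE]
      have hle : (center (P : Subgroup G)).map (P : Subgroup G).subtype < E := by
        refine lt_of_le_of_ne (fun v ⟨c, hc', e⟩ => e ▸ hZE c hc') fun e => hxZ ?_
        obtain ⟨c, hc', e'⟩ := e.symm ▸ hxE
        rwa [show c = xP from Subtype.ext e'] at hc'
      by_contra hcon
      refine hle.ne (Subgroup.eq_of_le_of_card_ge hle.le ?_)
      rw [card_map_of_injective (P : Subgroup G).subtype_injective]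
      exact not_lt.1 hcon
    rw [hn] at h1 hlt ⊢
    match n with
    | 0 => simp at h1
    | 1 => norm_num
    | n + 2 =>
      have : 3 ^ 2 ≤ 3 ^ (n + 2) := Nat.pow_le_pow_right (by norm_num) (by omega)
      omega
  haveI : IsCyclic (center (P : Subgroup G)) := isCyclic_of_prime_card hZ3
  obtain ⟨⟨zP, hzc⟩, hz⟩ := IsCyclic.exists_generator (α := center (P : Subgroup G))
  set z : G := (zP : G)
  have hzE : z ∈ E := hZE zP hzc
  have hzo : orderOf z = 3 := by
    rw [show orderOf z = orderOf zP from Subgroup.orderOf_coe zP, show zP = ((⟨zP, hzc⟩ : center (P : Subgroup G)) : (P : Subgroup G)) from rfl,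
      Subgroup.orderOf_coe, orderOf_eq_card_of_forall_mem_zpowers hz, hZ3]
  have hz27 : 27 ∣ Nat.card (cz z) := hP ▸ card_dvd_of_le fun q hq =>
    mem_cz.2 (congrArg Subtype.val (mem_center_iff.1 hzc ⟨q, hq⟩))
  have hzn : Nat.card (cz z) ≠ 504 := fun e => by rw [e] at hz27; norm_num at hz27
  suffices hzreal : IsConj z z⁻¹ by
    rcases h.five_class hK hr hy hc hzo with e | e | e
    · obtain ⟨c, hc'⟩ := isConj_iff.1 e
      exact e.trans (hzreal.trans (isConj_iff.2 ⟨c⁻¹, by rw [← hc']; group⟩))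
    · obtain ⟨c, hc'⟩ := isConj_iff.1 e
      exact (isConj_iff.2 ⟨c, by rw [← hc']; group⟩ : IsConj r z⁻¹).trans (hzreal.symm.trans e.symm)
    · exact absurd e hzn
  by_contra hnreal
  -- conjugates of the other generator
  obtain ⟨p, hp⟩ : ∃ p : (P : Subgroup G), p * xP ≠ xP * p := by
    by_contra hcon
    push Not at hcon
    exact hxZ (mem_center_iff.2 hcon)
  have hcomm : p * xP * p⁻¹ * xP⁻¹ ∈ center (P : Subgroup G) := by
    have hq : Nat.card ((P : Subgroup G) ⧸ center (P : Subgroup G)) = 3 ^ 2 := by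
      have := Subgroup.card_eq_card_quotient_mul_card_subgroup (center (P : Subgroup G))
      rw [hP, hZ3] at this
      omega
    rw [← QuotientGroup.eq_one_iff]
    simp only [QuotientGroup.mk_mul, QuotientGroup.mk_inv]
    rw [IsPGroup.commutative_of_card_eq_prime_sq hq (p : (P : Subgroup G) ⧸ center (P : Subgroup G)) xP]
    group
  obtain ⟨j, hj⟩ := mem_zpowers_iff.1 (hz ⟨_, hcomm⟩)
  have hj' : z ^ j * x = (p : G) * x * (p : G)⁻¹ := by
    have e : zP ^ j = p * xP * p⁻¹ * xP⁻¹ := congrArg Subtype.val hj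
    have e' := congrArg Subtype.val e
    simp only [SubgroupClass.coe_zpow, Subgroup.coe_mul, Subgroup.coe_inv] at e'
    rw [show z ^ j = _ from e', inv_mul_cancel_right]
  have hj3 : ¬ (3 : ℤ) ∣ j := fun ⟨i, hi⟩ => hp <| Subtype.ext <| by
    rw [hi, zpow_mul, show z ^ (3 : ℤ) = 1 by exact_mod_cast hzo ▸ pow_orderOf_eq_one z, one_zpow,
      one_mul] at hj'
    exact (mul_inv_eq_iff_eq_mul.1 hj'.symm)
  have hzp : ∀ i : ℤ, (p : G) ^ i * z = z * (p : G) ^ i := fun i =>
    ((show Commute (p : G) z from congrArg Subtype.val (mem_center_iff.1 hzc p)).zpow_left i).eq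
  have hconj : ∀ i : ℕ, IsConj x (z ^ (j * i) * x) := by
    intro i
    induction i with
    | zero => simpa using IsConj.refl x
    | succ i ih =>
      refine ih.trans (isConj_iff.2 ⟨p, ?_⟩)
      calc (p : G) * (z ^ (j * i) * x) * (p : G)⁻¹ = ((p : G) * z ^ (j * (i : ℤ))) * x * (p : G)⁻¹ := by group
        _ = (z ^ (j * (i : ℤ)) * (p : G)) * x * (p : G)⁻¹ := by
          rw [((show Commute (p : G) z from congrArg Subtype.val (mem_center_iff.1 hzc p)).zpow_right (j * i)).eq]
        _ = z ^ (j * (i : ℤ)) * ((p : G) * x * (p : G)⁻¹) := by group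
        _ = _ := by rw [← hj', ← mul_assoc, ← zpow_add, Nat.cast_add, Nat.cast_one, mul_add, mul_one]
  have hall : ∀ a : ℤ, IsConj x (z ^ a * x) := by
    intro a
    obtain ⟨i, hi⟩ : ∃ i : ℕ, (j * i - a) % 3 = 0 := by
      rcases (show j % 3 = 1 ∨ j % 3 = 2 by omega) with e | e
      · exact ⟨(a % 3).toNat, by rw [Int.sub_emod, Int.mul_emod, e]; omega⟩
      · exact ⟨(2 * a % 3).toNat, by rw [Int.sub_emod, Int.mul_emod, e]; omega⟩
    have he : z ^ a = z ^ (j * i) := by
      rw [zpow_eq_zpow_iff_modEq, hzo]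
      exact Int.emod_eq_emod_iff_emod_sub_eq_zero.2 (by omega)
    rw [he]; exact hconj i
  -- an element of the normaliser fixing the seven type element fixes the central one
  let E' : Sylow 3 (cz x) := E0
  have hEab : ∀ a ∈ E, ∀ b ∈ E, a * b = b * a := fun a ha b hb =>
    congrArg Subtype.val (IsPGroup.commutative_of_card_eq_prime_sq (p := 3) (G := E) (by rw [hE]; norm_num) ⟨a, ha⟩ ⟨b, hb⟩)
  have hEgen : ∀ e ∈ E, ∃ a b : ℤ, e = z ^ a * x ^ b := by
    let f : Fin 3 × Fin 3 → E := fun q => ⟨z ^ (q.1 : ℕ) * x ^ (q.2 : ℕ), mul_mem (pow_mem hzE _) (pow_mem hxE _)⟩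
    have hf : Function.Injective f := by
      rintro ⟨a, b⟩ ⟨a', b'⟩ e
      have e0 : z ^ (a : ℤ) * x ^ (b : ℤ) = z ^ (a' : ℤ) * x ^ (b' : ℤ) := by
        rw [zpow_natCast, zpow_natCast, zpow_natCast, zpow_natCast]; exact congrArg Subtype.val e
      have e1 : x ^ ((b : ℤ) - b') = z ^ ((a' : ℤ) - a) := by
        calc x ^ ((b : ℤ) - b') = (z ^ (a : ℤ))⁻¹ * (z ^ (a : ℤ) * x ^ (b : ℤ)) * (x ^ (b' : ℤ))⁻¹ := by group
          _ = (z ^ (a : ℤ))⁻¹ * (z ^ (a' : ℤ) * x ^ (b' : ℤ)) * (x ^ (b' : ℤ))⁻¹ := by rw [e0]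
          _ = _ := by group
      have hb : x ^ ((b : ℤ) - b') = 1 := by
        by_contra hne
        refine hxZ (mem_center_iff.2 fun q => Subtype.ext ?_)
        refine commute_of_mem_zpowers hx (mem_zpowers_iff.2 ⟨_, rfl⟩) hne ?_
        rw [e1]
        exact ((show Commute (q : G) z from congrArg Subtype.val (mem_center_iff.1 hzc q)).zpow_right _).eq
      have ha : z ^ ((a' : ℤ) - a) = 1 := e1 ▸ hb
      rw [← orderOf_dvd_iff_zpow_eq_one, hx] at hb
      rw [← orderOf_dvd_iff_zpow_eq_one, hzo] at ha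
      have := a.isLt
      have := a'.isLt
      have := b.isLt
      have := b'.isLt
      exact Prod.ext (Fin.ext (show (a : ℕ) = a' by omega)) (Fin.ext (show (b : ℕ) = b' by omega))
    intro e he
    obtain ⟨q, hq⟩ := (Nat.bijective_iff_injective_and_card f).2 ⟨hf, by rw [hE]; simp⟩ |>.2 ⟨e, he⟩
    exact ⟨((q.1 : ℕ) : ℤ), ((q.2 : ℕ) : ℤ), by rw [zpow_natCast, zpow_natCast]; exact (congrArg Subtype.val hq).symm⟩
  have hfix : ∀ g : cz x, g ∈ normalizer ((E' : Subgroup (cz x)) : Set (cz x)) → (g : G) * z = z * g := by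
    intro g hg
    let zz : cz x := ⟨z, mem_cz.2 (hEab z hzE x hxE)⟩
    have hzz : zz ∈ (E' : Subgroup (cz x)) := by
      obtain ⟨v, hv, e⟩ := hzE
      rwa [show v = zz from Subtype.ext e] at hv
    have hgz : (g : G) * z * (g : G)⁻¹ ∈ E := ⟨g * zz * g⁻¹, (mem_normalizer_iff.1 hg zz).1 hzz, rfl⟩
    obtain ⟨a, b, hab⟩ := hEgen _ hgz
    have hgo : orderOf ((g : G) * z * (g : G)⁻¹) = 3 := ((MulAut.conj (g : G)).orderOf_eq z).trans hzo
    have hgc : IsConj z ((g : G) * z * (g : G)⁻¹) := isConj_iff.2 ⟨g, rfl⟩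
    rw [← zpow_mod_orderOf x, hx] at hab
    have e2 : x ^ (2 : ℤ) = x⁻¹ := by
      rw [zpow_two, eq_inv_iff_mul_eq_one, ← pow_three']
      exact hx ▸ pow_orderOf_eq_one x
    rcases (show b % ((3 : ℕ) : ℤ) = 0 ∨ b % ((3 : ℕ) : ℤ) = 1 ∨ b % ((3 : ℕ) : ℤ) = 2 by omega) with e | e | e <;>
      rw [e] at hab
    · rw [zpow_zero, mul_one, ← zpow_mod_orderOf, hzo] at hab
      have e3 : z ^ (2 : ℤ) = z⁻¹ := by
        rw [zpow_two, eq_inv_iff_mul_eq_one, ← pow_three']
        exact hzo ▸ pow_orderOf_eq_one z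
      rcases (show a % ((3 : ℕ) : ℤ) = 0 ∨ a % ((3 : ℕ) : ℤ) = 1 ∨ a % ((3 : ℕ) : ℤ) = 2 by omega) with e | e | e <;>
        rw [e] at hab
      · rw [zpow_zero] at hab
        rw [hab, orderOf_one] at hgo
        norm_num at hgo
      · rw [zpow_one] at hab
        exact mul_inv_eq_iff_eq_mul.1 hab
      · rw [e3] at hab
        exact absurd (hab ▸ hgc) hnreal
    · exfalso
      rw [zpow_one] at hab
      exact hzn (by rw [← card_cz_conj hgc, hab, card_cz_conj (hall a), hxc])
    · exfalso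
      rw [e2] at hab
      -- a conjugate of the inverse
      obtain ⟨c, hc'⟩ := isConj_iff.1 (hall (-a))
      have hinv : IsConj x⁻¹ (z ^ a * x⁻¹) := isConj_iff.2 ⟨c, by
        rw [← conj_inv, hc', mul_inv_rev, ← zpow_neg, neg_neg]
        exact (((show Commute z x from hEab z hzE x hxE).inv_right).zpow_left a).eq.symm⟩
      exact hzn (by rw [← card_cz_conj hgc, hab, card_cz_conj (hxreal.trans hinv), hxc])
  -- so there is a normal complement of order 56
  have hN : normalizer ((E' : Subgroup (cz x)) : Set (cz x)) ≤ centralizer ((E' : Subgroup (cz x)) : Set (cz x)) := by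
    intro g hg
    rw [mem_centralizer_iff]
    intro v hv
    obtain ⟨a, b, hab⟩ := hEgen (v : G) ⟨v, hv, rfl⟩
    refine Subtype.ext ?_
    show (v : G) * g = g * v
    rw [hab]
    exact ((((show Commute (g : G) z from hfix g hg).zpow_right a).mul_right
      ((show Commute (g : G) x from mem_cz.1 g.2).zpow_right b))).eq.symm
  set M := (MonoidHom.transferSylow E' hN).ker with hMdef
  have hcompl : M.IsComplement' (E' : Subgroup (cz x)) := MonoidHom.ker_transferSylow_isComplement' E' hN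
  have hM56 : Nat.card M = 56 := by
    have := hcompl.card_mul
    rw [hE0, hxc] at this
    omega
  have hMi : M.index = 9 := by
    have := M.card_mul_index
    rw [hM56, hxc] at this
    omega
  have hin : ∀ g : cz x, g ^ 7 = 1 → g ∈ M := by
    intro g hg
    have h9 : (g : cz x ⧸ M) ^ 9 = 1 := by rw [← hMi]; exact pow_card_eq_one'
    have h7 : (g : cz x ⧸ M) ^ 7 = 1 := by rw [← QuotientGroup.mk_pow, hg, QuotientGroup.mk_one]
    rw [← QuotientGroup.eq_one_iff, ← orderOf_eq_one_iff]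
    exact Nat.eq_one_of_dvd_coprimes (show Nat.Coprime 7 9 by norm_num) (orderOf_dvd_of_pow_eq_one h7)
      (orderOf_dvd_of_pow_eq_one h9)
  have hm7 : cnt ↥(cz x) 7 = 48 := by
    have hq := h.class_pairs_three hK hx hw hxw hxreal
    have := index_eq_div hxc
    rw [h.card] at this
    rw [show (cz x).index = 485760 by omega] at hq
    omega
  have hseven : Nat.card {g : cz x // g ^ 7 = 1} = 49 := by
    rw [show 49 = cnt ↥(cz x) 7 + 1 by rw [hm7],
      show (cnt ↥(cz x) 7 + 1) = cnt ↥(cz x) 7 + cnt ↥(cz x) 1 by rw [cnt_one],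
      card_split _ (fun g : cz x => orderOf g = 7)]
    congr 1
    · exact Nat.card_congr (Equiv.subtypeEquivRight fun g =>
        ⟨fun e => e.2, fun e => ⟨e ▸ pow_orderOf_eq_one g, e⟩⟩)
    · exact Nat.card_congr (Equiv.subtypeEquivRight fun g => ⟨fun e =>
        ((Nat.dvd_prime (by norm_num)).1 (orderOf_dvd_of_pow_eq_one e.1)).resolve_right e.2,
        fun e => ⟨by rw [orderOf_eq_one_iff.1 e, one_pow], by rw [e]; norm_num⟩⟩)
  have hT : Nat.card {g : cz x // g ∈ M ∧ ¬ g ^ 7 = 1} = 7 := by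
    have h1 := card_split (fun g : cz x => g ∈ M) (fun g => g ^ 7 = 1)
    rw [show Nat.card {g : cz x // g ∈ M} = 56 from hM56,
      Nat.card_congr (Equiv.subtypeEquivRight fun g : cz x => (⟨fun e => e.2, fun e => ⟨hin g e, e⟩⟩ :
        (g ∈ M ∧ g ^ 7 = 1) ↔ g ^ 7 = 1)), hseven] at h1
    omega
  let zz : cz x := ⟨z, mem_cz.2 (hEab z hzE x hxE)⟩
  have hzz3 : zz ^ 3 ^ 1 = 1 := Subtype.ext (by rw [pow_one]; exact hzo ▸ pow_orderOf_eq_one z)
  have hmod := card_modEq_fixed (p := 3) hzz3 (fun g => g ∈ M ∧ ¬ g ^ 7 = 1) fun g => by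
    haveI : M.Normal := MonoidHom.normal_ker _
    constructor
    · rintro ⟨hg, hg7⟩
      exact ⟨this.conj_mem g hg zz, fun e => hg7 (conj_eq_one_iff.1 ((conj_pow).symm.trans e))⟩
    · rintro ⟨hg, hg7⟩
      refine ⟨by simpa [mul_assoc] using this.conj_mem _ hg zz⁻¹, fun e => hg7 ?_⟩
      rw [conj_pow, e]; simp
  rw [hT] at hmod
  obtain ⟨⟨g, ⟨hgM, hg7⟩, hgz⟩⟩ := (Nat.card_ne_zero.1 (show Nat.card {g : cz x // (g ∈ M ∧ ¬ g ^ 7 = 1) ∧ g * zz = zz * g} ≠ 0 by
    unfold Nat.ModEq at hmod; omega)).1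
  have hg56 : orderOf g ∣ 56 := hM56 ▸ Subgroup.orderOf_dvd_natCard _ hgM
  have h2 : 2 ∣ orderOf g := by
    by_contra hodd
    have hc8 : Nat.Coprime (orderOf g) 8 :=
      (Nat.Coprime.pow_left 3 ((Nat.Prime.coprime_iff_not_dvd Nat.prime_two).2 hodd)).symm
    exact hg7 (orderOf_dvd_iff_pow_eq_one.1 (hc8.dvd_of_dvd_mul_left (show orderOf g ∣ 8 * 7 from hg56)))
  obtain ⟨m, hm⟩ := h2
  set u : G := ((g ^ m : cz x) : G)
  have hu : orderOf u = 2 := by
    rw [Subgroup.orderOf_coe, orderOf_pow' g (by rintro rfl; have := orderOf_pos g; omega), hm,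
      Nat.gcd_eq_right (dvd_mul_left m 2), Nat.mul_div_cancel]
    rcases Nat.eq_zero_or_pos m with rfl | hm0
    · have := orderOf_pos g; omega
    · exact hm0
  have hux : x * u = u * x := (mem_cz.1 (g ^ m).2).symm
  have huz : Commute u z := by
    have := congrArg Subtype.val ((show Commute g zz from hgz).pow_left m).eq
    exact this
  refine h.not_nine hK hu hx hux (hE ▸ card_dvd_of_le fun e he => ?_)
  obtain ⟨a, b, rfl⟩ := hEgen e he
  refine ⟨mem_cz.2 ?_, mem_cz.2 ?_⟩
  · exact ((huz.zpow_right a).mul_right ((show Commute u x from hux.symm).zpow_right b)).eq.symm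
  · exact (((show Commute x z from hEab x hxE z hzE).zpow_right a).mul_right ((Commute.refl x).zpow_right b)).eq.symm

/-- Elements of order three are real, with centralisers of order 1080 or 504. -/
theorem three_cases {g : G} (hg : orderOf g = 3) :
    IsConj g g⁻¹ ∧ (Nat.card (cz g) = 1080 ∨ Nat.card (cz g) = 504) := by
  haveI : Fact (Nat.Prime 5) := ⟨by norm_num⟩
  haveI : Fact (Nat.Prime 7) := ⟨by norm_num⟩
  obtain ⟨v, hv⟩ := h.exists_order (p := 5) (by norm_num)
  obtain ⟨⟨r, hr, hrv⟩⟩ := (Nat.card_ne_zero.1 (show Nat.card {g : G // orderOf g = 3 ∧ g * v = v * g} ≠ 0 by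
    rw [h.five_three v hv]; norm_num)).1
  have hreal := h.five_real hK hr hv hrv
  have hrc : Nat.card (cz r) = 1080 := by
    rcases (h.five_type hK hr hv hrv).1 with ⟨-, e⟩ | ⟨e, -⟩
    · exact e
    · exact absurd hreal e
  have hcase : ∀ e : IsConj r g, IsConj g g⁻¹ ∧ (Nat.card (cz g) = 1080 ∨ Nat.card (cz g) = 504) := fun e => by
    refine ⟨?_, Or.inl (by rw [card_cz_conj e, hrc])⟩
    obtain ⟨c, hc⟩ := isConj_iff.1 e
    exact e.symm.trans (hreal.trans (isConj_iff.2 ⟨c, by rw [← hc]; group⟩))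
  rcases h.five_class hK hr hv hrv hg with e | e | e
  · exact hcase e
  · exact hcase (hreal.trans e)
  · have h7 : 7 ∣ Nat.card (cz g) := by rw [e]; norm_num
    obtain ⟨w, hw, hwg⟩ := exists_commuting h7
    exact ⟨(h.seven_type hK hg hw hwg.symm).1, Or.inr e⟩

/-- The centraliser of a commuting involution and element of order three. -/
theorem inf_eq {u g : G} (hu : orderOf u = 2) (hg : orderOf g = 3) (hc : g * u = u * g) :
    Nat.card ↥(cz u ⊓ cz g) = 24 := by
  haveI : Fact (Nat.Prime 3) := ⟨Nat.prime_three⟩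
  have hd := h.inf_dvd hK hu hg hc
  have hle : Nat.card ↥(cz u ⊓ cz g) ∣ Nat.card (cz g) := card_dvd_of_le inf_le_right
  have h16 : ¬ 16 ∣ Nat.card ↥(cz u ⊓ cz g) := fun h16 => by
    have := h16.trans hle
    rcases (h.three_cases hK hg).2 with e | e <;> rw [e] at this <;> norm_num at this
  -- the normaliser induces at most two automorphisms
  set x : cz u := ⟨g, mem_cz.2 hc⟩
  have hx : orderOf x = 3 := by rw [← Subgroup.orderOf_coe]; exact hg
  have hN := h.card_norm_three hK hu x hx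
  have h24 : 24 ≤ Nat.card ↥(cz u ⊓ cz g) := by
    rw [show cz g = cz (x : G) from rfl, ← card_cz_sub]
    set N := normalizer (zpowers x : Set (cz u)) with hNdef
    classical
    let f : N → cz u := fun n => (n : cz u) * x * (n : cz u)⁻¹
    have hr : ∀ n : N, f n = x ∨ f n = x⁻¹ := by
      intro n
      obtain ⟨i, hi⟩ := mem_zpowers_iff.1 ((mem_normalizer_iff.1 n.2 x).1 (mem_zpowers x))
      show (n : cz u) * x * (n : cz u)⁻¹ = x ∨ (n : cz u) * x * (n : cz u)⁻¹ = x⁻¹
      rw [← hi, ← zpow_mod_orderOf, hx]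
      rcases (show i % ((3 : ℕ) : ℤ) = 0 ∨ i % ((3 : ℕ) : ℤ) = 1 ∨ i % ((3 : ℕ) : ℤ) = 2 by omega) with e | e | e <;>
        rw [← zpow_mod_orderOf, hx, e] at hi <;> rw [e]
      · rw [zpow_zero] at hi
        rw [conj_eq_one_iff.1 hi.symm, orderOf_one] at hx
        norm_num at hx
      · exact Or.inl (zpow_one x)
      · refine Or.inr ?_
        rw [zpow_two, eq_inv_iff_mul_eq_one, ← pow_three']
        exact hx ▸ pow_orderOf_eq_one x
    have hK1 : Nat.card {n : N // f n = x} ≤ Nat.card (cz x) :=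
      Nat.card_le_card_of_injective (fun n => (⟨n.1.1, mem_cz.2 (mul_inv_eq_iff_eq_mul.1 n.2)⟩ : cz x))
        fun a b e => Subtype.ext (Subtype.ext (congrArg Subtype.val e :))
    have hK2 : Nat.card {n : N // ¬ f n = x} ≤ Nat.card (cz x) := by
      by_cases hne : ∃ n : N, ¬ f n = x
      · obtain ⟨n0, hn0⟩ := hne
        refine Nat.card_le_card_of_injective (fun n => (⟨(n0.1)⁻¹ * n.1.1, mem_cz.2 ?_⟩ : cz x)) fun a b e =>
          Subtype.ext (Subtype.ext (mul_left_cancel (congrArg Subtype.val e :)))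
        refine mul_inv_eq_iff_eq_mul.1 ?_
        have e1 : (n.1 : cz u) * x * (n.1 : cz u)⁻¹ = x⁻¹ := (hr n.1).resolve_left n.2
        have e2 : (n0 : cz u) * x * (n0 : cz u)⁻¹ = x⁻¹ := (hr n0).resolve_left hn0
        rw [← e2] at e1
        calc (n0 : cz u)⁻¹ * n.1 * x * ((n0 : cz u)⁻¹ * n.1)⁻¹ = (n0 : cz u)⁻¹ * ((n.1 : cz u) * x * (n.1 : cz u)⁻¹) * n0 := by group
          _ = x := by rw [e1]; group
      · haveI : IsEmpty {n : N // ¬ f n = x} := ⟨fun n => hne ⟨n.1, n.2⟩⟩
        simp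
    have hs := card_split (fun _ : N => True) (fun n => f n = x)
    have e1 : Nat.card {n : N // True} = 48 := by
      rw [Nat.card_congr (Equiv.subtypeUnivEquiv (fun _ => trivial))]; exact hN
    have e2 : Nat.card {n : N // True ∧ f n = x} = Nat.card {n : N // f n = x} :=
      Nat.card_congr (Equiv.subtypeEquivRight fun n => by simp)
    have e3 : Nat.card {n : N // True ∧ ¬ f n = x} = Nat.card {n : N // ¬ f n = x} :=
      Nat.card_congr (Equiv.subtypeEquivRight fun n => by simp)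
    omega
  have key : ∀ n ∈ Nat.divisors 48, n % 16 ≠ 0 → 24 ≤ n → n = 24 := by decide +kernel
  exact key _ (Nat.mem_divisors.2 ⟨hd, by norm_num⟩) (fun e => h16 (Nat.dvd_of_mod_eq_zero e)) h24

end Local

end CfsgLib.M24Nse
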