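import Cfsg.Agent.M24Nse.LocalDef
import Cfsg.Agent.Nse.Basic

/-!
Consequences of the local data: conjugacy of the Sylow subgroups of prime order and their counts.
-/

set_option autoImplicit false
set_option linter.style.haveILetI false
set_option linter.unusedSectionVars false

namespace CfsgLib.M24Nse

open Subgroup CfsgLib.ThreeCounts CfsgLib.M12Nse

universe u

variable {G : Type u} [Group G] [Finite G]

theorem cnt_cz (a : G) (n : ℕ) :
    cnt ↥(cz a) n = Nat.card {g : G // orderOf g = n ∧ g * a = a * g} :=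
  Nat.card_congr
    { toFun := fun g => ⟨g.1.1, by rw [Subgroup.orderOf_coe]; exact g.2, mem_centralizer_singleton_iff.1 g.1.2⟩
      invFun := fun g => ⟨⟨g.1, mem_centralizer_singleton_iff.2 g.2.2⟩, by rw [← Subgroup.orderOf_coe]; exact g.2.1⟩
      left_inv := fun _ => rfl
      right_inv := fun _ => rfl }

/-- A prime divisor of a centraliser gives a commuting element of that order. -/
theorem exists_commuting {p : ℕ} [Fact p.Prime] {a : G} (h : p ∣ Nat.card (cz a)) :
    ∃ g : G, orderOf g = p ∧ g * a = a * g := by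
  obtain ⟨g, hg⟩ := exists_prime_orderOf_dvd_card' (G := cz a) p h
  exact ⟨g.1, by rw [Subgroup.orderOf_coe]; exact hg, mem_cz.1 g.2⟩

theorem dvd_cz_of_commute {a g : G} (h : g * a = a * g) : orderOf g ∣ Nat.card (cz a) :=
  Subgroup.orderOf_dvd_natCard _ (mem_cz.2 h)

/-- Sylow subgroups of prime order are conjugate. -/
theorem exists_conj_mem {p : ℕ} [hp : Fact p.Prime] (hk : (Nat.card G).factorization p = 1) {x y : G}
    (hx : orderOf x = p) (hy : orderOf y = p) : ∃ g : G, g * x * g⁻¹ ∈ zpowers y := by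
  let P : Sylow p G := Sylow.ofCard (zpowers x) (by rw [Nat.card_zpowers, hx, hk, pow_one])
  let Q : Sylow p G := Sylow.ofCard (zpowers y) (by rw [Nat.card_zpowers, hy, hk, pow_one])
  obtain ⟨g, hg⟩ := MulAction.exists_smul_eq G P Q
  have h : (zpowers x).map (MulAut.conj g).toMonoidHom = zpowers y :=
    congrArg (fun R : Sylow p G => (R : Subgroup G)) hg
  exact ⟨g, h ▸ Subgroup.mem_map.2 ⟨x, mem_zpowers x, rfl⟩⟩

/-- Elements of prime order in a cyclic group of that order generate it. -/
theorem commute_of_mem_zpowers {p : ℕ} [hp : Fact p.Prime] {x y a : G} (hy : orderOf y = p)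
    (hx : x ∈ zpowers y) (hx1 : x ≠ 1) (h : a * x = x * a) : a * y = y * a := by
  have he : zpowers x = zpowers y := by
    refine Subgroup.eq_of_le_of_card_ge (zpowers_le.2 hx) ?_
    rw [Nat.card_zpowers, Nat.card_zpowers, hy]
    obtain ⟨k, rfl⟩ := mem_zpowers_iff.1 hx
    have hd : orderOf (y ^ k) ∣ p := orderOf_dvd_of_pow_eq_one (by
      rw [← zpow_natCast, ← zpow_mul, mul_comm, zpow_mul, zpow_natCast, ← hy, pow_orderOf_eq_one, one_zpow])
    rcases (Nat.dvd_prime hp.out).1 hd with h1 | h1
    · exact absurd (orderOf_eq_one_iff.1 h1) hx1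
    · exact h1.ge
  obtain ⟨k, hk⟩ := mem_zpowers_iff.1 (he ▸ mem_zpowers y : y ∈ zpowers x)
  rw [← hk]
  exact ((show Commute a x from h).zpow_right k).eq

/-- The pairs of commuting elements from a class of involutions and the elements of order `p`. -/
theorem class_pairs {p n : ℕ} {t : G} (ht : orderOf t = 2)
    (hn : ∀ y : G, orderOf y = p → Nat.card {g : G // orderOf g = 2 ∧ g * y = y * g} = n)
    (hone : ∀ t' y : G, orderOf t' = 2 → orderOf y = p → t' * y = y * t' → IsConj t t') :
    (cz t).index * cnt ↥(cz t) p = cnt G p * n := by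
  have e1 : (cz t).index * cnt ↥(cz t) p =
      Nat.card {q : G × G // IsConj t q.1 ∧ orderOf q.2 = p ∧ q.2 * q.1 = q.1 * q.2} := by
    rw [card_pairs (IsConj t) (fun a b => orderOf b = p ∧ b * a = a * b) (m := cnt ↥(cz t) p), card_conj]
    intro a ha
    obtain ⟨c, rfl⟩ := isConj_iff.1 ha
    rw [cnt_cz]
    refine (Nat.card_congr (conjEquiv c _ _ fun g => ?_)).symm
    refine and_congr (by rw [show orderOf (c * g * c⁻¹) = orderOf g from (MulAut.conj c).orderOf_eq g]) ?_
    constructor
    · intro e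
      calc c * g * c⁻¹ * (c * t * c⁻¹) = c * (g * t) * c⁻¹ := by group
        _ = _ := by rw [e]; group
    · intro e
      have := congrArg (fun v => c⁻¹ * v * c) e
      simpa [mul_assoc] using this
  have e2 : cnt G p * n =
      Nat.card {q : G × G // orderOf q.1 = p ∧ orderOf q.2 = 2 ∧ q.2 * q.1 = q.1 * q.2} := by
    rw [card_pairs (fun a => orderOf a = p) (fun a b => orderOf b = 2 ∧ b * a = a * b) hn]; rfl
  rw [e1, e2]
  exact Nat.card_congr
    { toFun := fun q => ⟨(q.1.2, q.1.1), q.2.2.1, (orderOf_eq_of_isConj q.2.1).trans ht, q.2.2.2.symm⟩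
      invFun := fun q => ⟨(q.1.2, q.1.1), hone _ _ q.2.2.1 q.2.1 q.2.2.2, q.2.1, q.2.2.2.symm⟩
      left_inv := fun _ => rfl
      right_inv := fun _ => rfl }

namespace Local

variable (h : Local G)
include h

theorem factorization {p m : ℕ} (hp : p.Prime) (he : p * m = 244823040) (hm : ¬ p ∣ m) :
    (Nat.card G).factorization p = 1 := by
  have hm0 : m ≠ 0 := fun e => hm (by rw [e]; exact dvd_zero p)
  rw [h.card, ← he, Nat.factorization_mul hp.ne_zero hm0, Finsupp.add_apply, hp.factorization_self,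
    Nat.factorization_eq_zero_of_not_dvd hm]

theorem fac5 : (Nat.card G).factorization 5 = 1 :=
  h.factorization (by norm_num) (show 5 * 48964608 = 244823040 by norm_num) (by norm_num)

theorem fac7 : (Nat.card G).factorization 7 = 1 :=
  h.factorization (by norm_num) (show 7 * 34974720 = 244823040 by norm_num) (by norm_num)

theorem fac11 : (Nat.card G).factorization 11 = 1 :=
  h.factorization (by norm_num) (show 11 * 22256640 = 244823040 by norm_num) (by norm_num)

theorem exists_order {p : ℕ} [Fact p.Prime] (hd : p ∣ 244823040) : ∃ g : G, orderOf g = p :=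
  exists_prime_orderOf_dvd_card' p (h.card.symm ▸ hd)

/-- The elements of prime order from the order of a normaliser. -/
theorem cnt_prime {p N n : ℕ} [hp : Fact p.Prime] (hd : p ∣ 244823040)
    (hk : (Nat.card G).factorization p = 1) (hN : N * n = 244823040)
    (hnorm : ∀ y : G, orderOf y = p → Nat.card (normalizer (zpowers y : Set G)) = N) :
    cnt G p = n * (p - 1) := by
  obtain ⟨y, hy⟩ := h.exists_order hd
  rw [CfsgLib.Nse.card_sylow_prime hk]
  let P : Sylow p G := Sylow.ofCard (zpowers y) (by rw [Nat.card_zpowers, hy, hk, pow_one])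
  have h2 : Nat.card (Sylow p G) = (normalizer (zpowers y : Set G)).index := P.card_eq_index_normalizer
  have h3 := (normalizer (zpowers y : Set G)).card_mul_index
  rw [hnorm y hy, h.card, ← hN] at h3
  rw [h2, Nat.eq_of_mul_eq_mul_left (Nat.pos_of_ne_zero fun e => by rw [e] at hN; norm_num at hN) h3]

theorem cnt5 : cnt G 5 = 4080384 := by
  haveI : Fact (Nat.Prime 5) := ⟨by norm_num⟩
  exact h.cnt_prime (N := 240) (n := 1020096) (by norm_num) h.fac5 (by norm_num) h.five_norm

theorem cnt7 : cnt G 7 = 11658240 := by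
  haveI : Fact (Nat.Prime 7) := ⟨by norm_num⟩
  exact h.cnt_prime (N := 126) (n := 1943040) (by norm_num) h.fac7 (by norm_num) h.seven_norm

theorem cnt11 : cnt G 11 = 22256640 := by
  haveI : Fact (Nat.Prime 11) := ⟨by norm_num⟩
  exact h.cnt_prime (N := 110) (n := 2225664) (by norm_num) h.fac11 (by norm_num) h.eleven_norm

/-- A centraliser of an element of order prime to `11` and `23` has order prime to them. -/
theorem not_dvd_cz {a : G} {n : ℕ} (ha : orderOf a = n) (hn : ¬ n ∣ 11) (hn' : ¬ n ∣ 23) :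
    ¬ 11 ∣ Nat.card (cz a) ∧ ¬ 23 ∣ Nat.card (cz a) := by
  constructor <;> intro hd
  · haveI : Fact (Nat.Prime 11) := ⟨by norm_num⟩
    obtain ⟨g, hg, hga⟩ := exists_commuting hd
    exact hn (ha ▸ h.eleven g hg ▸ dvd_cz_of_commute hga.symm)
  · haveI : Fact (Nat.Prime 23) := ⟨by norm_num⟩
    obtain ⟨g, hg, hga⟩ := exists_commuting hd
    exact hn' (ha ▸ h.twentyThree g hg ▸ dvd_cz_of_commute hga.symm)

/-- Outside 11 and 23 a centraliser order divides the rest of the group order. -/
theorem cz_dvd {a : G} {n : ℕ} (ha : orderOf a = n) (hn : ¬ n ∣ 11) (hn' : ¬ n ∣ 23) :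
    Nat.card (cz a) ∣ 967680 := by
  obtain ⟨h11, h23⟩ := h.not_dvd_cz ha hn hn'
  have a11 := ((Nat.Prime.coprime_iff_not_dvd (by norm_num)).2 h11).symm
  have a23 := ((Nat.Prime.coprime_iff_not_dvd (by norm_num)).2 h23).symm
  refine a23.dvd_of_dvd_mul_right (a11.dvd_of_dvd_mul_right ?_)
  show Nat.card (cz a) ∣ 967680 * 23 * 11
  exact (show 244823040 = 967680 * 23 * 11 by norm_num) ▸ h.card ▸ card_subgroup_dvd_card _

end Local

end CfsgLib.M24Nse
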